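import Cfsg.Agent.L5Type.Balance

/-!
The signalizer on the elementary subgroup of the first axis.
-/

set_option autoImplicit false
set_option linter.unusedSectionVars false
set_option linter.style.haveILetI false
set_option maxRecDepth 100000

namespace CfsgLib.L5Type

open CfsgLib.HeldUniq
open CfsgLib.Trichotomy (kind isT patV)
open CfsgLib.SylL34 (Oc Oc_le Oc_odd Oc_comm cent_le_normalizer_Oc conj_mem_Oc conj_mem_of_normalizer cj cj_Oc)

/-- The first axis with the centre. -/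
def e1L : List Nat := (List.range 16).map fun i => Mdl.mk (i % 8) 0 (i / 8) Mdl.mone Mdl.mone

theorem e1L_chk : e1L.Nodup ∧ e1L.length = 16 ∧ Mdl.one ∈ e1L ∧ Mdl.tN ∈ e1L ∧ 17926276 ∈ e1L ∧
    (∀ a ∈ e1L, inSB a = true ∧ Mdl.mulN a a = Mdl.one ∧ (a = Mdl.one ∨ kind a = 0 ∨ kind a = 1)) ∧
    (∀ a ∈ e1L, ∀ b ∈ e1L, Mdl.mulN a b ∈ e1L) := by decide +kernel

theorem e1L_inS {a : Nat} (ha : a ∈ e1L) : InS a := (inSB_iff a).1 (e1L_chk.2.2.2.2.2.1 a ha).1

/-- The four-group in the axis and in both elementary subgroups of order 64. -/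
def fourL : List Nat := [Mdl.one, Mdl.tN, 17926276, 17926340]

theorem fourL_chk : fourL.Nodup ∧ Mdl.one ∈ fourL ∧ (∀ a ∈ fourL, a ∈ e1L ∧ a ∈ wL false ∧ a ∈ wL true) ∧
    (∀ a ∈ fourL, ∀ b ∈ fourL, Mdl.mulN a b ∈ fourL) := by decide +kernel

theorem e1_matrix : (Mdl.slPairs.all fun x => e1L.all fun a => e1L.any fun b =>
    Nat.beq (Mdl.mulN (Mdl.atPair x 0) a) (Mdl.mulN b (Mdl.atPair x 0))) = true := by decide +kernel

theorem e1_core : ((List.range 128).all fun q => e1L.all fun a => e1L.any fun b =>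
    Nat.beq (Mdl.mulN (Mdl.atPair (Mdl.mone, Mdl.mone) q) a) (Mdl.mulN b (Mdl.atPair (Mdl.mone, Mdl.mone) q))) = true := by
  decide +kernel

universe u

theorem e1_normal {H : Type u} [Group H] [Finite H] {t : H} (F : HeldUniq.Frame t) {n : Nat}
    (hn : Mdl.mem n = true) : ∀ a ∈ e1L, ∃ b ∈ e1L, Mdl.mulN n a = Mdl.mulN b n := by
  intro a ha
  obtain ⟨hsplit, -⟩ := Mdl.split_code hn
  have hx := (Mdl.mem_iff_pair n).1 hn
  obtain ⟨b, hb, e1⟩ := List.any_eq_true.1 (List.all_eq_true.1 (List.all_eq_true.1 e1_matrix _ hx) a ha)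
  obtain ⟨c, hc, e2⟩ := List.any_eq_true.1 (List.all_eq_true.1 (List.all_eq_true.1 e1_core (n % 128)
    (List.mem_range.2 (Nat.mod_lt _ (by decide)))) b hb)
  rw [Nat.beq_eq] at e1 e2
  refine ⟨c, hc, ?_⟩
  set q := Mdl.atPair (Mdl.mone, Mdl.mone) (n % 128)
  set r := Mdl.atPair (Mdl.gOf n, Mdl.hOf n) 0
  have hq : Mdl.mem q = true := by
    have hcf := Mdl.atPair_fields (x := (Mdl.mone, Mdl.mone)) (by decide : Mdl.mone < 512)
      (Nat.mod_lt n (by decide : 0 < 128))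
    rw [Mdl.mem_iff_pair, hcf.2.1, hcf.2.2]; exact Mdl.mone_mem
  have hr : Mdl.mem r = true := by
    have hcf := Mdl.atPair_fields (x := (Mdl.gOf n, Mdl.hOf n)) (Mdl.pair_facts hx).2.2.1
      (q := 0) (by decide)
    rw [Mdl.mem_iff_pair, hcf.2.1, hcf.2.2]; exact hx
  have ham := (e1L_inS ha).mem
  have hbm := (e1L_inS hb).mem
  have hcm := (e1L_inS hc).mem
  refine F.inj _ _ (Mdl.mem_mulN hn ham) (Mdl.mem_mulN hcm hn) ?_
  rw [hsplit, F.map_mul _ _ (Mdl.mem_mulN hq hr) ham, F.map_mul _ _ hcm (Mdl.mem_mulN hq hr),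
    F.map_mul _ _ hq hr]
  have h1 : F.ev r * F.ev a = F.ev b * F.ev r := by rw [← F.map_mul _ _ hr ham, e1, F.map_mul _ _ hbm hr]
  have h2 : F.ev q * F.ev b = F.ev c * F.ev q := by rw [← F.map_mul _ _ hq hbm, e2, F.map_mul _ _ hcm hq]
  rw [mul_assoc, h1, ← mul_assoc, h2, mul_assoc]

namespace Base

variable {G : Type u} [Group G] [Finite G] (B : Base G)

/-- The elementary subgroup of the first axis. -/
def E1 : Subgroup G := B.subL e1L e1L_chk.2.2.1 (fun _ ha => e1L_inS ha) e1L_chk.2.2.2.2.2.2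

/-- The four-group in it. -/
def four : Subgroup G :=
  B.subL fourL fourL_chk.2.1 (fun _ ha => e1L_inS (fourL_chk.2.2.1 _ ha).1) fourL_chk.2.2.2

theorem card_E1 : Nat.card B.E1 = 16 := (B.card_subL e1L_chk.1 _ _ _).trans e1L_chk.2.1

theorem card_four : Nat.card B.four = 4 := (B.card_subL fourL_chk.1 _ _ _).trans rfl

theorem four_le : B.four ≤ B.E1 ∧ ∀ σ, B.four ≤ B.A σ := by
  refine ⟨?_, fun σ => ?_⟩ <;> rintro _ ⟨a, ha, rfl⟩
  · exact ⟨a, (fourL_chk.2.2.1 a ha).1, rfl⟩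
  · cases σ
    · exact ⟨a, (fourL_chk.2.2.1 a ha).2.1, rfl⟩
    · exact ⟨a, (fourL_chk.2.2.1 a ha).2.2, rfl⟩

theorem sq_E1 : ∀ x ∈ B.E1, x * x = 1 := by
  rintro _ ⟨a, ha, rfl⟩
  rw [← B.T.map_mul a a (e1L_inS ha) (e1L_inS ha), (e1L_chk.2.2.2.2.2.1 a ha).2.1, B.T.one]

variable {b : List Bool}

theorem pure_E1 (hb : B.IsPat b) (hb1 : b.getD 1 false = true) : ∀ x ∈ B.E1, x ≠ 1 → B.Pure x := by
  rintro _ ⟨a, ha, rfl⟩ hx
  obtain ⟨hS, h2, hk⟩ := e1L_chk.2.2.2.2.2.1 a ha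
  have hne : a ≠ Mdl.one := fun e => hx (by rw [e, B.T.one])
  obtain ⟨-, g, -, hg⟩ := B.conj_srep (e1L_inS ha) h2 hne
  refine IsConj.trans ?_ (isConj_iff.2 ⟨g, hg⟩)
  rcases hk with hk | hk | hk
  · exact absurd hk hne
  · rw [hk, show srep 0 = Mdl.tN from rfl, B.hz]
  · rw [hk]; exact (hb 1 (by decide)).2 hb1

theorem exists_sig (hb : B.IsPat b) (hb1 : b.getD 1 false = true) :
    ∃ W : Subgroup G, Odd (Nat.card W) ∧ Oc B.z ≤ W ∧
      Subgroup.centralizer ({B.z} : Set G) ≤ Subgroup.normalizer (W : Set G) ∧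
      ∀ σ, Subgroup.normalizer (B.A σ : Set G) ≤ Subgroup.normalizer (W : Set G) := by
  classical
  haveI : Fact (Nat.Prime 2) := ⟨Nat.prime_two⟩
  have hpure := B.pure_E1 hb hb1
  have hcommE : ∀ a ∈ B.E1, ∀ c ∈ B.E1, a * c = c * a := fun a ha c hc => Frame.comm_of_sq B.sq_E1 ha hc
  obtain ⟨W, hW, hle, -, hN, hgen⟩ := SylL34.closure_props B.sq_E1 (by rw [B.card_E1]; norm_num)
    (fun a ha ha1 c hc hc1 x hx hxc => B.bal (B.sq_E1 a ha) ha1 (hpure c hc hc1) (hcommE a ha c hc) hx hxc)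
  have hzE : B.z ∈ B.E1 := ⟨_, e1L_chk.2.2.2.1, B.hz⟩
  refine ⟨W, hW, hle _ hzE B.z_ne, fun g hg => ?_, fun σ n hn => ?_⟩
  · have hg' := Subgroup.mem_centralizer_singleton_iff.1 hg
    obtain ⟨n, hn, en⟩ := B.F.exists_code (B.bar_comm (bar B.z g))
    obtain ⟨h, hh, hhN, hact⟩ := B.lift_norm hn e1L e1L_chk.2.2.1 (fun _ ha => e1L_inS ha)
      e1L_chk.2.2.2.2.2.2 (e1_normal B.F hn)
    -- `h⁻¹ g` fixes the axis modulo the core
    set d := h⁻¹ * g with hd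
    have hdz : d * B.z = B.z * d := B.comm_mul (B.comm_inv hh) hg'
    have hmove : ∀ x ∈ B.E1, d * x * d⁻¹ ∈ Oc B.z ⊔ B.E1 := by
      rintro _ ⟨a, ha, rfl⟩
      obtain ⟨c, hc, ec⟩ := e1_normal B.F hn a ha
      have hca := hact a ha c hc ec
      have e : bar B.z (g * B.T.f a * g⁻¹) = bar B.z (B.T.f c) := by
        rw [B.bar_conj hg' (B.comm_f (e1L_inS ha)), ← en, B.lift a (e1L_inS ha),
          B.F.conj_of hn (e1L_inS ha).mem (e1L_inS hc).mem ec, B.lift c (e1L_inS hc)]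
      have hw : g * B.T.f a * g⁻¹ * B.z = B.z * (g * B.T.f a * g⁻¹) :=
        B.comm_mul (B.comm_mul hg' (B.comm_f (e1L_inS ha))) (B.comm_inv hg')
      have e' := (B.bar_eq_iff hw (B.comm_f (e1L_inS hc))).1 e
      have := conj_mem_of_normalizer (g := h⁻¹) (cent_le_normalizer_Oc B.z
        (Subgroup.mem_centralizer_singleton_iff.2 (B.comm_inv hh))) e'
      have h3 := mul_mem (Subgroup.mem_sup_left (T := B.E1) this)
        (Subgroup.mem_sup_right (S := Oc B.z) (show B.T.f a ∈ B.E1 from ⟨a, ha, rfl⟩))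
      rw [← hca] at h3
      rw [hd, show h⁻¹ * g * B.T.f a * (h⁻¹ * g)⁻¹ =
        h⁻¹ * (g * B.T.f a * g⁻¹ * (h * B.T.f a * h⁻¹)⁻¹) * h⁻¹⁻¹ * B.T.f a by group]
      exact h3
    obtain ⟨o, ho, hfix⟩ := exists_fix (Oc_odd B.z) (B.S.isPGroup'.to_le (B.subL_le _ _ _ _))
      (fun x hx => cent_le_normalizer_Oc B.z (Subgroup.mem_centralizer_singleton_iff.2
        (B.comm_z (B.subL_le _ _ _ _ hx)))) hmove
    have hoN : o * d ∈ Subgroup.normalizer (B.E1 : Set G) := Frame.conj_mem_iff_of_le hfix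
    have h1 := mul_mem (mul_mem (hN hhN) (inv_mem (Subgroup.le_normalizer (hle _ hzE B.z_ne ho)))) (hN hoN)
    rwa [show h * o⁻¹ * (o * d) = g by rw [hd]; group] at h1
  · -- the four-group generates the same subgroup from either side
    have hAc : ∀ {x y}, x ∈ B.A σ → y ∈ B.A σ → x * y = y * x := fun hx hy =>
      Frame.comm_of_sq (B.sq_A σ) hx hy
    have hel : Cfsg.IsElementaryAbelian 2 B.four :=
      ⟨⟨⟨fun p q => Subtype.ext (hcommE p (B.four_le.1 p.2) q (B.four_le.1 q.2))⟩⟩,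
        fun p hp => by rw [sq]; exact B.sq_E1 p (B.four_le.1 hp)⟩
    have hkey : ∀ e ∈ B.A σ, B.Pure e → Oc e ≤ W := fun e he hpe => by
      refine Signalizer.le_of_forall_centralizer hel le_rfl (by rw [B.card_four]; norm_num)
        (fun y hy => cent_le_normalizer_Oc e (Subgroup.mem_centralizer_singleton_iff.2
          (hAc (B.four_le.2 σ hy) he))) (Oc_odd e).not_two_dvd_nat fun y hy hy1 x hx => ?_
      exact hle y (B.four_le.1 hy) hy1 (B.bal (B.pure_sq hpe) (B.pure_ne hpe)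
        (hpure y (B.four_le.1 hy) hy1) (hAc he (B.four_le.2 σ hy)) hx.1
        (Subgroup.mem_centralizer_singleton_iff.1 hx.2))
    refine SylL34.mem_normalizer_of_cj (Subgroup.eq_of_le_of_card_ge ?_ (SylL34.card_cj n W).ge)
    refine (Subgroup.map_mono (hgen B.four B.four_le.1 (by rw [B.card_four]))).trans ?_
    rw [Subgroup.map_iSup]
    refine iSup_le fun e => ?_
    show cj n (Oc (e : G)) ≤ W
    rw [cj_Oc]
    exact hkey _ (conj_mem_of_normalizer hn (B.four_le.2 σ e.2.1))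
      (B.pure_conj (hpure _ (B.four_le.1 e.2.1) e.2.2) n)

end Base

end CfsgLib.L5Type
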