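import Cfsg.Agent.L5Type.Tab
import Cfsg.Agent.Trichotomy.Bridge
import Cfsg.Agent.Trichotomy.L5Main
import Mathlib.Algebra.Field.ZMod

/-!
A Sylow subgroup of `PSL(5,2)` is written with the codes of the model.
-/

set_option autoImplicit false
set_option maxRecDepth 100000

namespace CfsgLib.L5Type

open CfsgLib.HeldUniq

universe u v

/-- A frame gives the codes of its Sylow subgroup. -/
def tabOfFrame {G : Type u} [Group G] [Finite G] {t : G} (F : HeldUniq.Frame t) : Tab F.syl where
  f := F.ev
  map_mul a b ha hb := F.map_mul a b ha.mem hb.mem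
  inj a b ha hb h := F.inj a b ha.mem hb.mem h
  mem_iff g := Iff.rfl

open Classical in
/-- Transport along an isomorphism. -/
noncomputable def tabEquiv {G : Type u} [Group G] {H : Type v} [Group H] {S : Subgroup G} {P : Subgroup H}
    (T : Tab S) (e : S ≃* P) : Tab P where
  f a := if h : T.f a ∈ S then (e ⟨T.f a, h⟩ : H) else 1
  map_mul a b ha hb := by
    simp only [dif_pos (T.mem ha), dif_pos (T.mem hb), dif_pos (T.mem (ha.mul hb)), ← Subgroup.coe_mul,
      ← map_mul]
    congr 2
    exact Subtype.ext (T.map_mul a b ha hb)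
  inj a b ha hb h := by
    simp only [dif_pos (T.mem ha), dif_pos (T.mem hb)] at h
    exact T.inj a b ha hb (congrArg Subtype.val (e.injective (Subtype.ext h)))
  mem_iff g := by
    constructor
    · intro hg
      obtain ⟨a, ha, e'⟩ := (T.mem_iff _).1 (e.symm ⟨g, hg⟩).2
      refine ⟨a, ha, ?_⟩
      simp only [dif_pos (T.mem ha)]
      have : (⟨T.f a, T.mem ha⟩ : S) = e.symm ⟨g, hg⟩ := Subtype.ext e'
      rw [this, MulEquiv.apply_symm_apply]
    · rintro ⟨a, ha, rfl⟩
      simp only [dif_pos (T.mem ha)]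
      exact (e _).2

theorem center_SL_two {F : Type u} [Field F] [Fintype F] (hF : Fintype.card F = 2) :
    Subgroup.center (Matrix.SpecialLinearGroup (Fin 5) F) = ⊥ := by
  refine eq_bot_iff.mpr fun x hx => ?_
  obtain ⟨r, hr5, hr⟩ := Matrix.SpecialLinearGroup.mem_center_iff.mp hx
  refine Subgroup.mem_bot.mpr (Subtype.ext ?_)
  have hr0 : r ≠ 0 := fun h => by simp [h] at hr5
  have h1 : r = 1 := by
    have := FiniteField.pow_card_sub_one_eq_one r hr0
    rwa [hF, pow_one] at this
  rw [← hr, h1]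
  simp

/-- `PSL(5,F)` for the field of two elements is `SL(5,2)`. -/
theorem exists_equiv_SL5 {F : Type u} [Field F] [Fintype F] (hF : Fintype.card F = 2) :
    Nonempty (Matrix.ProjectiveSpecialLinearGroup (Fin 5) F ≃* Trichotomy.L5.SL5) := by
  haveI : Fact (Nat.Prime 2) := ⟨Nat.prime_two⟩
  let e : ZMod 2 ≃+* F := ZMod.ringEquivOfPrime F Nat.prime_two hF
  let m : Matrix.SpecialLinearGroup (Fin 5) F ≃* Trichotomy.L5.SL5 :=
    { toFun := Matrix.SpecialLinearGroup.map e.symm.toRingHom
      invFun := Matrix.SpecialLinearGroup.map e.toRingHom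
      left_inv := fun x => by ext i j; simp
      right_inv := fun x => by ext i j; simp
      map_mul' := map_mul _ }
  exact ⟨((QuotientGroup.quotientMulEquivOfEq (center_SL_two hF)).trans QuotientGroup.quotientBot).trans m⟩

/-- The centralizer of a transvection carries a frame. -/
theorem exists_sl5_frame : ∃ s : Trichotomy.L5.SL5,
    (s : Matrix (Fin 5) (Fin 5) (ZMod 2)) = Matrix.transvection 0 1 1 ∧ Nonempty (HeldUniq.Frame s) := by
  let s : Trichotomy.L5.SL5 := ⟨Matrix.transvection 0 1 1, Matrix.det_transvection_of_ne 0 1 (by decide) 1⟩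
  have hs2 : orderOf s = 2 := orderOf_eq_prime (Subtype.ext (by
    rw [sq, Matrix.SpecialLinearGroup.coe_mul, Matrix.SpecialLinearGroup.coe_one]
    show Matrix.transvection (0 : Fin 5) 1 (1 : ZMod 2) * Matrix.transvection 0 1 1 = 1
    rw [Matrix.transvection_mul_transvection_same (i := (0 : Fin 5)) (j := 1) (by decide), show (1 : ZMod 2) + 1 = 0 from rfl,
      Matrix.transvection_zero])) (fun h => absurd (congrArg (fun x : Trichotomy.L5.SL5 => x.1 0 1) h)
      (by simp [s, Matrix.transvection]))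
  exact ⟨s, rfl, Trichotomy.exists_frame s rfl s hs2 (MulEquiv.refl _)⟩

theorem exists_tab {G : Type u} [Group G] {F : Type v} [Field F] [Fintype F] (hF : Fintype.card F = 2)
    (S : Subgroup G) (P : Sylow 2 (Matrix.ProjectiveSpecialLinearGroup (Fin 5) F))
    (hS : Nonempty (S ≃* (P : Subgroup (Matrix.ProjectiveSpecialLinearGroup (Fin 5) F)))) :
    Nonempty (Tab S) := by
  haveI : Fact (Nat.Prime 2) := ⟨Nat.prime_two⟩
  obtain ⟨e⟩ := exists_equiv_SL5 hF
  obtain ⟨f⟩ := hS
  obtain ⟨s, -, ⟨F0⟩⟩ := exists_sl5_frame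
  have hsyl : IsPGroup 2 F0.syl := IsPGroup.of_card (n := 10) (by rw [F0.card_syl]; norm_num)
  have hidx : ¬ 2 ∣ F0.syl.index := by
    have h := F0.syl.card_mul_index
    rw [F0.card_syl, Trichotomy.L5.card_SL5] at h
    omega
  let Q : Sylow 2 Trichotomy.L5.SL5 := hsyl.toSylow hidx
  let P' : Sylow 2 Trichotomy.L5.SL5 := (P.isPGroup'.map e.toMonoidHom).toSylow (by
    rw [Subgroup.index_map_eq _ e.surjective (by rw [(MonoidHom.ker_eq_bot_iff _).2 e.injective]; exact bot_le)]
    exact P.not_dvd_index)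
  let g : F0.syl ≃* S :=
    (Q.equiv P').trans (((P : Subgroup _).equivMapOfInjective e.toMonoidHom e.injective).symm.trans f.symm)
  exact ⟨tabEquiv (tabOfFrame F0) g⟩

end CfsgLib.L5Type
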