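import Cfsg.Agent.L5Type.CentFrame
import Cfsg.Agent.SylL34.Tools

/-!
Lifting conjugations from the centralizer modulo its odd core.
-/

set_option autoImplicit false
set_option linter.unusedSectionVars false
set_option linter.style.haveILetI false
set_option maxRecDepth 100000

namespace CfsgLib.L5Type

open CfsgLib.HeldUniq
open CfsgLib.SylL34 (Oc Oc_le Oc_odd Oc_comm exists_conj_mod cent_le_normalizer_Oc conj_mem_of_normalizer)

universe u

/-- A conjugate of a 2-subgroup lying in its product with an odd normal subgroup can be moved back by an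
element of that subgroup. -/
theorem exists_fix {G : Type u} [Group G] [Finite G] {O A : Subgroup G} (hO : Odd (Nat.card O))
    (hA : IsPGroup 2 A) (hAO : A ≤ Subgroup.normalizer (O : Set G)) {h : G}
    (hh : ∀ a ∈ A, h * a * h⁻¹ ∈ O ⊔ A) :
    ∃ o ∈ O, ∀ a ∈ A, o * h * a * (o * h)⁻¹ ∈ A := by
  haveI : Fact (Nat.Prime 2) := ⟨Nat.prime_two⟩
  set K := O ⊔ A with hK
  have hAK : A ≤ K := le_sup_right
  haveI : (O.subgroupOf K).Normal := by
    refine Subgroup.normal_subgroupOf_of_le_normalizer (sup_le Subgroup.le_normalizer hAO)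
  have hidx : ¬ 2 ∣ (A.subgroupOf K).index := by
    have hr : Odd ((A.subgroupOf K).index) := by
      refine hO.of_dvd_nat ?_
      have hsup : A.subgroupOf K ⊔ O.subgroupOf K = ⊤ := by
        rw [← Subgroup.subgroupOf_sup le_sup_right le_sup_left, sup_comm, Subgroup.subgroupOf_self]
      have h1 : (O.subgroupOf K).index ∣ Nat.card (A.subgroupOf K) := by
        rw [← Subgroup.relIndex_top_right, ← hsup, Subgroup.relIndex_sup_right]
        exact Subgroup.relIndex_dvd_card _ _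
      rw [← Nat.card_congr (Subgroup.subgroupOfEquivOfLe (le_sup_left : O ≤ K)).toEquiv]
      have h2 : Nat.card (A.subgroupOf K) * (A.subgroupOf K).index ∣
          Nat.card (A.subgroupOf K) * Nat.card (O.subgroupOf K) := by
        rw [Subgroup.card_mul_index, ← (O.subgroupOf K).card_mul_index, mul_comm (Nat.card (A.subgroupOf K))]
        exact Nat.mul_dvd_mul_left _ h1
      exact Nat.dvd_of_mul_dvd_mul_left Nat.card_pos h2
    exact fun h2 => (Nat.not_even_iff_odd.2 hr) (even_iff_two_dvd.2 h2)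
  have hA' : IsPGroup 2 (A.subgroupOf K) := hA.of_equiv (Subgroup.subgroupOfEquivOfLe hAK).symm
  let P : Sylow 2 K := hA'.toSylow hidx
  have hQp : IsPGroup 2 ((A.map (MulAut.conj h).toMonoidHom).subgroupOf K) :=
    (hA.map _).of_equiv (Subgroup.subgroupOfEquivOfLe (by rintro _ ⟨a, ha, rfl⟩; exact hh a ha)).symm
  obtain ⟨Q, hQ⟩ := hQp.exists_le_sylow
  obtain ⟨k, hk⟩ := MulAction.exists_smul_eq K Q P
  obtain ⟨a0, ha0, o, ho, hk'⟩ : ∃ a0 ∈ A, ∃ o ∈ O, a0 * o = (k : G) := by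
    have hm : (k : G) ∈ A ⊔ O := sup_comm O A ▸ k.2
    rw [← SetLike.mem_coe, Subgroup.coe_mul_of_left_le_normalizer_right A O hAO] at hm
    exact Set.mem_mul.1 hm
  refine ⟨o, ho, fun a ha => ?_⟩
  have hm : k * (⟨h * a * h⁻¹, hh a ha⟩ : K) * k⁻¹ ∈ (P : Subgroup K) := by
    rw [← hk]
    exact ⟨_, hQ (Subgroup.mem_subgroupOf.2 ⟨a, ha, rfl⟩), rfl⟩
  have hm' : (k : G) * (h * a * h⁻¹) * (k : G)⁻¹ ∈ A := hm
  rw [← hk'] at hm'
  have := mul_mem (mul_mem (inv_mem ha0) hm') ha0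
  rwa [show a0⁻¹ * (a0 * o * (h * a * h⁻¹) * (a0 * o)⁻¹) * a0 = o * h * a * (o * h)⁻¹ by group] at this

namespace Base

variable {G : Type u} [Group G] [Finite G] (B : Base G)

theorem z_mem : B.z ∈ (B.S : Subgroup G) := B.hz ▸ B.T.mem InS.tN

theorem comm_z {g : G} (hg : g ∈ (B.S : Subgroup G)) : g * B.z = B.z * g := B.hz ▸ B.T.tN_central hg

theorem z_sq : B.z * B.z = 1 := B.hz ▸ B.T.tN_sq

theorem z_ne : B.z ≠ 1 := B.hz ▸ B.T.tN_ne

theorem orderOf_z : orderOf B.z = 2 :=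
  haveI : Fact (Nat.Prime 2) := ⟨Nat.prime_two⟩
  orderOf_eq_prime (by rw [sq, B.z_sq]) B.z_ne

theorem bar_one : bar B.z (1 : G) = 1 := by
  rw [bar, dif_pos (one_mem _)]
  exact map_one _

theorem bar_inv {g : G} (hg : g * B.z = B.z * g) : bar B.z g⁻¹ = (bar B.z g)⁻¹ := by
  refine eq_inv_of_mul_eq_one_right ?_
  have hg' : g⁻¹ * B.z = B.z * g⁻¹ := by rw [inv_mul_eq_iff_eq_mul, ← mul_assoc, hg, mul_inv_cancel_right]
  rw [← bar_mul hg hg', mul_inv_cancel, B.bar_one]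

theorem comm_mul {g k : G} (hg : g * B.z = B.z * g) (hk : k * B.z = B.z * k) :
    g * k * B.z = B.z * (g * k) := by rw [mul_assoc, hk, ← mul_assoc, hg, mul_assoc]

theorem comm_inv {g : G} (hg : g * B.z = B.z * g) : g⁻¹ * B.z = B.z * g⁻¹ := by
  rw [inv_mul_eq_iff_eq_mul, ← mul_assoc, hg, mul_inv_cancel_right]

theorem bar_eq_one_iff {g : G} (hg : g * B.z = B.z * g) : bar B.z g = 1 ↔ g ∈ Oc B.z := by
  have hm : g ∈ Subgroup.centralizer ({B.z} : Set G) := Subgroup.mem_centralizer_singleton_iff.2 hg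
  rw [bar_mk ⟨g, hm⟩, QuotientGroup.mk'_apply, QuotientGroup.eq_one_iff]
  exact ⟨fun h => ⟨_, h, rfl⟩, fun ⟨y, hy, e⟩ => (Subtype.ext e : y = ⟨g, hm⟩) ▸ hy⟩

theorem bar_eq_iff {g k : G} (hg : g * B.z = B.z * g) (hk : k * B.z = B.z * k) :
    bar B.z g = bar B.z k ↔ g * k⁻¹ ∈ Oc B.z := by
  rw [← B.bar_eq_one_iff (B.comm_mul hg (B.comm_inv hk)), bar_mul hg (B.comm_inv hk), B.bar_inv hk,
    mul_inv_eq_one]

theorem bar_conj {g k : G} (hg : g * B.z = B.z * g) (hk : k * B.z = B.z * k) :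
    bar B.z (g * k * g⁻¹) = bar B.z g * bar B.z k * (bar B.z g)⁻¹ := by
  rw [bar_mul (B.comm_mul hg hk) (B.comm_inv hg), bar_mul hg hk, B.bar_inv hg]

theorem comm_f {a : Nat} (ha : InS a) : B.T.f a * B.z = B.z * B.T.f a := B.comm_z (B.T.mem ha)

theorem exists_lift {n : Nat} (hn : Mdl.mem n = true) :
    ∃ h : G, h * B.z = B.z * h ∧ bar B.z h = B.F.ev n := by
  obtain ⟨y, hy⟩ := QuotientGroup.mk'_surjective _ (B.F.ev n)
  exact ⟨y, Subgroup.mem_centralizer_singleton_iff.1 y.2, (bar_mk y).trans hy⟩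

theorem eq_of_bar {x y : G} (hx : x ∈ (B.S : Subgroup G)) (hy : y ∈ (B.S : Subgroup G))
    (h : bar B.z x = bar B.z y) : x = y := by
  obtain ⟨a, ha, rfl⟩ := (B.T.mem_iff x).1 hx
  obtain ⟨b, hb, rfl⟩ := (B.T.mem_iff y).1 hy
  rw [B.lift a ha, B.lift b hb] at h
  rw [B.F.inj a b ha.mem hb.mem h]

theorem orderOf_f {a : Nat} (ha : InS a) (h2 : Mdl.mulN a a = Mdl.one) (hne : a ≠ Mdl.one) :
    orderOf (B.T.f a) = 2 :=
  haveI : Fact (Nat.Prime 2) := ⟨Nat.prime_two⟩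
  orderOf_eq_prime (by rw [sq, ← B.T.map_mul a a ha ha, h2, B.T.one]) fun e => hne ((B.T.eq_one_iff ha).1 e)

/-- Conjugation of involutions of the Sylow subgroup in the model lifts. -/
theorem lift_conj {n a b : Nat} (hn : Mdl.mem n = true) (ha : InS a) (hb : InS b)
    (h2 : Mdl.mulN a a = Mdl.one) (hne : a ≠ Mdl.one) (h : Mdl.mulN n a = Mdl.mulN b n) :
    ∃ g, g * B.z = B.z * g ∧ g * B.T.f a * g⁻¹ = B.T.f b := by
  haveI : Fact (Nat.Prime 2) := ⟨Nat.prime_two⟩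
  obtain ⟨h0, hc, hh0⟩ := B.exists_lift hn
  have hw := B.orderOf_f ha h2 hne
  set w := h0 * B.T.f a * h0⁻¹ with hwdef
  have hwo : orderOf w = 2 := by rw [hwdef, Invol.orderOf_conj_eq]; exact hw
  have hwc : w * B.z = B.z * w := B.comm_mul (B.comm_mul hc (B.comm_f ha)) (B.comm_inv hc)
  have e : bar B.z w = bar B.z (B.T.f b) := by
    rw [hwdef, B.bar_conj hc (B.comm_f ha), hh0, B.lift a ha, B.F.conj_of hn ha.mem hb.mem h, B.lift b hb]
  have hb1 : B.T.f b ≠ 1 := fun eb => by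
    rw [eb, B.bar_one, B.bar_eq_one_iff hwc] at e
    have h1 := (Oc_odd B.z).of_dvd_nat ((Oc B.z).orderOf_dvd_natCard e)
    rw [hwo] at h1
    exact Nat.not_even_iff_odd.2 h1 even_two
  have hbb : B.T.f b * B.T.f b = 1 := by
    refine B.eq_of_bar (mul_mem (B.T.mem hb) (B.T.mem hb)) (one_mem _) ?_
    rw [bar_mul (B.comm_f hb) (B.comm_f hb), ← e, ← bar_mul hwc hwc, Invol.mul_self_eq_one hwo]
  obtain ⟨o, ho, e'⟩ := exists_conj_mod (Oc_odd B.z) hwo (orderOf_eq_prime (by rw [sq, hbb]) hb1)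
    (show B.T.f b * w ∈ Oc B.z by
      rw [show w = w⁻¹ from eq_inv_of_mul_eq_one_right (Invol.mul_self_eq_one hwo),
        ← B.bar_eq_iff (B.comm_f hb) hwc, e])
  exact ⟨o * h0, B.comm_mul (Oc_comm ho) hc, by rw [← e', hwdef]; group⟩

/-- The subgroup given by a closed list of codes. -/
def subL (W : List Nat) (h1 : Mdl.one ∈ W) (hm : ∀ a ∈ W, InS a)
    (hcl : ∀ a ∈ W, ∀ b ∈ W, Mdl.mulN a b ∈ W) : Subgroup G :=
  Frame.ofClosed {g | ∃ a ∈ W, B.T.f a = g} ⟨_, h1, B.T.one⟩ fun g hg k hk => by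
    obtain ⟨a, ha, rfl⟩ := hg
    obtain ⟨b, hb, rfl⟩ := hk
    exact ⟨Mdl.mulN a b, hcl a ha b hb, B.T.map_mul a b (hm a ha) (hm b hb)⟩

theorem subL_le (W : List Nat) (h1 : Mdl.one ∈ W) (hm : ∀ a ∈ W, InS a)
    (hcl : ∀ a ∈ W, ∀ b ∈ W, Mdl.mulN a b ∈ W) : B.subL W h1 hm hcl ≤ (B.S : Subgroup G) := by
  rintro _ ⟨a, ha, rfl⟩
  exact B.T.mem (hm a ha)

theorem card_subL {W : List Nat} (hn : W.Nodup) (h1 : Mdl.one ∈ W) (hm : ∀ a ∈ W, InS a)
    (hcl : ∀ a ∈ W, ∀ b ∈ W, Mdl.mulN a b ∈ W) : Nat.card (B.subL W h1 hm hcl) = W.length :=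
  B.T.card_of_codes (X := ((B.subL W h1 hm hcl : Subgroup G) : Set G)) W hn hm fun _ => Iff.rfl

/-- An element of the model mapping a closed list to itself lifts to an element acting in the same way. -/
theorem lift_norm {n : Nat} (hn : Mdl.mem n = true) (W : List Nat) (h1 : Mdl.one ∈ W)
    (hm : ∀ a ∈ W, InS a) (hcl : ∀ a ∈ W, ∀ b ∈ W, Mdl.mulN a b ∈ W)
    (hnW : ∀ a ∈ W, ∃ b ∈ W, Mdl.mulN n a = Mdl.mulN b n) :
    ∃ h, h * B.z = B.z * h ∧ h ∈ Subgroup.normalizer (B.subL W h1 hm hcl : Set G) ∧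
      ∀ a ∈ W, ∀ b ∈ W, Mdl.mulN n a = Mdl.mulN b n → h * B.T.f a * h⁻¹ = B.T.f b := by
  set A := B.subL W h1 hm hcl with hA
  obtain ⟨h0, hc, hh0⟩ := B.exists_lift hn
  have hAc : ∀ g ∈ A, g * B.z = B.z * g := fun g hg => B.comm_z (B.subL_le W h1 hm hcl hg)
  have hAO : A ≤ Subgroup.normalizer (Oc B.z : Set G) := fun g hg =>
    cent_le_normalizer_Oc B.z (Subgroup.mem_centralizer_singleton_iff.2 (hAc g hg))
  have hbar : ∀ a ∈ W, ∃ b ∈ W, Mdl.mulN n a = Mdl.mulN b n ∧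
      bar B.z (h0 * B.T.f a * h0⁻¹) = bar B.z (B.T.f b) := by
    intro a ha
    obtain ⟨b, hb, e⟩ := hnW a ha
    refine ⟨b, hb, e, ?_⟩
    rw [B.bar_conj hc (B.comm_f (hm a ha)), hh0, B.lift a (hm a ha),
      B.F.conj_of hn (hm a ha).mem (hm b hb).mem e, B.lift b (hm b hb)]
  obtain ⟨o, ho, hfix⟩ := exists_fix (Oc_odd B.z) (B.S.isPGroup'.to_le (B.subL_le W h1 hm hcl)) hAO
    (h := h0) (by
      rintro _ ⟨a, ha, rfl⟩
      obtain ⟨b, hb, -, e⟩ := hbar a ha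
      have hw : h0 * B.T.f a * h0⁻¹ * B.z = B.z * (h0 * B.T.f a * h0⁻¹) :=
        B.comm_mul (B.comm_mul hc (B.comm_f (hm a ha))) (B.comm_inv hc)
      have := mul_mem (Subgroup.mem_sup_left (T := A) ((B.bar_eq_iff hw (B.comm_f (hm b hb))).1 e))
        (Subgroup.mem_sup_right (S := Oc B.z) (show B.T.f b ∈ A from ⟨b, hb, rfl⟩))
      rwa [inv_mul_cancel_right] at this)
  have hc' : o * h0 * B.z = B.z * (o * h0) := B.comm_mul (Oc_comm ho) hc
  have hbar' : bar B.z (o * h0) = B.F.ev n := by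
    rw [bar_mul (Oc_comm ho) hc, (B.bar_eq_one_iff (Oc_comm ho)).2 ho, one_mul, hh0]
  refine ⟨o * h0, hc', Frame.conj_mem_iff_of_le hfix, fun a ha b hb e => ?_⟩
  refine B.eq_of_bar (B.subL_le W h1 hm hcl (hfix _ ⟨a, ha, rfl⟩)) (B.T.mem (hm b hb)) ?_
  rw [B.bar_conj hc' (B.comm_f (hm a ha)), hbar', B.lift a (hm a ha),
    B.F.conj_of hn (hm a ha).mem (hm b hb).mem e, B.lift b (hm b hb)]

end Base

end CfsgLib.L5Type
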