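import Cfsg.Agent.L5Type.CentFrame
import Cfsg.Agent.L5Type.Lift
import Cfsg.Agent.L5Type.Model
import Cfsg.Agent.S0450

/-!
With trivial odd core the centralizer is that of a transvection.
-/

set_option autoImplicit false
set_option linter.unusedSectionVars false
set_option linter.style.haveILetI false
set_option maxRecDepth 100000

namespace CfsgLib.L5Type

open CfsgLib.HeldUniq
open CfsgLib.SylL34 (Oc)

universe u v

/-- Two frames identify the centralizers. -/
theorem exists_frame_equiv {H : Type u} [Group H] [Finite H] {t : H} (F : HeldUniq.Frame t) {K : Type v} [Group K] [Finite K] {s : K}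
    (F' : HeldUniq.Frame s) :
    Nonempty (Subgroup.centralizer ({t} : Set H) ≃* Subgroup.centralizer ({s} : Set K)) := by
  choose c hc hce using fun x : Subgroup.centralizer ({t} : Set H) => (F.mem_iff x.1).1 x.2
  let φ : Subgroup.centralizer ({t} : Set H) →* Subgroup.centralizer ({s} : Set K) :=
    MonoidHom.mk' (fun x => ⟨F'.ev (c x), (F'.mem_iff _).2 ⟨_, hc x, rfl⟩⟩) fun x y => Subtype.ext (by
      show F'.ev (c (x * y)) = F'.ev (c x) * F'.ev (c y)
      rw [← F'.map_mul _ _ (hc x) (hc y)]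
      refine congrArg F'.ev (F.inj _ _ (hc _) (Mdl.mem_mulN (hc x) (hc y)) ?_)
      rw [F.map_mul _ _ (hc x) (hc y), hce, hce, hce]
      rfl)
  refine ⟨MulEquiv.ofBijective φ ⟨fun x y h => ?_, fun y => ?_⟩⟩
  · have e := F'.inj _ _ (hc x) (hc y) (congrArg Subtype.val h)
    exact Subtype.ext (by rw [← hce x, ← hce y, e])
  · obtain ⟨a, ha, e⟩ := (F'.mem_iff y.1).1 y.2
    refine ⟨⟨F.ev a, (F.mem_iff _).2 ⟨a, ha, rfl⟩⟩, Subtype.ext ?_⟩
    show F'.ev _ = y.1
    rw [F.inj _ a (hc _) ha (hce _), e]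

theorem conclusion_of_core_bot {G : Type u} [Group G] [Finite G] [IsSimpleGroup G] (B : Base G)
    (hO : Oc B.z = ⊥) :
    Nonempty (G ≃* Trichotomy.L5.SL5) ∨ Cfsg.IsM24 G ∨ Cfsg.IsHe G := by
  haveI : Fact (Nat.Prime 2) := ⟨Nat.prime_two⟩
  set H := Subgroup.centralizer ({B.z} : Set G) with hH
  set C := Subgroup.centralizer ({bar B.z B.z} : Set (Hb B.z)) with hC
  let φ : H →* C := MonoidHom.mk' (fun g => ⟨bar B.z g, Subgroup.mem_centralizer_singleton_iff.2 (bar_central _).symm⟩)
    fun g k => Subtype.ext (bar_mul (Subgroup.mem_centralizer_singleton_iff.1 g.2)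
      (Subgroup.mem_centralizer_singleton_iff.1 k.2))
  have hφ : Function.Bijective φ := by
    refine ⟨fun g k h => ?_, fun x => ?_⟩
    · have e := (B.bar_eq_iff (Subgroup.mem_centralizer_singleton_iff.1 g.2)
        (Subgroup.mem_centralizer_singleton_iff.1 k.2)).1 (congrArg Subtype.val h)
      rw [hO, Subgroup.mem_bot, mul_inv_eq_one] at e
      exact Subtype.ext e
    · obtain ⟨y, hy⟩ := QuotientGroup.mk'_surjective _ x.1
      exact ⟨y, Subtype.ext ((bar_mk y).trans hy)⟩
  obtain ⟨s, hs, ⟨F0⟩⟩ := exists_sl5_frame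
  obtain ⟨e⟩ := exists_frame_equiv B.F F0
  exact Cfsg.Agent.S0450.result s hs B.z B.orderOf_z ((MulEquiv.ofBijective φ hφ).trans e)

end CfsgLib.L5Type
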