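import Cfsg.Agent.L5Type.End
import Cfsg.Agent.L5Type.Functor
import Cfsg.Agent.L5Type.Trivial
import Cfsg.Agent.L5Type.Model

/-!
The simple groups of this type, up to the centralizer of one involution.
-/

set_option autoImplicit false
set_option linter.unusedSectionVars false
set_option linter.style.haveILetI false

namespace CfsgLib.L5Type

open CfsgLib.HeldUniq
open CfsgLib.Trichotomy (patV patBoth)
open CfsgLib.SylL34 (Oc)

universe u v

theorem main_of_cent {G : Type u} [Group G] [Finite G] [IsSimpleGroup G]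
    {F : Type v} [Field F] [Fintype F] (hF : Fintype.card F = 2) (S : Sylow 2 G)
    (P : Sylow 2 (Matrix.ProjectiveSpecialLinearGroup (Fin 5) F))
    (hS : Nonempty ((S : Subgroup G) ≃* (P : Subgroup (Matrix.ProjectiveSpecialLinearGroup (Fin 5) F))))
    (hcent : ∀ (B : Base G) (M : Subgroup G), Big B M → ∀ d0 d3, B.IsPat (patBoth d0 d3) →
      Subgroup.centralizer ({B.T.f 17926284} : Set G) ≤ M) :
    Nonempty (G ≃* Matrix.ProjectiveSpecialLinearGroup (Fin 5) F) ∨ Cfsg.IsM24 G ∨ Cfsg.IsHe G := by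
  obtain ⟨T⟩ := exists_tab hF (S : Subgroup G) P hS
  obtain ⟨B, -, d0, d3, hpat⟩ := exists_pattern S T
  obtain ⟨b, hb', hb⟩ : ∃ b, (b = patV ∨ b = patBoth d0 d3) ∧ B.IsPat b :=
    hpat.elim (fun h => ⟨_, Or.inl rfl, h⟩) fun h => ⟨_, Or.inr rfl, h⟩
  obtain ⟨W, hW, hOW, hzW, hAW⟩ := B.exists_sig hb
    (pat_facts d0 d3 b (by rcases hb' with rfl | rfl <;> simp)).1
  by_cases hW1 : W = ⊥
  · obtain ⟨e⟩ := exists_equiv_SL5 hF
    refine (conclusion_of_core_bot B (le_bot_iff.1 (hW1 ▸ hOW))).imp_left ?_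
    rintro ⟨i⟩
    exact ⟨i.trans e.symm⟩
  have hne : Subgroup.normalizer (W : Set G) ≠ ⊤ := fun h => by
    rcases IsSimpleGroup.eq_bot_or_eq_top_of_normal W (Subgroup.normalizer_eq_top_iff.1 h) with e | e
    · exact hW1 e
    · rw [e, Subgroup.card_top] at hW
      exact Nat.not_even_iff_odd.2 hW (even_iff_two_dvd.2 (B.orderOf_z ▸ orderOf_dvd_natCard B.z))
  have hM : Big B (Subgroup.normalizer (W : Set G)) := ⟨hne, hzW, hAW⟩
  exact (hM.absurd_of_cent hb' hb fun e => hcent B _ hM d0 d3 (e ▸ hb)).elim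

end CfsgLib.L5Type
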