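import Cfsg.Agent.L5Type.Pattern

/-!
Odd cores of centralizers of involutions meet the centralizer of a conjugate of the central involution
in its odd core.
-/

set_option autoImplicit false
set_option linter.unusedSectionVars false
set_option linter.style.haveILetI false
set_option maxRecDepth 100000

namespace CfsgLib.L5Type

open CfsgLib.HeldUniq
open CfsgLib.Trichotomy (kind)
open CfsgLib.SylL34 (Oc Oc_le Oc_odd Oc_comm cent_le_normalizer_Oc conj_mem_Oc conj_mem_of_normalizer)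

/-- Matrices fixing the vectors commuting with a representative have order dividing four. -/
theorem fix_chk : ((List.range 8).all fun k => Mdl.slPairs.all fun x =>
    Nat.beq (Mdl.mmul (Mdl.mmul x.1 x.1) (Mdl.mmul x.1 x.1)) Mdl.mone ||
      (List.range 128).any fun q => Mdl.commN (Mdl.atPair (Mdl.mone, Mdl.mone) q) (srep k) &&
        !Nat.beq (Mdl.app x.1 (Mdl.vOf q)) (Mdl.vOf q) ||
        Mdl.commN (Mdl.atPair (Mdl.mone, Mdl.mone) q) (srep k) &&
        !Nat.beq (Mdl.rapp (Mdl.pOf q) x.2) (Mdl.pOf q)) = true := by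
  decide +kernel

theorem mone_pair : (Mdl.mone, Mdl.mone) ∈ Mdl.uPairs := InS.one

theorem mone_unit : ∀ v < 8, Mdl.app Mdl.mone v = v ∧ Mdl.rapp v Mdl.mone = v := by decide +kernel

theorem q_pow : ∀ q < 128, Mdl.mulN (Mdl.mulN (Mdl.atPair (Mdl.mone, Mdl.mone) q) (Mdl.atPair (Mdl.mone, Mdl.mone) q))
    (Mdl.mulN (Mdl.atPair (Mdl.mone, Mdl.mone) q) (Mdl.atPair (Mdl.mone, Mdl.mone) q)) = Mdl.one ∧
    Mdl.vOf (Mdl.atPair (Mdl.mone, Mdl.mone) q) = Mdl.vOf q ∧
    Mdl.pOf (Mdl.atPair (Mdl.mone, Mdl.mone) q) = Mdl.pOf q := by decide +kernel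

theorem eq_one_of_odd_pow {G : Type*} [Group G] [Finite G] {g : G} {k : ℕ} (ho : Odd (orderOf g)) (h : g ^ 2 ^ k = 1) :
    g = 1 := SylL34.eq_one_odd_two ho h

universe u

/-- An element of odd order whose commutators with the elements of the Sylow subgroup of trivial matrix
commuting with a representative lie in an odd subgroup is trivial. -/
theorem eq_one_of_fix {H : Type u} [Group H] [Finite H] {t : H} (F : HeldUniq.Frame t) {X : Subgroup H}
    (hX : Odd (Nat.card X)) (hXc : X ≤ Subgroup.centralizer ({t} : Set H)) {k : Nat} (hk : k < 8)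
    (hn : ∀ q < 128, Mdl.commN (Mdl.atPair (Mdl.mone, Mdl.mone) q) (srep k) = true →
      F.ev (Mdl.atPair (Mdl.mone, Mdl.mone) q) ∈ Subgroup.normalizer (X : Set H))
    {x : H} (hx : x ∈ X) : x = 1 := by
  obtain ⟨n, hmn, rfl⟩ := (F.mem_iff x).1 (hXc hx)
  have hodd : Odd (orderOf (F.ev n)) := SylL34.odd_orderOf_of_mem hX hx
  obtain ⟨hgn, hhn⟩ : Mdl.gOf n < 512 ∧ Mdl.hOf n < 512 := ⟨(Mdl.fields_lt n).2.2.2,
    (Mdl.pair_facts ((Mdl.mem_iff_pair n).1 hmn)).2.2.2.1⟩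
  have h := List.all_eq_true.1 (List.all_eq_true.1 fix_chk k (List.mem_range.2 hk)) _ ((Mdl.mem_iff_pair n).1 hmn)
  simp only [Bool.or_eq_true, Nat.beq_eq, List.any_eq_true, Bool.and_eq_true, Bool.not_eq_true',
    List.mem_range] at h
  rcases h with h | ⟨q, hq, h⟩
  · -- the fourth power has trivial matrix
    have hm2 := Mdl.mem_mulN hmn hmn
    set m := Mdl.mulN (Mdl.mulN n n) (Mdl.mulN n n) with hm
    have hmm : Mdl.mem m = true := Mdl.mem_mulN hm2 hm2
    have hg : Mdl.gOf m = Mdl.mone := by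
      rw [hm, (Mdl.mulN_fields _ _).2.2.1, (Mdl.mulN_fields _ _).2.2.1]; exact h
    have hh : Mdl.hOf m = Mdl.mone := by
      have e := (Mdl.pair_facts ((Mdl.mem_iff_pair m).1 hmm))
      have hx := List.all_eq_true.1 mone_right _ ((Mdl.mem_iff_pair m).1 hmm)
      simp only [hg, Nat.beq_refl, Bool.not_true, Bool.false_or, Nat.beq_eq] at hx
      exact hx
    have e : m = Mdl.atPair (Mdl.mone, Mdl.mone) (m % 128) := by
      have := Mdl.atPair_self m
      rw [hg, hh] at this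
      exact this.symm
    have h4 : F.ev m = F.ev n ^ 4 := by
      rw [hm, F.map_mul _ _ hm2 hm2, F.map_mul _ _ hmn hmn,
        show (4 : ℕ) = 2 + 2 from rfl, pow_add, sq]
    have h16 : F.ev n ^ 2 ^ 4 = 1 := by
      have hm2' := Mdl.mem_mulN hmm hmm
      rw [show (2 : ℕ) ^ 4 = 4 * 4 from rfl, pow_mul, ← h4,
        show (4 : ℕ) = 2 + 2 from rfl, pow_add, sq, ← F.map_mul _ _ hmm hmm, ← F.map_mul _ _ hm2' hm2', e,
        (q_pow _ (Nat.mod_lt _ (by decide))).1, F.ev_one]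
    exact eq_one_of_odd_pow hodd h16
  · exfalso
    set c := Mdl.atPair (Mdl.mone, Mdl.mone) q with hc
    obtain ⟨hc4, hcv, hcp⟩ := q_pow q hq
    have hcf := Mdl.atPair_fields (x := (Mdl.mone, Mdl.mone)) (by decide : Mdl.mone < 512) hq
    have hcu : (Mdl.gOf c, Mdl.hOf c) ∈ Mdl.uPairs := by
      rw [hc, hcf.2.1, hcf.2.2]; exact mone_pair
    have hcm : Mdl.mem c = true := Frame.mem_of_pair Mdl.u_ok hcu
    have hcomm : Mdl.commN c (srep k) = true := h.elim (fun h => h.1) (fun h => h.1)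
    have hnq := hn q hq hcomm
    -- the commutator is in X and in the normal 2-subgroup
    have hX1 : F.ev n * F.ev c * (F.ev n)⁻¹ * (F.ev c)⁻¹ ∈ X := by
      rw [mul_assoc, mul_assoc, ← mul_assoc (F.ev c)]
      exact mul_mem hx ((Subgroup.mem_normalizer_iff.1 hnq _).1 (inv_mem hx))
    obtain ⟨d, hd, ed⟩ := (F.mem_iff _).1 (hXc hX1)
    have heq : Mdl.mulN d (Mdl.mulN c n) = Mdl.mulN n c := by
      refine F.inj _ _ (Mdl.mem_mulN hd (Mdl.mem_mulN hcm hmn)) (Mdl.mem_mulN hmn hcm) ?_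
      rw [F.map_mul _ _ hd (Mdl.mem_mulN hcm hmn), F.map_mul _ _ hcm hmn, F.map_mul _ _ hmn hcm, ed]
      group
    have hdg : (Mdl.gOf d, Mdl.hOf d) = (Mdl.mone, Mdl.mone) := by
      have hg := congrArg Mdl.gOf heq
      rw [(Mdl.mulN_fields _ _).2.2.1, (Mdl.mulN_fields _ _).2.2.1, (Mdl.mulN_fields _ _).2.2.1, hc,
        hcf.2.1] at hg
      have h1 := List.all_eq_true.1 (List.all_eq_true.1 mone_left _ ((Mdl.mem_iff_pair d).1 hd)) _
        ((Mdl.mem_iff_pair n).1 hmn)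
      simp only [hg, Bool.or_eq_true, Bool.not_eq_true', Nat.beq_refl, Bool.true_eq_false, false_or,
        Bool.and_eq_true, Nat.beq_eq] at h1
      exact Prod.ext h1.1 h1.2
    have hdo : F.ev d = 1 := by
      refine eq_one_of_odd_pow (k := 2) (SylL34.odd_orderOf_of_mem hX (ed ▸ hX1)) ?_
      have e : d = Mdl.atPair (Mdl.mone, Mdl.mone) (d % 128) := by
        have := Mdl.atPair_self d
        rw [hdg] at this
        exact this.symm
      have hd2 := Mdl.mem_mulN hd hd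
      rw [show (2 : ℕ) ^ 2 = 2 + 2 from rfl, pow_add, sq, ← F.map_mul _ _ hd hd, ← F.map_mul _ _ hd2 hd2, e,
        (q_pow _ (Nat.mod_lt _ (by decide))).1, F.ev_one]
    rw [hdo] at ed
    have hnc : Mdl.mulN n c = Mdl.mulN c n := by
      refine (F.comm_iff hmn hcm).1 ?_
      exact mul_inv_eq_iff_eq_mul.1 (mul_inv_eq_one.1 ed.symm)
    obtain ⟨hv0, hp0, -, -⟩ := Mdl.fields_lt q
    obtain ⟨hv1, hp1, -, -⟩ := Mdl.fields_lt n
    have hfv := congrArg Mdl.vOf hnc
    have hfp := congrArg Mdl.pOf hnc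
    rw [(Mdl.mulN_fields n c).1, (Mdl.mulN_fields c n).1, hcv, hc, hcf.2.1, (mone_unit _ hv1).1] at hfv
    rw [(Mdl.mulN_fields n c).2.1, (Mdl.mulN_fields c n).2.1, hcp, hc, hcf.2.2, (mone_unit _ hp1).2] at hfp
    rcases h with ⟨-, h⟩ | ⟨-, h⟩
    · rw [Mdl.beq_of_eq ((Nat.xor_right_inj).1 (hfv.trans (Nat.xor_comm _ _)))] at h
      exact Bool.noConfusion h
    · rw [Mdl.beq_of_eq ((Nat.xor_right_inj).1 (hfp.trans (Nat.xor_comm _ _)))] at h
      exact Bool.noConfusion h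
where
  mone_right : (Mdl.slPairs.all fun x => !Nat.beq x.1 Mdl.mone || Nat.beq x.2 Mdl.mone) = true := by
    decide +kernel
  mone_left : (Mdl.slPairs.all fun x => Mdl.slPairs.all fun y =>
      !Nat.beq (Mdl.mmul x.1 (Mdl.mmul Mdl.mone y.1)) (Mdl.mmul y.1 Mdl.mone) ||
        (Nat.beq x.1 Mdl.mone && Nat.beq x.2 Mdl.mone)) = true := by
    decide +kernel

namespace Base

variable {G : Type u} [Group G] [Finite G] (B : Base G)

/-- Conjugates of the central involution. -/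
def Pure (x : G) : Prop := IsConj B.z x

theorem pure_sq {x : G} (h : B.Pure x) : x * x = 1 := by
  obtain ⟨g, rfl⟩ := isConj_iff.1 h
  rw [show g * B.z * g⁻¹ * (g * B.z * g⁻¹) = g * (B.z * B.z) * g⁻¹ by group, B.z_sq]
  group

theorem pure_ne {x : G} (h : B.Pure x) : x ≠ 1 := fun e => B.z_ne (isConj_one_left.1 (e ▸ h))

theorem pure_conj {x : G} (h : B.Pure x) (g : G) : B.Pure (g * x * g⁻¹) :=
  IsConj.trans h (isConj_iff.2 ⟨g, rfl⟩)

theorem bal_rep {k : Nat} (hk : k < 8) {x : G} (hx : x ∈ Oc (B.T.f (srep k))) (hxz : x * B.z = B.z * x) :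
    x ∈ Oc B.z := by
  obtain ⟨hsS, -, -, -⟩ := srep_chk k hk
  rw [inSB_iff] at hsS
  set a := B.T.f (srep k)
  set X := Oc a ⊓ Subgroup.centralizer ({B.z} : Set G) with hX
  have hXz : ∀ y ∈ X, y * B.z = B.z * y := fun y hy => Subgroup.mem_centralizer_singleton_iff.1 hy.2
  let φ : X →* Hb B.z :=
    { toFun := fun y => bar B.z y
      map_one' := B.bar_one
      map_mul' := fun y y' => bar_mul (hXz y y.2) (hXz y' y'.2) }
  have hodd : Odd (Nat.card φ.range) :=
    (Oc_odd a).of_dvd_nat ((Subgroup.card_range_dvd φ).trans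
      (Subgroup.card_dvd_of_le (inf_le_left : X ≤ Oc a)))
  have h1 : bar B.z x = 1 := by
    refine eq_one_of_fix B.F hodd (fun y _ => Subgroup.mem_centralizer_singleton_iff.2 (B.bar_comm y)) hk
      (fun q hq hc => Frame.conj_mem_iff_of_le ?_)
      ⟨⟨x, hx, Subgroup.mem_centralizer_singleton_iff.2 hxz⟩, rfl⟩
    rintro _ ⟨⟨y, hy⟩, rfl⟩
    have hcf := Mdl.atPair_fields (x := (Mdl.mone, Mdl.mone)) (by decide : Mdl.mone < 512) hq
    have hcS : InS (Mdl.atPair (Mdl.mone, Mdl.mone) q) := by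
      show _ ∈ Mdl.uPairs; rw [hcf.2.1, hcf.2.2]; exact mone_pair
    set s := B.T.f (Mdl.atPair (Mdl.mone, Mdl.mone) q) with hs
    have hsz : s * B.z = B.z * s := B.comm_f hcS
    have hsa : s ∈ Subgroup.centralizer ({a} : Set G) :=
      Subgroup.mem_centralizer_singleton_iff.2 ((B.T.commN_iff hcS hsS).1 hc)
    have hmem : s * y * s⁻¹ ∈ X := ⟨conj_mem_of_normalizer (cent_le_normalizer_Oc a hsa) hy.1,
      Subgroup.mem_centralizer_singleton_iff.2 (B.comm_mul (B.comm_mul hsz (hXz y hy)) (B.comm_inv hsz))⟩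
    refine ⟨⟨_, hmem⟩, ?_⟩
    show bar B.z (s * y * s⁻¹) = _
    rw [B.bar_conj hsz (hXz y hy), hs, B.lift _ hcS]
    rfl
  exact (B.bar_eq_one_iff hxz).1 h1

theorem bal_z {a : G} (ha : a * a = 1) (ha1 : a ≠ 1) (haz : a * B.z = B.z * a) {x : G} (hx : x ∈ Oc a)
    (hxz : x * B.z = B.z * x) : x ∈ Oc B.z := by
  obtain ⟨c, hc, hcS⟩ := B.exists_conj_into haz ha
  obtain ⟨b, hb, eb⟩ := (B.T.mem_iff _).1 hcS
  have hb1 : b ≠ Mdl.one := fun e => ha1 (conj_eq_one_iff.1 (eb.symm.trans (by rw [e, B.T.one])))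
  have hb2 : Mdl.mulN b b = Mdl.one := by
    refine (B.T.eq_one_iff (hb.mul hb)).1 ?_
    rw [B.T.map_mul b b hb hb, eb, show c * a * c⁻¹ * (c * a * c⁻¹) = c * (a * a) * c⁻¹ by group, ha]
    group
  obtain ⟨hk, g, hg, e⟩ := B.conj_srep hb hb2 hb1
  set d := g⁻¹ * c with hd
  have hdz : d * B.z = B.z * d := B.comm_mul (B.comm_inv hg) hc
  have hda : d * a * d⁻¹ = B.T.f (srep (kind b)) := by
    rw [hd, show g⁻¹ * c * a * (g⁻¹ * c)⁻¹ = g⁻¹ * (c * a * c⁻¹) * g by group, ← eb, ← e]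
    group
  have h := B.bal_rep hk (x := d * x * d⁻¹) (hda ▸ conj_mem_Oc hx)
    (B.comm_mul (B.comm_mul hdz hxz) (B.comm_inv hdz))
  have := conj_mem_Oc (g := d⁻¹) h
  rwa [show d⁻¹ * B.z * d⁻¹⁻¹ = B.z by rw [inv_inv, mul_assoc, ← hdz, inv_mul_cancel_left],
    show d⁻¹ * (d * x * d⁻¹) * d⁻¹⁻¹ = x by group] at this

/-- Balance towards a conjugate of the central involution. -/
theorem bal {a b : G} (ha : a * a = 1) (ha1 : a ≠ 1) (hb : B.Pure b) (hab : a * b = b * a) {x : G}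
    (hx : x ∈ Oc a) (hxb : x * b = b * x) : x ∈ Oc b := by
  obtain ⟨g, rfl⟩ := isConj_iff.1 hb
  have h := B.bal_z (a := g⁻¹ * a * g) (by
      rw [show g⁻¹ * a * g * (g⁻¹ * a * g) = g⁻¹ * (a * a) * g by group, ha]; group)
    (fun e => ha1 (by calc a = g * (g⁻¹ * a * g) * g⁻¹ := by group
                       _ = 1 := by rw [e]; group))
    (by calc g⁻¹ * a * g * B.z = g⁻¹ * (a * (g * B.z * g⁻¹)) * g := by group
          _ = g⁻¹ * (g * B.z * g⁻¹ * a) * g := by rw [hab]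
          _ = _ := by group)
    (x := g⁻¹ * x * g) (by simpa using conj_mem_Oc (g := g⁻¹) hx)
    (by calc g⁻¹ * x * g * B.z = g⁻¹ * (x * (g * B.z * g⁻¹)) * g := by group
          _ = g⁻¹ * (g * B.z * g⁻¹ * x) * g := by rw [hxb]
          _ = _ := by group)
  simpa [mul_assoc] using conj_mem_Oc (g := g) h

end Base

end CfsgLib.L5Type
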