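import Cfsg.Agent.L5Type.Gamma
import Cfsg.Agent.FiLarge.Chz.Transfer

/-!
In a simple group the centralizer of the centre moves the two central lines of the Sylow subgroup.
-/

set_option autoImplicit false
set_option maxRecDepth 100000
set_option linter.unusedSectionVars false

namespace CfsgLib.L5Type

open CfsgLib.HeldUniq

theorem rep_small : (coverReps.all fun r => Nat.blt (sylL.countP fun a => Mdl.commN a r.1) 512) = true := by
  decide +kernel

theorem omega_big : (omega.all fun w => Nat.beq w Mdl.one || Nat.beq w Mdl.tN ||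
    Nat.beq (sylL.countP fun a => Mdl.commN a w) 512) = true := by decide +kernel

/-- What is needed of an involution `u` outside the centralizer of a line `p`. -/
def moveOk (u p a b c : Nat) : Bool :=
  [u, a, b, c].all inSB && omega.contains p && Nat.beq (Mdl.mulN u u) Mdl.one && !Mdl.commN u p &&
  !Nat.beq p Mdl.one && !Nat.beq p Mdl.tN && Mdl.commN a u && Mdl.commN b u && Mdl.commN c u &&
  Nat.beq (commC (commC a b) c) Mdl.tN && omega.all fun y => Mdl.commN y p

namespace Tab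

variable {G : Type*} [Group G] [Finite G]

theorem card_cent {S : Subgroup G} (T : Tab S) {w : Nat} (hw : InS w) :
    Nat.card (S ⊓ Subgroup.centralizer ({T.f w} : Set G) : Subgroup G) =
      sylL.countP fun a => Mdl.commN a w := by
  rw [List.countP_eq_length_filter]
  refine T.card_of_codes (X := ((S ⊓ Subgroup.centralizer ({T.f w} : Set G) : Subgroup G) : Set G)) _
    (sylL_nodup.filter _) (fun a ha => (mem_sylL a).1 (List.mem_filter.1 ha).1) fun g => ⟨?_, ?_⟩
  · rintro ⟨hg, hc⟩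
    obtain ⟨a, ha, rfl⟩ := (T.mem_iff g).1 hg
    exact ⟨a, List.mem_filter.2 ⟨(mem_sylL a).2 ha,
      (T.commN_iff ha hw).2 (Subgroup.mem_centralizer_singleton_iff.1 hc)⟩, rfl⟩
  · rintro ⟨a, ha, rfl⟩
    obtain ⟨ha, hc⟩ := List.mem_filter.1 ha
    exact ⟨T.mem ((mem_sylL a).1 ha), Subgroup.mem_centralizer_singleton_iff.2
      ((T.commN_iff ((mem_sylL a).1 ha) hw).1 hc)⟩

/-- An involution centralizing a subgroup of index two lies in `omega`. -/
theorem omega_of_big {S : Subgroup G} (T : Tab S) {y : Nat} (hy : InS y) (hyy : Mdl.mulN y y = Mdl.one)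
    (hbig : 512 ≤ sylL.countP fun a => Mdl.commN a y) : y ∈ omega := by
  by_contra hyo
  have hy1 : y ≠ Mdl.one := fun e => hyo (e ▸ small_lists.2.2.2.2)
  have hcov := List.all_eq_true.1 invTab_cover y ((mem_sylL y).2 hy)
  simp only [hyy, Bool.or_eq_true, Bool.not_eq_true', Nat.beq_refl, Bool.true_eq_false, false_or,
    Nat.beq_eq, hy1, List.any_eq_true] at hcov
  obtain ⟨x, hx, rfl⟩ := hcov
  have h := List.all_eq_true.1 invTab_chk x hx
  simp only [Bool.and_eq_true, inSB_iff, Nat.beq_eq, Bool.or_eq_true, List.contains_iff_mem,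
    List.any_eq_true] at h
  obtain ⟨⟨⟨hr, hn⟩, he⟩, h⟩ := h
  rcases h with (⟨h1, h2⟩ | h) | ⟨r, hr', e⟩
  · exact hyo (h2 ▸ h1)
  · exact hyo h
  have hlt := List.all_eq_true.1 rep_small r hr'
  rw [Nat.blt_eq] at hlt
  rw [← T.card_cent hy, ← he, ← T.conj hn hr] at hbig
  rw [e, ← T.card_cent hr] at hlt
  refine absurd (lt_of_le_of_lt hbig (lt_of_eq_of_lt ?_ hlt)) (lt_irrefl 512)
  refine Nat.card_congr ((MulAut.conj (T.f x.2.2)).symm.toEquiv.subtypeEquiv fun g => ?_)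
  show g ∈ S ⊓ _ ↔ (T.f x.2.2)⁻¹ * g * T.f x.2.2 ∈ S ⊓ _
  simp only [Subgroup.mem_inf, Subgroup.mem_centralizer_singleton_iff]
  constructor
  · rintro ⟨h1, h2⟩
    refine ⟨mul_mem (mul_mem (inv_mem (T.mem hn)) h1) (T.mem hn), ?_⟩
    calc (T.f x.2.2)⁻¹ * g * T.f x.2.2 * T.f x.2.1
        = (T.f x.2.2)⁻¹ * (g * (T.f x.2.2 * T.f x.2.1 * (T.f x.2.2)⁻¹)) * T.f x.2.2 := by group
      _ = (T.f x.2.2)⁻¹ * (T.f x.2.2 * T.f x.2.1 * (T.f x.2.2)⁻¹ * g) * T.f x.2.2 := by rw [h2]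
      _ = _ := by group
  · rintro ⟨h1, h2⟩
    refine ⟨?_, ?_⟩
    · have := mul_mem (mul_mem (T.mem hn) h1) (inv_mem (T.mem hn))
      simpa [mul_assoc] using this
    · calc g * (T.f x.2.2 * T.f x.2.1 * (T.f x.2.2)⁻¹)
          = T.f x.2.2 * ((T.f x.2.2)⁻¹ * g * T.f x.2.2 * T.f x.2.1) * (T.f x.2.2)⁻¹ := by group
        _ = T.f x.2.2 * (T.f x.2.1 * ((T.f x.2.2)⁻¹ * g * T.f x.2.2)) * (T.f x.2.2)⁻¹ := by rw [h2]
        _ = _ := by group

/-- Some element of the centralizer of the centre moves `u` into the centralizer of `p`. -/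
theorem exists_moved [IsSimpleGroup G] (S : Sylow 2 G) (T : Tab (S : Subgroup G)) {u p a b c : Nat}
    (hok : moveOk u p a b c = true) :
    ∃ g, g * T.f Mdl.tN = T.f Mdl.tN * g ∧ g * T.f u * g⁻¹ ∈ (S : Subgroup G) ∧
      g * T.f u * g⁻¹ * T.f p = T.f p * (g * T.f u * g⁻¹) := by
  classical
  haveI : Fact (Nat.Prime 2) := ⟨Nat.prime_two⟩
  simp only [moveOk, List.all_cons, List.all_nil, Bool.and_true, Bool.and_eq_true, inSB_iff, Nat.beq_eq,
    Bool.not_eq_true', List.contains_iff_mem, List.all_eq_true] at hok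
  obtain ⟨⟨⟨⟨⟨⟨⟨⟨⟨⟨⟨hu, ha, hb, hc⟩, hp⟩, huu⟩, hup⟩, hp1⟩, hpt⟩, hau⟩, hbu⟩, hcu⟩, habc⟩, homp⟩ := hok
  have hpS := omega_inS hp
  set z := T.f Mdl.tN with hz
  have hcardP : Nat.card ((S : Subgroup G) ⊓ Subgroup.centralizer ({T.f p} : Set G) : Subgroup G) = 512 := by
    rw [T.card_cent hpS]
    have h := List.all_eq_true.1 omega_big p hp
    simpa [hp1, hpt] using h
  set Q2 := (S : Subgroup G) ⊓ Subgroup.centralizer ({T.f p} : Set G) with hQ2
  have hQi : Q2.relIndex (S : Subgroup G) = 2 := by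
    have h := (Q2.subgroupOf (S : Subgroup G)).card_mul_index
    rw [Nat.card_congr (Subgroup.subgroupOfEquivOfLe (inf_le_left : Q2 ≤ (S : Subgroup G))).toEquiv,
      hcardP, T.card] at h
    rw [Subgroup.relIndex]
    omega
  have hodd : Odd (S : Subgroup G).index := by
    rw [← Nat.not_even_iff_odd, even_iff_two_dvd]
    exact S.not_dvd_index
  have huu' : T.f u * T.f u = 1 := by rw [← T.map_mul u u hu hu, huu, T.one]
  have huS := T.mem hu
  rcases CfsgLib.FiLarge.Chz.extremal_transfer (S : Subgroup G) Q2 hodd inf_le_left hQi huu' with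
    ⟨M, hM, hM2, -⟩ | ⟨g, hgQ, hgodd⟩
  · exfalso
    rcases IsSimpleGroup.eq_bot_or_eq_top_of_normal M hM with rfl | rfl
    · rw [Subgroup.index_bot] at hM2
      have h := Subgroup.card_subgroup_dvd_card (S : Subgroup G)
      rw [T.card, hM2] at h
      exact absurd (Nat.le_of_dvd two_pos h) (by omega)
    · simp at hM2
  -- the image of the centralizer lies in the Sylow subgroup
  set C := Subgroup.centralizer ({T.f u} : Set G) with hC
  set R0 := (S : Subgroup G).map (MulAut.conj g).toMonoidHom ⊓ C with hR0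
  have hR0p : IsPGroup 2 (R0.subgroupOf C) :=
    ((S.isPGroup'.map _).to_le inf_le_left).of_equiv (Subgroup.subgroupOfEquivOfLe inf_le_right).symm
  let R : Sylow 2 C := hR0p.toSylow (by
    rw [← even_iff_two_dvd, Nat.not_even_iff_odd]
    exact hgodd)
  obtain ⟨P1, hP1⟩ := ((S.isPGroup'.to_le (inf_le_left : (S : Subgroup G) ⊓ C ≤ _)).of_equiv
    (Subgroup.subgroupOfEquivOfLe inf_le_right).symm).exists_le_sylow
  obtain ⟨d, hd⟩ := MulAction.exists_smul_eq C P1 R
  set h := g⁻¹ * (d : G) with hh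
  have hmap : ∀ x ∈ (S : Subgroup G), x * T.f u = T.f u * x → h * x * h⁻¹ ∈ (S : Subgroup G) := by
    intro x hx hxu
    have hxC : x ∈ C := Subgroup.mem_centralizer_singleton_iff.2 hxu
    have hm : (⟨x, hxC⟩ : C) ∈ (P1 : Subgroup C) := hP1 (Subgroup.mem_subgroupOf.2 ⟨hx, hxC⟩)
    have hm' : d * (⟨x, hxC⟩ : C) * d⁻¹ ∈ (R : Subgroup C) := by
      rw [← hd]
      exact ⟨_, hm, rfl⟩
    obtain ⟨⟨s, hs, e⟩, -⟩ := Subgroup.mem_subgroupOf.1 hm'
    have e' : g * s * g⁻¹ = (d : G) * x * (d : G)⁻¹ := e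
    rw [show h * x * h⁻¹ = g⁻¹ * ((d : G) * x * (d : G)⁻¹) * g by rw [hh]; group, ← e',
      show g⁻¹ * (g * s * g⁻¹) * g = s by group]
    exact hs
  have hdu : (d : G) * T.f u * (d : G)⁻¹ = T.f u := by
    rw [Subgroup.mem_centralizer_singleton_iff.1 d.2, mul_inv_cancel_right]
  have hyu : h * T.f u * h⁻¹ = g⁻¹ * T.f u * g := by
    rw [hh]; calc g⁻¹ * (d : G) * T.f u * (g⁻¹ * (d : G))⁻¹ = g⁻¹ * ((d : G) * T.f u * (d : G)⁻¹) * g := by group
      _ = _ := by rw [hdu]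
  obtain ⟨y, hy, ey⟩ := (T.mem_iff _).1 hgQ.1
  have hyp : T.f y * T.f p = T.f p * T.f y := by
    rw [ey]; exact Subgroup.mem_centralizer_singleton_iff.1 hgQ.2
  -- the image of the centre
  have img : ∀ x, InS x → Mdl.commN x u = true → ∃ x', InS x' ∧ T.f x' = h * T.f x * h⁻¹ := fun x hx hxu =>
    (T.mem_iff _).1 (hmap _ (T.mem hx) ((T.commN_iff hx hu).1 hxu))
  obtain ⟨a', ha', ea⟩ := img a ha hau
  obtain ⟨b', hb', eb⟩ := img b hb hbu
  obtain ⟨c', hc', ec⟩ := img c hc hcu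
  set w := commC (commC a' b') c' with hw
  have hab : InS (commC a b) := ((ha.mul hb).mul ha.inv).mul hb.inv
  have hab' : InS (commC a' b') := ((ha'.mul hb').mul ha'.inv).mul hb'.inv
  have hwS : InS w := ((hab'.mul hc').mul hab'.inv).mul hc'.inv
  have ew : T.f w = h * z * h⁻¹ := by
    rw [hw, T.f_comm hab' hc', T.f_comm ha' hb', ea, eb, ec, hz, ← habc, T.f_comm hab hc, T.f_comm ha hb]
    group
  by_cases hwt : T.f w = z
  · refine ⟨h, mul_inv_eq_iff_eq_mul.1 (ew.symm.trans hwt), hmap _ huS rfl, ?_⟩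
    rw [hyu, ← ey]; exact hyp
  have hw1 : w ≠ Mdl.one := fun e => T.tN_ne (by
    rw [e, T.one] at ew
    calc T.f Mdl.tN = h⁻¹ * (h * z * h⁻¹) * h := by rw [hz]; group
      _ = 1 := by rw [← ew]; group)
  have hwt' : w ≠ Mdl.tN := fun e => hwt (by rw [e])
  have hey : T.f y = h * T.f u * h⁻¹ := by rw [ey, hyu]
  have hy2 : Mdl.mulN y y = Mdl.one := by
    refine (T.eq_one_iff (hy.mul hy)).1 ?_
    rw [T.map_mul y y hy hy, hey, show h * T.f u * h⁻¹ * (h * T.f u * h⁻¹) = h * (T.f u * T.f u) * h⁻¹ by group,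
      huu']
    group
  have hu1 : T.f u ≠ 1 := fun e => by
    rw [show Mdl.commN u p = true from (T.commN_iff hu hpS).2 (by rw [e, one_mul, mul_one])] at hup
    exact Bool.noConfusion hup
  have hut : T.f u ≠ z := fun e => by
    rw [show Mdl.commN u p = true from (T.commN_iff hu hpS).2 (by
      rw [e]; exact (T.tN_central (T.mem hpS)).symm)] at hup
    exact Bool.noConfusion hup
  have hy1 : y ≠ Mdl.one := fun e => hu1 (by
    rw [e, T.one] at hey
    calc T.f u = h⁻¹ * (h * T.f u * h⁻¹) * h := by group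
      _ = 1 := by rw [← hey]; group)
  have hc1 : ∀ {x x'}, InS x → InS x' → T.f x' = h * T.f x * h⁻¹ → Mdl.commN x u = true →
      Mdl.commN x' y = true ∧ Mdl.commN x' w = true := by
    intro x x' hx hx' e hxu
    refine ⟨(T.commN_iff hx' hy).2 ?_, (T.commN_iff hx' hwS).2 ?_⟩
    · rw [e, hey, show h * T.f x * h⁻¹ * (h * T.f u * h⁻¹) = h * (T.f x * T.f u) * h⁻¹ by group,
        (T.commN_iff hx hu).1 hxu]
      group
    · rw [e, ew, show h * T.f x * h⁻¹ * (h * z * h⁻¹) = h * (T.f x * z) * h⁻¹ by group,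
        T.tN_central (T.mem hx), ← hz]
      group
  have hyw : y = Mdl.tN ∨ y = w ∨ y = Mdl.mulN w Mdl.tN :=
    T.invol_of_triple hy hy2 hy1 ha' hb' hc' rfl hw1 hwt' (hc1 ha ha' ea hau).1 (hc1 hb hb' eb hbu).1
      (hc1 hc hc' ec hcu).1 (hc1 ha ha' ea hau).2 (hc1 hb hb' eb hbu).2 (hc1 hc hc' ec hcu).2
  have hy_ne_w : y ≠ w := fun e => hut (by
    rw [e, ew] at hey
    exact (mul_left_cancel (mul_right_cancel hey)).symm)
  -- move the image of the centre back to the centre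
  set D := Subgroup.centralizer ({T.f w} : Set G) with hD
  have hSD : (S : Subgroup G).map (MulAut.conj h).toMonoidHom ≤ D := by
    rintro _ ⟨s, hs, rfl⟩
    refine Subgroup.mem_centralizer_singleton_iff.2 ?_
    show h * s * h⁻¹ * T.f w = T.f w * (h * s * h⁻¹)
    rw [ew, show h * s * h⁻¹ * (h * z * h⁻¹) = h * (s * z) * h⁻¹ by group, T.tN_central hs, ← hz]
    group
  have hcardh : Nat.card ((S : Subgroup G).map (MulAut.conj h).toMonoidHom) = Nat.card (S : Subgroup G) :=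
    Subgroup.card_map_of_injective (MulAut.conj h).injective
  have hShi : ¬ 2 ∣ ((S : Subgroup G).map (MulAut.conj h).toMonoidHom).index := by
    have h1 := ((S : Subgroup G).map (MulAut.conj h).toMonoidHom).card_mul_index
    rw [← (S : Subgroup G).card_mul_index, hcardh] at h1
    rw [Nat.eq_of_mul_eq_mul_left Nat.card_pos h1]
    exact S.not_dvd_index
  let S' : Sylow 2 G := (S.isPGroup'.map _).toSylow hShi
  have hS'D : (S' : Subgroup G) ≤ D := hSD
  obtain ⟨P2, hP2⟩ := ((S.isPGroup'.to_le (inf_le_left : (S : Subgroup G) ⊓ D ≤ _)).of_equiv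
    (Subgroup.subgroupOfEquivOfLe inf_le_right).symm).exists_le_sylow
  obtain ⟨e0, he0⟩ := MulAction.exists_smul_eq D P2 (S'.subtype hS'D)
  set k := h⁻¹ * (e0 : G) with hk
  have hkw : k * T.f w * k⁻¹ = z := by
    rw [hk, show h⁻¹ * (e0 : G) * T.f w * (h⁻¹ * (e0 : G))⁻¹ =
      h⁻¹ * ((e0 : G) * T.f w * (e0 : G)⁻¹) * h by group,
      Subgroup.mem_centralizer_singleton_iff.1 e0.2, mul_inv_cancel_right, ew]
    group
  have hkmap : ∀ x ∈ (S : Subgroup G) ⊓ D, k * x * k⁻¹ ∈ (S : Subgroup G) := by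
    intro x hx
    have hm : (⟨x, hx.2⟩ : D) ∈ (P2 : Subgroup D) := hP2 (Subgroup.mem_subgroupOf.2 hx)
    have hm' : e0 * (⟨x, hx.2⟩ : D) * e0⁻¹ ∈ ((S'.subtype hS'D : Sylow 2 D) : Subgroup D) := by
      rw [← he0]
      exact ⟨_, hm, rfl⟩
    obtain ⟨s, hs, e⟩ := (Subgroup.mem_subgroupOf.1 hm' : ((e0 * ⟨x, hx.2⟩ * e0⁻¹ : D) : G) ∈ (S' : Subgroup G))
    have e' : h * s * h⁻¹ = (e0 : G) * x * (e0 : G)⁻¹ := e
    rw [show k * x * k⁻¹ = h⁻¹ * ((e0 : G) * x * (e0 : G)⁻¹) * h by rw [hk]; group, ← e',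
      show h⁻¹ * (h * s * h⁻¹) * h = s by group]
    exact hs
  have hyD : ∀ x ∈ (S : Subgroup G) ⊓ D, x * T.f y = T.f y * x := by
    intro x hx
    have hxw := Subgroup.mem_centralizer_singleton_iff.1 hx.2
    rcases hyw with e | e | e
    · rw [e]; exact T.tN_central hx.1
    · exact absurd e hy_ne_w
    · rw [e, T.map_mul _ _ hwS InS.tN, ← mul_assoc, hxw, mul_assoc, T.tN_central hx.1, mul_assoc]
  have hyS : T.f y ∈ (S : Subgroup G) ⊓ D := by
    refine ⟨T.mem hy, Subgroup.mem_centralizer_singleton_iff.2 ?_⟩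
    rw [hey, ew,
      show h * T.f u * h⁻¹ * (h * z * h⁻¹) = h * (T.f u * z) * h⁻¹ by group, T.tN_central huS, ← hz]
    group
  obtain ⟨y', hy', ey'⟩ := (T.mem_iff _).1 (hkmap _ hyS)
  have hy'2 : Mdl.mulN y' y' = Mdl.one := by
    refine (T.eq_one_iff (hy'.mul hy')).1 ?_
    rw [T.map_mul y' y' hy' hy', ey',
      show k * T.f y * k⁻¹ * (k * T.f y * k⁻¹) = k * (T.f y * T.f y) * k⁻¹ by group,
      ← T.map_mul y y hy hy, hy2, T.one]
    group
  have hbig : 512 ≤ sylL.countP fun x => Mdl.commN x y' := by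
    rw [← T.card_cent hy']
    have h512 : Nat.card ((S : Subgroup G) ⊓ D : Subgroup G) = 512 := by
      rw [T.card_cent hwS]
      have h := List.all_eq_true.1 omega_big w (T.triple_omega ha' hb' hc')
      simpa [hw1, hwt'] using h
    rw [← h512, ← Subgroup.card_map_of_injective (f := (MulAut.conj k).toMonoidHom) (MulAut.conj k).injective]
    refine Subgroup.card_le_of_le ?_
    rintro _ ⟨x, hx, rfl⟩
    refine ⟨hkmap x hx, Subgroup.mem_centralizer_singleton_iff.2 ?_⟩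
    show k * x * k⁻¹ * T.f y' = T.f y' * (k * x * k⁻¹)
    rw [ey', show k * x * k⁻¹ * (k * T.f y * k⁻¹) = k * (x * T.f y) * k⁻¹ by group, hyD x hx]
    group
  have hy'o := T.omega_of_big hy' hy'2 hbig
  have hconj : k * h * T.f u * (k * h)⁻¹ = T.f y' := by
    rw [ey', hey]; group
  refine ⟨k * h, ?_, ?_, ?_⟩
  · refine mul_inv_eq_iff_eq_mul.1 ?_
    rw [show k * h * z * (k * h)⁻¹ = k * (h * z * h⁻¹) * k⁻¹ by group, ← ew, hkw]
  · rw [hconj]; exact T.mem hy'
  · rw [hconj]; exact (T.commN_iff hy' hpS).1 (homp y' hy'o)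

end Tab

theorem move_first : moveOk 17926273 17926280 20027520 17926304 17926274 = true := by decide +kernel

theorem move_second : moveOk 17926304 17926276 18057600 17926288 17926273 = true := by decide +kernel

end CfsgLib.L5Type
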