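import Cfsg.Agent.L5Type.Local
import Cfsg.Agent.L5Type.Moved
import Cfsg.Agent.LocalB.OddSignalizer

/-!
The centralizer of a central involution modulo its odd core is the model, in the coordinates of the
Sylow subgroup.
-/

set_option autoImplicit false
set_option linter.unusedSectionVars false
set_option linter.style.haveILetI false
set_option maxRecDepth 100000

namespace CfsgLib.L5Type

open CfsgLib.HeldUniq

universe u v

/-- Conjugating a frame by an element of the centralizer. -/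
def frameConj {G : Type u} [Group G] {t : G} (F : HeldUniq.Frame t) {d : G} (hd : d * t = t * d) :
    HeldUniq.Frame t where
  ev a := d * F.ev a * d⁻¹
  map_mul a b ha hb := by
    show _ = d * F.ev a * d⁻¹ * (d * F.ev b * d⁻¹)
    rw [F.map_mul a b ha hb]; group
  inj a b ha hb h := F.inj a b ha hb (mul_left_cancel (mul_right_cancel h))
  mem_iff g := by
    have hdc : d ∈ Subgroup.centralizer ({t} : Set G) := Subgroup.mem_centralizer_singleton_iff.2 hd
    constructor
    · intro hg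
      obtain ⟨a, ha, e⟩ := (F.mem_iff (d⁻¹ * g * d)).1 (mul_mem (mul_mem (inv_mem hdc) hg) hdc)
      exact ⟨a, ha, by rw [e]; group⟩
    · rintro ⟨a, ha, rfl⟩
      exact mul_mem (mul_mem hdc ((F.mem_iff _).2 ⟨a, ha, rfl⟩)) (inv_mem hdc)
  ev_t := by rw [F.ev_t, hd, mul_inv_cancel_right]

theorem oddCore_of_bijective {H : Type u} [Group H] [Finite H] {K : Type v} [Group K] [Finite K]
    (φ : H →* K) (hφ : Function.Bijective φ) (hH : Cfsg.oddCore H = ⊥) : Cfsg.oddCore K = ⊥ := by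
  have hn : (Cfsg.oddCore K).Normal := Solvable.pPrimeCore_normal 2
  have hle : (Cfsg.oddCore K).comap φ ≤ Cfsg.oddCore H :=
    Solvable.le_pPrimeCore 2 (hn.comap φ) (by
      rw [← Subgroup.card_map_of_injective hφ.1, Subgroup.map_comap_eq_self_of_surjective hφ.2]
      exact Solvable.coprime_card_pPrimeCore 2)
  rw [eq_bot_iff]
  intro x hx
  obtain ⟨y, rfl⟩ := hφ.2 x
  have := hle hx
  rw [hH, Subgroup.mem_bot] at this
  rw [this, map_one]
  exact one_mem _

variable {G : Type u} [Group G] [Finite G]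

/-- The centralizer of an element modulo its odd core. -/
abbrev Hb (z : G) : Type u :=
  ↥(Subgroup.centralizer ({z} : Set G)) ⧸ Cfsg.oddCore ↥(Subgroup.centralizer ({z} : Set G))

open Classical in
/-- The image in the centralizer modulo its odd core. -/
noncomputable def bar (z g : G) : Hb z :=
  if h : g ∈ Subgroup.centralizer ({z} : Set G) then
    QuotientGroup.mk' (Cfsg.oddCore ↥(Subgroup.centralizer ({z} : Set G))) ⟨g, h⟩
  else 1

theorem bar_mk {z : G} (g : ↥(Subgroup.centralizer ({z} : Set G))) :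
    bar z (g : G) = QuotientGroup.mk' (Cfsg.oddCore ↥(Subgroup.centralizer ({z} : Set G))) g := by
  rw [bar, dif_pos g.2]

theorem bar_mul {z g k : G} (hg : g * z = z * g) (hk : k * z = z * k) :
    bar z (g * k) = bar z g * bar z k := by
  have h1 : g ∈ Subgroup.centralizer ({z} : Set G) := Subgroup.mem_centralizer_singleton_iff.2 hg
  have h2 : k ∈ Subgroup.centralizer ({z} : Set G) := Subgroup.mem_centralizer_singleton_iff.2 hk
  rw [bar_mk ⟨g, h1⟩, bar_mk ⟨k, h2⟩, ← map_mul, ← bar_mk]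
  rfl

theorem bar_central {z : G} (x : Hb z) : bar z z * x = x * bar z z := by
  obtain ⟨y, rfl⟩ := QuotientGroup.mk'_surjective _ x
  rw [bar_mk ⟨z, Subgroup.mem_centralizer_singleton_iff.2 rfl⟩, ← map_mul, ← map_mul]
  congr 1
  exact Subtype.ext (Subgroup.mem_centralizer_singleton_iff.1 y.2).symm

/-- A group of this type with coordinates on the Sylow subgroup and on the centralizer. -/
structure Base (G : Type u) [Group G] [Finite G] where
  /-- The Sylow subgroup. -/
  S : Sylow 2 G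
  /-- Its coordinates. -/
  T : Tab (S : Subgroup G)
  /-- The central involution. -/
  z : G
  hz : T.f Mdl.tN = z
  /-- The coordinates of the centralizer modulo its odd core. -/
  F : HeldUniq.Frame (bar z z)
  lift : ∀ a, InS a → bar z (T.f a) = F.ev a

theorem exists_base [IsSimpleGroup G] (S : Sylow 2 G) (T : Tab (S : Subgroup G)) :
    ∃ B : Base G, B.S = S := by
  classical
  haveI : Fact (Nat.Prime 2) := ⟨Nat.prime_two⟩
  set z := T.f Mdl.tN with hzdef
  set H := Subgroup.centralizer ({z} : Set G) with hHdef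
  have hcomm : ∀ {x}, x ∈ (S : Subgroup G) → x * z = z * x := fun hx => T.tN_central hx
  have hSH : (S : Subgroup G) ≤ H := fun x hx => Subgroup.mem_centralizer_singleton_iff.2 (hcomm hx)
  set tb := bar z z with htb
  set C := Subgroup.centralizer ({tb} : Set (Hb z)) with hCdef
  have hCtop : ∀ x : Hb z, x ∈ C := fun x => Subgroup.mem_centralizer_singleton_iff.2 (bar_central x).symm
  set π : ↥H →* ↥C := (QuotientGroup.mk' (Cfsg.oddCore ↥H)).codRestrict C (fun _ => hCtop _) with hπ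
  have hπs : Function.Surjective π := fun x => by
    obtain ⟨y, hy⟩ := QuotientGroup.mk'_surjective _ (x : Hb z)
    exact ⟨y, Subtype.ext hy⟩
  have hker : ∀ y, π y = 1 → y ∈ Cfsg.oddCore ↥H := fun y hy =>
    (QuotientGroup.eq_one_iff y).1 (congrArg Subtype.val hy)
  have hπS : ∀ y : ↥H, (y : G) ∈ (S : Subgroup G) → π y = 1 → y = 1 := fun y hy e =>
    LocalB.eq_one_of_odd_pgroup_two LocalB.odd_card_oddCore
      (S.isPGroup'.comap_subtype (K := H)) (hker y e) (Subgroup.mem_subgroupOf.2 hy)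
  let SH : Sylow 2 ↥H := S.subtype hSH
  let S1 : Sylow 2 ↥C := SH.mapSurjective hπs
  have hS1 : ∀ x, x ∈ (S1 : Subgroup ↥C) ↔ ∃ y : ↥H, (y : G) ∈ (S : Subgroup G) ∧ π y = x := fun x => Iff.rfl
  let f1 : Nat → ↥C := fun a => if h : T.f a ∈ H then π ⟨T.f a, h⟩ else 1
  have hf1 : ∀ {a} (ha : InS a), f1 a = π ⟨T.f a, hSH (T.mem ha)⟩ := fun ha => dif_pos _
  let T1 : Tab (S1 : Subgroup ↥C) :=
    { f := f1
      map_mul := fun a b ha hb => by
        rw [hf1 ha, hf1 hb, hf1 (ha.mul hb), ← map_mul]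
        congr 1
        exact Subtype.ext (T.map_mul a b ha hb)
      inj := fun a b ha hb h => by
        rw [hf1 ha, hf1 hb, ← mul_inv_eq_one, ← map_inv, ← map_mul] at h
        exact T.inj a b ha hb (mul_inv_eq_one.1 (congrArg Subtype.val
          (hπS _ (mul_mem (T.mem ha) (inv_mem (T.mem hb))) h)))
      mem_iff := fun g => by
        rw [hS1]
        constructor
        · rintro ⟨y, hy, rfl⟩
          obtain ⟨a, ha, e⟩ := (T.mem_iff _).1 hy
          exact ⟨a, ha, by rw [hf1 ha]; exact congrArg π (Subtype.ext e)⟩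
        · rintro ⟨a, ha, rfl⟩
          exact ⟨⟨T.f a, hSH (T.mem ha)⟩, T.mem ha, (hf1 ha).symm⟩ }
  set t1 : ↥C := ⟨tb, hCtop _⟩ with ht1
  have hT1t : T1.f Mdl.tN = t1 := by
    show f1 _ = _
    rw [hf1 InS.tN]
    exact Subtype.ext (bar_mk (z := z) ⟨z, _⟩).symm
  have hcen : ∀ c : ↥C, t1 * c = c * t1 := fun c => Subtype.ext (bar_central (c : Hb z))
  have hO : Cfsg.oddCore ↥C = ⊥ := oddCore_of_bijective
    ((MonoidHom.id (Hb z)).codRestrict C hCtop)
    ⟨fun a b h => congrArg Subtype.val h, fun x => ⟨x, rfl⟩⟩ LocalB.oddCore_quotient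
  have hm : ∀ σ, ∃ g, g * T1.f (mvU σ) * g⁻¹ * T1.f (iC (fixV σ)) =
      T1.f (iC (fixV σ)) * (g * T1.f (mvU σ) * g⁻¹) := by
    intro σ
    obtain ⟨a, b, c, hok⟩ : ∃ a b c, moveOk (mvU σ) (iC (fixV σ)) a b c = true := by
      cases σ
      · exact ⟨18057600, 17926288, 17926273, (show iC (fixV false) = 17926276 by decide +kernel) ▸ move_second⟩
      · exact ⟨20027520, 17926304, 17926274, (show iC (fixV true) = 17926280 by decide +kernel) ▸ move_first⟩
    obtain ⟨g, hg, -, hgp⟩ := T.exists_moved S hok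
    have hu : InS (mvU σ) := (inSB_iff _).1 (mv_chk σ).1
    have hp : InS (iC (fixV σ)) := (inSB_iff _).1 (iC_ok _)
    refine ⟨π ⟨g, Subgroup.mem_centralizer_singleton_iff.2 hg⟩, ?_⟩
    show _ * f1 _ * _ * f1 _ = f1 _ * (_ * f1 _ * _)
    simp only [hf1 hu, hf1 hp, ← map_inv, ← map_mul]
    exact congrArg π (Subtype.ext hgp)
  obtain ⟨Fc, hFt, hU⟩ := exists_frame_local S1 T1 hT1t hcen hO hm
  obtain ⟨s, hs, hs2⟩ := Fc.exists_section hU
  obtain ⟨F0⟩ := HeldC.exists_heldUniq_frame Fc (show ((Fc.t : ↥C) : Hb z) = tb by rw [hFt]) hs hs2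
  -- conjugate the Sylow subgroup of the frame to the image
  have hcardC : Nat.card ↥C = 21504 := F0.card_cent
  let P0 : Sylow 2 ↥C := (IsPGroup.of_card (n := 10) (by
      rw [Nat.card_congr (Subgroup.subgroupOfEquivOfLe F0.syl_le).toEquiv, F0.card_syl]; norm_num) :
      IsPGroup 2 (F0.syl.subgroupOf C)).toSylow (by
    have h := (F0.syl.subgroupOf C).card_mul_index
    rw [Nat.card_congr (Subgroup.subgroupOfEquivOfLe F0.syl_le).toEquiv, F0.card_syl, hcardC] at h
    omega)
  obtain ⟨d, hd⟩ := MulAction.exists_smul_eq ↥C P0 S1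
  set F := frameConj F0 (d := (d : Hb z)) (Subgroup.mem_centralizer_singleton_iff.1 d.2) with hF
  have himg : ∀ x : Hb z, (∃ a, InS a ∧ F.ev a = x) ↔ ∃ b, InS b ∧ bar z (T.f b) = x := by
    intro x
    have key : ∀ y : ↥C, (∃ a, InS a ∧ F.ev a = (y : Hb z)) ↔ y ∈ (S1 : Subgroup ↥C) := by
      intro y
      rw [← hd, Sylow.smul_def, Sylow.pointwise_smul_def]
      constructor
      · rintro ⟨a, ha, e⟩
        refine ⟨⟨F0.ev a, hCtop _⟩, ⟨a, ha, rfl⟩, Subtype.ext ?_⟩
        exact e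
      · rintro ⟨w, ⟨a, ha, e⟩, rfl⟩
        exact ⟨a, ha, congrArg (fun q => (d : Hb z) * q * (d : Hb z)⁻¹) e⟩
    rw [show x = ((⟨x, hCtop x⟩ : ↥C) : Hb z) from rfl, key, T1.mem_iff]
    refine exists_congr fun b => and_congr_right fun hb => ?_
    show f1 b = _ ↔ _
    rw [hf1 hb, bar_mk ⟨T.f b, hSH (T.mem hb)⟩]
    exact ⟨fun e => congrArg Subtype.val e, fun e => Subtype.ext e⟩
  choose σ hσ hσe using fun (a : {a // InS a}) => (himg _).1 ⟨a.1, a.2, rfl⟩
  haveI : DecidablePred InS := fun a => decidable_of_iff _ (inSB_iff a)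
  let f' : Nat → G := fun a => if h : InS a then T.f (σ ⟨a, h⟩) else 1
  have hbar : ∀ {x y}, x ∈ (S : Subgroup G) → y ∈ (S : Subgroup G) → bar z x = bar z y → x = y := by
    intro x y hx hy h
    obtain ⟨a, ha, rfl⟩ := (T.mem_iff x).1 hx
    obtain ⟨b, hb, rfl⟩ := (T.mem_iff y).1 hy
    refine congrArg T.f (T1.inj a b ha hb (Subtype.ext ?_))
    show ((f1 a : ↥C) : Hb z) = f1 b
    rw [hf1 ha, hf1 hb]
    rw [bar_mk ⟨T.f a, hSH hx⟩, bar_mk ⟨T.f b, hSH hy⟩] at h
    exact h
  have hf' : ∀ {a} (ha : InS a), bar z (f' a) = F.ev a ∧ f' a ∈ (S : Subgroup G) := fun {a} ha => by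
    simp only [f', dif_pos ha]
    exact ⟨hσe ⟨a, ha⟩, T.mem (hσ _)⟩
  let T' : Tab (S : Subgroup G) :=
    { f := f'
      map_mul := fun a b ha hb => by
        refine hbar (hf' (ha.mul hb)).2 (mul_mem (hf' ha).2 (hf' hb).2) ?_
        rw [bar_mul (hcomm (hf' ha).2) (hcomm (hf' hb).2), (hf' ha).1, (hf' hb).1, (hf' (ha.mul hb)).1,
          F.map_mul a b ha.mem hb.mem]
      inj := fun a b ha hb h => F.inj a b ha.mem hb.mem (by rw [← (hf' ha).1, ← (hf' hb).1, h])
      mem_iff := fun g => by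
        refine ⟨fun hg => ?_, fun ⟨a, ha, e⟩ => e ▸ (hf' ha).2⟩
        obtain ⟨b, hb, rfl⟩ := (T.mem_iff g).1 hg
        obtain ⟨a, ha, e⟩ := (himg _).2 ⟨b, hb, rfl⟩
        exact ⟨a, ha, hbar (hf' ha).2 hg ((hf' ha).1.trans e)⟩ }
  exact ⟨⟨S, T', z, hbar (hf' InS.tN).2 (T.mem InS.tN) ((hf' InS.tN).1.trans F.ev_t), F,
    fun a ha => (hf' ha).1⟩, rfl⟩

end CfsgLib.L5Type
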