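import Cfsg.Agent.L5Type.VData
import Cfsg.Agent.ZStar.Final
import Cfsg.Agent.Signalizer.Basic

/-!
In the centralizer of the involution outside the class of the centre the four-group is normalized modulo
the subgroup in hand.
-/

set_option autoImplicit false
set_option linter.unusedSectionVars false
set_option linter.style.haveILetI false
set_option maxRecDepth 100000

namespace CfsgLib.L5Type

open CfsgLib.HeldUniq
open CfsgLib.Trichotomy (kind isT patBoth)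

universe u

namespace Base

variable {G : Type u} [Group G] [Finite G] (B : Base G)

/-- Fusion of two elements at once. -/
theorem control_pair {σ : Bool} {u u' w g : G} (hu : u ∈ B.A σ) (hu' : u' ∈ B.A σ) (hw : w ∈ B.A σ)
    (hg : g * u * g⁻¹ = u') (hgw : g * w * g⁻¹ = w) :
    ∃ n ∈ Subgroup.normalizer (B.A σ : Set G), n * u * n⁻¹ = u' ∧ n * w * n⁻¹ = w := by
  haveI : Fact (Nat.Prime 2) := ⟨Nat.prime_two⟩
  have hsq := B.sq_A σ
  set N := Subgroup.centralizer ({u'} : Set G) ⊓ Subgroup.centralizer ({w} : Set G) with hN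
  have h1 : B.A σ ≤ N := fun x hx => ⟨Subgroup.mem_centralizer_singleton_iff.2 (Frame.comm_of_sq hsq hx hu'),
    Subgroup.mem_centralizer_singleton_iff.2 (Frame.comm_of_sq hsq hx hw)⟩
  have h2 : (B.A σ).map (MulAut.conj g).toMonoidHom ≤ N := by
    rintro _ ⟨x, hx, rfl⟩
    have key : ∀ a b, g * a * g⁻¹ = b → x * a = a * x → g * x * g⁻¹ * b = b * (g * x * g⁻¹) := by
      rintro a _ rfl h
      calc g * x * g⁻¹ * (g * a * g⁻¹) = g * (x * a) * g⁻¹ := by group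
        _ = g * (a * x) * g⁻¹ := by rw [h]
        _ = _ := by group
    exact ⟨Subgroup.mem_centralizer_singleton_iff.2 (key u u' hg (Frame.comm_of_sq hsq hx hu)),
      Subgroup.mem_centralizer_singleton_iff.2 (key w w hgw (Frame.comm_of_sq hsq hx hw))⟩
  have hp : IsPGroup 2 (B.A σ) := B.S.isPGroup'.to_le (B.A_le σ)
  obtain ⟨T1, hT1⟩ := (hp.of_equiv (Subgroup.subgroupOfEquivOfLe h1).symm).exists_le_sylow
  obtain ⟨T2, hT2⟩ := ((hp.map (MulAut.conj g).toMonoidHom).of_equiv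
    (Subgroup.subgroupOfEquivOfLe h2).symm).exists_le_sylow
  obtain ⟨c, hc⟩ := MulAction.exists_smul_eq N T2 T1
  obtain ⟨h, hh⟩ := B.exists_conj_le (T1.isPGroup'.map N.subtype)
  have hA : h ∈ Subgroup.normalizer (B.A σ : Set G) :=
    B.weakly fun x hx => hh x ⟨⟨x, h1 hx⟩, hT1 (show (⟨x, h1 hx⟩ : N) ∈ (B.A σ).subgroupOf N from hx), rfl⟩
  have hB : h * ((c : G) * g) ∈ Subgroup.normalizer (B.A σ : Set G) := by
    refine B.weakly fun x hx => ?_
    have hx2 : g * x * g⁻¹ ∈ N := h2 ⟨x, hx, rfl⟩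
    have hm : c * (⟨g * x * g⁻¹, hx2⟩ : N) * c⁻¹ ∈ (T1 : Subgroup N) := by
      rw [← hc, Sylow.coe_subgroup_smul]
      exact Subgroup.smul_mem_pointwise_smul (⟨g * x * g⁻¹, hx2⟩ : N) (MulAut.conj c) _
        (hT2 (show (⟨g * x * g⁻¹, hx2⟩ : N) ∈ ((B.A σ).map _).subgroupOf N from ⟨x, hx, rfl⟩))
    rw [show h * ((c : G) * g) * x * (h * ((c : G) * g))⁻¹ =
      h * ((c : G) * (g * x * g⁻¹) * (c : G)⁻¹) * h⁻¹ by group]
    exact hh _ ⟨_, hm, rfl⟩
  have hcu := Subgroup.mem_centralizer_singleton_iff.1 c.2.1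
  have hcw := Subgroup.mem_centralizer_singleton_iff.1 c.2.2
  refine ⟨(c : G) * g, ?_, ?_, ?_⟩
  · have := mul_mem (inv_mem hA) hB
    rwa [inv_mul_cancel_left] at this
  · calc (c : G) * g * u * ((c : G) * g)⁻¹ = (c : G) * (g * u * g⁻¹) * (c : G)⁻¹ := by group
      _ = u' := by rw [hg, hcu, mul_inv_cancel_right]
  · calc (c : G) * g * w * ((c : G) * g)⁻¹ = (c : G) * (g * w * g⁻¹) * (c : G)⁻¹ := by group
      _ = w := by rw [hgw, hcw, mul_inv_cancel_right]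

theorem mem_cvL {a : Nat} : a ∈ cvL ↔ InS a ∧ Mdl.commN a vC = true := by
  rw [cvL, List.mem_filter, mem_sylL]

theorem not_pure_kind {d0 d3 : Bool} (hb : B.IsPat (patBoth d0 d3)) {a : Nat} (ha : InS a)
    (hk : kind a = 3 ∨ kind a = 5) : ¬ IsConj B.z (B.T.f a) := by
  intro hc
  obtain ⟨-, -, -, h⟩ := B.kind_lt hb ha hc
  rcases hk with e | e <;> rw [e] at h <;> exact Bool.noConfusion h

/-- An element of the normalizer of an elementary subgroup fixing `vC` fixes the four-group. -/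
theorem fix_four {d0 d3 : Bool} (hb : B.IsPat (patBoth d0 d3)) {σ : Bool} {n : G}
    (hn : n ∈ Subgroup.normalizer (B.A σ : Set G)) (hnv : n * B.T.f vC * n⁻¹ = B.T.f vC) :
    n * B.T.f rC' * n⁻¹ = B.T.f rC' ∨ n * B.T.f rC' * n⁻¹ = B.T.f wC := by
  obtain ⟨hv, hr, hw, hvr, -, -, hr2, -, -, hv1, hr1, -, hrv, -, hv0, hv3, hr0, hr3, kv, kr, kw⟩ := four_facts
  rw [inSB_iff] at hv hr hw
  have hrW : rC' ∈ wL σ := by cases σ; exacts [hr0, hr3]
  have hvW : vC ∈ wL σ := by cases σ; exacts [hv0, hv3]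
  obtain ⟨y, hy, ey⟩ : ∃ y ∈ wL σ, B.T.f y = n * B.T.f rC' * n⁻¹ :=
    (Subgroup.mem_normalizer_iff.1 hn _).1 ((B.f_mem_A hr).2 hrW)
  have hyS := wL_inS hy
  have hpure : ∀ x, IsConj B.z x ↔ IsConj B.z (n * x * n⁻¹) := fun x =>
    ⟨fun h => h.trans (isConj_iff.2 ⟨n, rfl⟩), fun h => h.trans (isConj_iff.2 ⟨n, rfl⟩).symm⟩
  have evy : B.T.f (Mdl.mulN vC y) = n * B.T.f wC * n⁻¹ := by
    rw [← hvr, B.T.map_mul _ _ hv hyS, B.T.map_mul _ _ hv hr, ey,
      show n * (B.T.f vC * B.T.f rC') * n⁻¹ = n * B.T.f vC * n⁻¹ * (n * B.T.f rC' * n⁻¹) by group, hnv]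
  have hyT : isT (patBoth d0 d3) y = false := by
    rw [← Bool.not_eq_true, B.isT_iff hb hyS, ey, ← hpure]
    exact B.not_pure_kind hb hr (Or.inr kr)
  have hvyT : isT (patBoth d0 d3) (Mdl.mulN vC y) = false := by
    rw [← Bool.not_eq_true, B.isT_iff hb (hv.mul hyS), evy, ← hpure]
    exact B.not_pure_kind hb hw (Or.inr kw)
  have hy1 : y ≠ Mdl.one := fun e => hr1 ((B.T.eq_one_iff hr).1 (conj_eq_one_iff.1 (by rw [← ey, e, B.T.one])))
  have hyv : y ≠ vC := fun e => hrv (B.T.inj _ _ hr hv (by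
    rw [e] at ey
    exact (mul_left_cancel (mul_right_cancel (hnv.trans ey))).symm))
  have hprof : prof2 (patBoth d0 d3) (wL σ) y = prof2 (patBoth d0 d3) (wL σ) rC' := by
    have key : ∀ x ∈ wL σ, Nat.card {f : G // f ∈ B.A σ ∧ IsConj B.z f ∧ IsConj B.z (B.T.f vC * f) ∧
        IsConj B.z (B.T.f x * f)} = prof2 (patBoth d0 d3) (wL σ) x := by
      intro x hx
      rw [prof2, List.countP_eq_length_filter]
      refine B.T.card_of_codes (X := {f : G | f ∈ B.A σ ∧ IsConj B.z f ∧ IsConj B.z (B.T.f vC * f) ∧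
        IsConj B.z (B.T.f x * f)}) _ ((wL_facts σ).2.1.filter _)
        (fun a ha => wL_inS (List.mem_filter.1 ha).1) fun f => ⟨?_, ?_⟩
      · rintro ⟨⟨a, ha, rfl⟩, h1, h2, h3⟩
        have hm := wL_inS ha
        rw [← B.T.map_mul _ _ hv hm] at h2
        rw [← B.T.map_mul _ _ (wL_inS hx) hm] at h3
        refine ⟨a, List.mem_filter.2 ⟨ha, ?_⟩, rfl⟩
        rw [(B.isT_iff hb hm).2 h1, (B.isT_iff hb (hv.mul hm)).2 h2, (B.isT_iff hb ((wL_inS hx).mul hm)).2 h3]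
        rfl
      · rintro ⟨a, ha, rfl⟩
        obtain ⟨ha, h⟩ := List.mem_filter.1 ha
        simp only [Bool.and_eq_true] at h
        have hm := wL_inS ha
        refine ⟨⟨a, ha, rfl⟩, (B.isT_iff hb hm).1 h.1.1, ?_, ?_⟩
        · rw [← B.T.map_mul _ _ hv hm]; exact (B.isT_iff hb (hv.mul hm)).1 h.1.2
        · rw [← B.T.map_mul _ _ (wL_inS hx) hm]; exact (B.isT_iff hb ((wL_inS hx).mul hm)).1 h.2
    rw [← key y hy, ← key rC' hrW]
    refine (Nat.card_congr ((MulAut.conj n).toEquiv.subtypeEquiv fun f => ?_)).symm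
    show f ∈ B.A σ ∧ IsConj B.z f ∧ IsConj B.z (B.T.f vC * f) ∧ IsConj B.z (B.T.f rC' * f) ↔
      n * f * n⁻¹ ∈ B.A σ ∧ IsConj B.z (n * f * n⁻¹) ∧ IsConj B.z (B.T.f vC * (n * f * n⁻¹)) ∧
        IsConj B.z (B.T.f y * (n * f * n⁻¹))
    rw [ey, ← Subgroup.mem_normalizer_iff.1 hn f, ← hpure f]
    conv_rhs => rw [← hnv]
    rw [show n * B.T.f vC * n⁻¹ * (n * f * n⁻¹) = n * (B.T.f vC * f) * n⁻¹ by group,
      show n * B.T.f rC' * n⁻¹ * (n * f * n⁻¹) = n * (B.T.f rC' * f) * n⁻¹ by group, ← hpure, ← hpure]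
  have h := List.all_eq_true.1 (four_sig d0 d3 σ) y hy
  simp only [hyT, hvyT, hprof, Nat.beq_refl, Bool.not_true, Bool.or_false, Bool.or_eq_true, Nat.beq_eq,
    hy1, hyv, false_or] at h
  rcases h with h | h <;> rw [h] at ey
  · exact Or.inl ey.symm
  · exact Or.inr ey.symm

theorem exists_T_sylow {d0 d3 : Bool} (hb : B.IsPat (patBoth d0 d3)) :
    ∃ P : Sylow 2 (Subgroup.centralizer ({B.T.f vC} : Set G)),
      ∀ x, x ∈ (P : Subgroup (Subgroup.centralizer ({B.T.f vC} : Set G))) ↔ (x : G) ∈ (B.S : Subgroup G) := by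
  haveI : Fact (Nat.Prime 2) := ⟨Nat.prime_two⟩
  obtain ⟨hv, -, -, -, -, -, -, -, -, hv1, -, -, -, -, -, -, -, -, kv, -, -⟩ := four_facts
  rw [inSB_iff] at hv
  set C := Subgroup.centralizer ({B.T.f vC} : Set G) with hC
  set P0 := (B.S : Subgroup G).subgroupOf C with hP0
  have hp : IsPGroup 2 P0 := B.S.isPGroup'.comap_subtype
  obtain ⟨P, hP⟩ := hp.exists_le_sylow
  refine ⟨P, fun x => ⟨fun hx => ?_, fun hx => hP hx⟩⟩
  suffices (P : Subgroup C) = P0 by rw [this] at hx; exact hx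
  refine (Subgroup.eq_of_le_of_card_ge hP ?_).symm
  have hc0 : Nat.card P0 = 512 := by
    rw [← Subgroup.card_map_of_injective (f := C.subtype) C.subtype_injective, hP0,
      Subgroup.subgroupOf_map_subtype, hC, B.T.card_cent hv, List.countP_eq_length_filter]
    exact cv_count.1
  obtain ⟨h, hh⟩ := B.exists_conj_le (P.isPGroup'.map C.subtype)
  have hle : ((P : Subgroup C).map C.subtype).map (MulAut.conj h).toMonoidHom ≤ (B.S : Subgroup G) := by
    rintro _ ⟨x, hx, rfl⟩; exact hh x hx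
  have hcard : Nat.card (((P : Subgroup C).map C.subtype).map (MulAut.conj h).toMonoidHom) = Nat.card P := by
    rw [Subgroup.card_map_of_injective (MulAut.conj h).injective, Subgroup.card_map_of_injective C.subtype_injective]
  by_contra hlt
  rw [hc0, not_le] at hlt
  -- then `vC` would be central in a Sylow subgroup
  have hfull : ((P : Subgroup C).map C.subtype).map (MulAut.conj h).toMonoidHom = (B.S : Subgroup G) := by
    refine Subgroup.eq_of_le_of_card_ge hle ?_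
    rw [B.T.card, hcard]
    obtain ⟨k, hk⟩ := P.isPGroup'.exists_card_eq
    rw [hk] at hlt ⊢
    have : 9 < k := (Nat.pow_lt_pow_iff_right (by norm_num : 1 < 2)).1 (show 2 ^ 9 < 2 ^ k from hlt)
    exact le_trans (by norm_num) (Nat.pow_le_pow_right (by norm_num) (show 10 ≤ k by omega))
  have hvP : (⟨B.T.f vC, Subgroup.mem_centralizer_singleton_iff.2 rfl⟩ : C) ∈ (P : Subgroup C) :=
    hP (Subgroup.mem_subgroupOf.2 (B.T.mem hv))
  have hxS : h * B.T.f vC * h⁻¹ ∈ (B.S : Subgroup G) := hh _ ⟨_, hvP, rfl⟩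
  rcases B.eq_one_or_z hxS (fun s hs => by
    rw [← hfull] at hs
    obtain ⟨_, ⟨y, -, rfl⟩, rfl⟩ := hs
    have := Subgroup.mem_centralizer_singleton_iff.1 y.2
    show h * B.T.f vC * h⁻¹ * (h * (y : G) * h⁻¹) = h * (y : G) * h⁻¹ * (h * B.T.f vC * h⁻¹)
    rw [show h * (y : G) * h⁻¹ * (h * B.T.f vC * h⁻¹) = h * ((y : G) * B.T.f vC) * h⁻¹ by group, this]
    group) with e | e
  · exact hv1 ((B.T.eq_one_iff hv).1 (conj_eq_one_iff.1 e))
  · exact B.not_pure_kind hb hv (Or.inl kv) (isConj_iff.2 ⟨h, e⟩).symm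

/-- The second generator of the four-group in the centralizer of the first. -/
def rv4 : Subgroup.centralizer ({B.T.f vC} : Set G) :=
  ⟨B.T.f rC', Subgroup.mem_centralizer_singleton_iff.2
    ((B.T.comm_iff ((inSB_iff _).1 four_facts.2.1) ((inSB_iff _).1 four_facts.1)).2
      (four_facts.2.2.2.2.1.trans four_facts.2.2.2.1.symm))⟩

/-- The centralizer of the four-group. -/
abbrev cR : Subgroup (Subgroup.centralizer ({B.T.f vC} : Set G)) := Subgroup.centralizer {B.rv4}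

theorem exists_R_sylow {d0 d3 : Bool} (hb : B.IsPat (patBoth d0 d3)) :
    ∃ Q : Sylow 2 B.cR, Nat.card (Q : Subgroup B.cR) = 256 ∧
      ∀ x, x ∈ (Q : Subgroup B.cR) ↔ ((x : Subgroup.centralizer ({B.T.f vC} : Set G)) : G) ∈ (B.S : Subgroup G) := by
  haveI : Fact (Nat.Prime 2) := ⟨Nat.prime_two⟩
  obtain ⟨hv, hr, hw, hvr, hrv', hvw, hr2, hv2, -, hv1, hr1, -, hrv, -, hv0, hv3, -, -, kv, kr, kw⟩ := four_facts
  rw [inSB_iff] at hv hr hw
  set C := Subgroup.centralizer ({B.T.f vC} : Set G) with hC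
  obtain ⟨P, hP⟩ := B.exists_T_sylow hb
  set rr : C := B.rv4 with hrr
  set D := Subgroup.centralizer ({rr} : Set C) with hD
  have hQp : IsPGroup 2 ((P : Subgroup C).subgroupOf D) := P.isPGroup'.comap_subtype
  obtain ⟨Q, hQ⟩ := hQp.exists_le_sylow
  have hcardP : Nat.card (P : Subgroup C) = 512 := by
    rw [← Subgroup.card_map_of_injective (f := C.subtype) C.subtype_injective,
      show (P : Subgroup C) = (B.S : Subgroup G).subgroupOf C from Subgroup.ext hP,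
      Subgroup.subgroupOf_map_subtype, hC, B.T.card_cent hv, List.countP_eq_length_filter]
    exact cv_count.1
  have hc1 : Nat.card ((P : Subgroup C).subgroupOf D) = 256 := by
    rw [← Subgroup.card_map_of_injective (f := D.subtype) D.subtype_injective, Subgroup.subgroupOf_map_subtype,
      ← Subgroup.card_map_of_injective (f := C.subtype) C.subtype_injective]
    refine (B.T.card_of_codes (X := ((((P : Subgroup C) ⊓ D).map C.subtype : Subgroup G) : Set G)) crL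
      ((sylL_nodup.filter _).filter _) (fun a ha => (mem_cvL.1 (List.mem_filter.1 ha).1).1) fun g => ⟨?_, ?_⟩).trans
      cv_count.2
    · rintro ⟨y, ⟨hy, hyD⟩, rfl⟩
      obtain ⟨a, ha, ea⟩ := (B.T.mem_iff _).1 ((hP y).1 hy)
      refine ⟨a, List.mem_filter.2 ⟨mem_cvL.2 ⟨ha, ?_⟩, ?_⟩, ea⟩
      · rw [B.T.commN_iff ha hv, ea]
        exact Subgroup.mem_centralizer_singleton_iff.1 y.2
      · rw [B.T.commN_iff ha hr, ea]
        exact congrArg Subtype.val (Subgroup.mem_centralizer_singleton_iff.1 hyD)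
    · rintro ⟨a, ha, rfl⟩
      obtain ⟨ha, har⟩ := List.mem_filter.1 ha
      obtain ⟨haS, hav⟩ := mem_cvL.1 ha
      exact ⟨⟨B.T.f a, Subgroup.mem_centralizer_singleton_iff.2 ((B.T.commN_iff haS hv).1 hav)⟩,
        ⟨(hP _).2 (B.T.mem haS), Subgroup.mem_centralizer_singleton_iff.2
          (Subtype.ext ((B.T.commN_iff haS hr).1 har))⟩, rfl⟩
  have hQeq : (Q : Subgroup D) = (P : Subgroup C).subgroupOf D := by
    refine (Subgroup.eq_of_le_of_card_ge hQ ?_).symm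
    rw [hc1]
    by_contra hlt
    rw [not_le] at hlt
    obtain ⟨k, hk⟩ := Q.isPGroup'.exists_card_eq
    rw [hk] at hlt
    have hk9 : 9 ≤ k := (Nat.pow_lt_pow_iff_right (by norm_num : 1 < 2)).1 (show 2 ^ 8 < 2 ^ k from hlt)
    obtain ⟨P', hP'⟩ := (Q.isPGroup'.map D.subtype).exists_le_sylow
    have hP'D : ∀ y ∈ (P' : Subgroup C), y * rr = rr * y := by
      have e : (Q : Subgroup D).map D.subtype = P' := by
        refine Subgroup.eq_of_le_of_card_ge hP' ?_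
        rw [Subgroup.card_map_of_injective D.subtype_injective, Nat.card_congr (P'.equiv P).toEquiv, hcardP, hk]
        exact le_trans (by norm_num) (Nat.pow_le_pow_right (show 0 < 2 by norm_num) hk9)
      intro y hy
      rw [← e] at hy
      obtain ⟨q, -, rfl⟩ := hy
      exact Subgroup.mem_centralizer_singleton_iff.1 q.2
    obtain ⟨c, hc⟩ := MulAction.exists_smul_eq C P' P
    set x := c * rr * c⁻¹ with hx
    have hxc : ∀ y ∈ (P : Subgroup C), y * x = x * y := by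
      intro y hy
      rw [← hc] at hy
      obtain ⟨y', hy', rfl⟩ := hy
      show c * y' * c⁻¹ * x = x * (c * y' * c⁻¹)
      rw [hx, show c * y' * c⁻¹ * (c * rr * c⁻¹) = c * (y' * rr) * c⁻¹ by group, hP'D y' hy']
      group
    have hxP : x ∈ (P : Subgroup C) := by
      have hrP : rr ∈ (P' : Subgroup C) := hP' (Subgroup.mem_map_of_mem D.subtype
        (hQ (Subgroup.mem_subgroupOf.2 ((hP rr).2 (B.T.mem hr)) :
          (⟨rr, Subgroup.mem_centralizer_singleton_iff.2 rfl⟩ : D) ∈ (P : Subgroup C).subgroupOf D)))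
      rw [← hc]
      exact ⟨rr, hrP, rfl⟩
    obtain ⟨a, ha, ea⟩ := (B.T.mem_iff _).1 ((hP x).1 hxP)
    have hacv : a ∈ cvL := mem_cvL.2 ⟨ha, by
      rw [B.T.commN_iff ha hv, ea]; exact Subgroup.mem_centralizer_singleton_iff.1 x.2⟩
    have h4 := List.all_eq_true.1 cv_centre a hacv
    simp only [Bool.or_eq_true, List.contains_iff_mem, List.mem_cons, List.not_mem_nil, or_false,
      List.any_eq_true, Bool.not_eq_true'] at h4
    rcases h4 with h4 | ⟨b, hbm, hab⟩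
    · have exG : B.T.f a = (c : G) * B.T.f rC' * (c : G)⁻¹ := ea
      have hcv : (c : G) * B.T.f vC * (c : G)⁻¹ = B.T.f vC := by
        rw [Subgroup.mem_centralizer_singleton_iff.1 c.2, mul_inv_cancel_right]
      rcases h4 with rfl | rfl | rfl | rfl
      · rw [B.T.one] at exG
        exact hr1 ((B.T.eq_one_iff hr).1 (conj_eq_one_iff.1 exG.symm))
      · rw [B.hz] at exG
        exact B.not_pure_kind hb hr (Or.inr kr) (isConj_iff.2 ⟨(c : G), exG.symm⟩).symm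
      · rw [← hcv] at exG
        exact hrv (B.T.inj _ _ hr hv (mul_left_cancel (mul_right_cancel exG)).symm)
      · refine B.not_pure_kind hb hw (Or.inr kw) (isConj_iff.2 ⟨(c : G), ?_⟩).symm
        rw [← hvr, B.T.map_mul _ _ hv hr,
          show (c : G) * (B.T.f vC * B.T.f rC') * (c : G)⁻¹ =
            (c : G) * B.T.f vC * (c : G)⁻¹ * ((c : G) * B.T.f rC' * (c : G)⁻¹) by group, hcv, ← exG,
          ← B.T.map_mul _ _ hv (hv.mul InS.tN), ← B.hz]
        exact congrArg B.T.f (by decide +kernel)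
    · obtain ⟨hbS, hbv⟩ := mem_cvL.1 hbm
      have hbP : (⟨B.T.f b, Subgroup.mem_centralizer_singleton_iff.2 ((B.T.commN_iff hbS hv).1 hbv)⟩ : C) ∈
          (P : Subgroup C) := (hP _).2 (B.T.mem hbS)
      have h' : B.T.f b * (x : G) = (x : G) * B.T.f b := congrArg Subtype.val (hxc _ hbP)
      rw [← ea] at h'
      rw [(B.T.commN_iff ha hbS).2 h'.symm] at hab
      exact Bool.noConfusion hab
  refine ⟨Q, by rw [hQeq, hc1], fun x => ?_⟩
  rw [hQeq, Subgroup.mem_subgroupOf, hP]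

theorem weakly_four {d0 d3 : Bool} (hb : B.IsPat (patBoth d0 d3)) {s h : G}
    (hs : s ∈ (B.S : Subgroup G)) (hsv : s * B.T.f vC = B.T.f vC * s)
    (hh : h * B.T.f vC = B.T.f vC * h) (he : h * s * h⁻¹ = B.T.f rC') :
    s = B.T.f rC' ∨ s = B.T.f wC := by
  haveI : Fact (Nat.Prime 2) := ⟨Nat.prime_two⟩
  obtain ⟨hv, hr, hw, hvr, hrv', hvw, hr2, hv2, -, hv1, hr1, -, hrv, -, hv0, hv3, -, -, kv, kr, kw⟩ := four_facts
  rw [inSB_iff] at hv hr hw
  set C := Subgroup.centralizer ({B.T.f vC} : Set G) with hC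
  obtain ⟨Q, -, hQ⟩ := B.exists_R_sylow hb
  set rr : C := B.rv4 with hrr
  set D := Subgroup.centralizer ({rr} : Set C) with hD
  -- move the image of the centre into the Sylow subgroup of the centralizer of the four-group
  have hzv : B.z * B.T.f vC = B.T.f vC * B.z := (B.comm_f hv).symm
  have hzs : B.z * s = s * B.z := (B.comm_z hs).symm
  set p0 : C := ⟨h * B.z * h⁻¹, mul_mem (mul_mem (Subgroup.mem_centralizer_singleton_iff.2 hh)
    (Subgroup.mem_centralizer_singleton_iff.2 hzv)) (inv_mem (Subgroup.mem_centralizer_singleton_iff.2 hh))⟩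
  have hp0D : p0 ∈ D := Subgroup.mem_centralizer_singleton_iff.2 (Subtype.ext (by
    show h * B.z * h⁻¹ * B.T.f rC' = B.T.f rC' * (h * B.z * h⁻¹)
    rw [← he, show h * B.z * h⁻¹ * (h * s * h⁻¹) = h * (B.z * s) * h⁻¹ by group, hzs]
    group))
  obtain ⟨d, hd⟩ := SylL34.exists_conj_mem Q (x := (⟨p0, hp0D⟩ : D)) (Subtype.ext (Subtype.ext (by
    show h * B.z * h⁻¹ * (h * B.z * h⁻¹) = 1
    rw [show h * B.z * h⁻¹ * (h * B.z * h⁻¹) = h * (B.z * B.z) * h⁻¹ by group, B.z_sq]; group)))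
  rw [hQ] at hd
  set k := ((d : C) : G) * h with hk
  have hkp : k * B.z * k⁻¹ ∈ (B.S : Subgroup G) := by
    rw [hk, show ((d : C) : G) * h * B.z * (((d : C) : G) * h)⁻¹ =
      ((d : C) : G) * (h * B.z * h⁻¹) * ((d : C) : G)⁻¹ by group]
    exact hd
  have hdr : ((d : C) : G) * B.T.f rC' = B.T.f rC' * ((d : C) : G) :=
    congrArg Subtype.val (Subgroup.mem_centralizer_singleton_iff.1 d.2)
  have hdv : ((d : C) : G) * B.T.f vC = B.T.f vC * ((d : C) : G) :=
    Subgroup.mem_centralizer_singleton_iff.1 (d : C).2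
  have hks : k * s * k⁻¹ = B.T.f rC' := by
    rw [hk, show ((d : C) : G) * h * s * (((d : C) : G) * h)⁻¹ =
      ((d : C) : G) * (h * s * h⁻¹) * ((d : C) : G)⁻¹ by group, he, hdr, mul_inv_cancel_right]
  have hkv : k * B.T.f vC * k⁻¹ = B.T.f vC := by
    rw [hk, show ((d : C) : G) * h * B.T.f vC * (((d : C) : G) * h)⁻¹ =
      ((d : C) : G) * (h * B.T.f vC * h⁻¹) * ((d : C) : G)⁻¹ by group, hh, mul_inv_cancel_right, hdv,
      mul_inv_cancel_right]
  obtain ⟨a, ha, ea⟩ := (B.T.mem_iff _).1 hkp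
  have har : Mdl.commN a rC' = true := by
    rw [B.T.commN_iff ha hr, ea, ← hks, show k * B.z * k⁻¹ * (k * s * k⁻¹) = k * (B.z * s) * k⁻¹ by group, hzs]
    group
  have hav : Mdl.commN a vC = true := by
    rw [B.T.commN_iff ha hv, ea, ← hkv,
      show k * B.z * k⁻¹ * (k * B.T.f vC * k⁻¹) = k * (B.z * B.T.f vC) * k⁻¹ by group, hzv]
    group
  have h5 := List.all_eq_true.1 (cr_pure d0 d3) a (List.mem_filter.2 ⟨mem_cvL.2 ⟨ha, hav⟩, har⟩)
  rw [(B.isT_iff hb ha).2 (ea ▸ isConj_iff.2 ⟨k, rfl⟩)] at h5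
  simp only [Bool.not_true, Bool.false_or, Bool.or_eq_true, List.contains_iff_mem] at h5
  obtain ⟨σ, haσ⟩ : ∃ σ, a ∈ wL σ := h5.elim (fun h => ⟨false, h⟩) fun h => ⟨true, h⟩
  have hvσ : vC ∈ wL σ := by cases σ; exacts [hv0, hv3]
  obtain ⟨n, hn, hnz, hnv⟩ := B.control_pair (B.z_mem_A σ) ((B.f_mem_A ha).2 haσ) ((B.f_mem_A hv).2 hvσ)
    ea.symm hkv
  have hniv : n⁻¹ * B.T.f vC * n⁻¹⁻¹ = B.T.f vC := by
    conv_lhs => rw [← hnv]
    group
  set j := n⁻¹ * k with hj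
  have hjz : j * B.z = B.z * j := mul_inv_eq_iff_eq_mul.1 (by
    rw [hj, show n⁻¹ * k * B.z * (n⁻¹ * k)⁻¹ = n⁻¹ * (k * B.z * k⁻¹) * n by group, ← ea, ← hnz]
    group)
  have hjv : j * B.T.f vC * j⁻¹ = B.T.f vC := by
    rw [hj, show n⁻¹ * k * B.T.f vC * (n⁻¹ * k)⁻¹ = n⁻¹ * (k * B.T.f vC * k⁻¹) * n⁻¹⁻¹ by group, hkv, hniv]
  obtain ⟨y, hy, hjs⟩ : ∃ y ∈ [rC', wC], j * s * j⁻¹ = B.T.f y := by
    rw [hj, show n⁻¹ * k * s * (n⁻¹ * k)⁻¹ = n⁻¹ * (k * s * k⁻¹) * n⁻¹⁻¹ by group, hks]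
    rcases B.fix_four hb (inv_mem hn) hniv with e | e
    · exact ⟨rC', by simp, e⟩
    · exact ⟨wC, by simp, e⟩
  have hyS : InS y := by
    simp only [List.mem_cons, List.not_mem_nil, or_false] at hy
    rcases hy with rfl | rfl
    exacts [hr, hw]
  obtain ⟨c, hc, ec⟩ := B.F.exists_code (B.bar_comm (bar B.z j))
  have hcv : Mdl.mulN c vC = Mdl.mulN vC c := by
    refine (B.F.comm_iff hc hv.mem).1 ?_
    rw [← B.lift vC hv, ec, ← bar_mul hjz (B.comm_f hv), ← bar_mul (B.comm_f hv) hjz,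
      mul_inv_eq_iff_eq_mul.1 hjv]
  have hcS := inS_of_comm_v hc hcv
  set τ := B.T.f c with hτ
  have hτs : τ * s * τ⁻¹ = B.T.f y := by
    refine B.eq_of_bar (mul_mem (mul_mem (B.T.mem hcS) hs) (inv_mem (B.T.mem hcS))) (B.T.mem hyS) ?_
    rw [← hjs, B.bar_conj (B.comm_f hcS) (B.comm_z hs), B.bar_conj hjz (B.comm_z hs), B.lift c hcS, ec]
  obtain ⟨a', ha', ea'⟩ := (B.T.mem_iff s).1 hs
  have hnorm := List.all_eq_true.1 cv_norm.1 (Mdl.invN c) (mem_cvL.2 ⟨hcS.inv, by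
    rw [B.T.commN_iff hcS.inv hv, B.T.inv hcS, inv_mul_eq_iff_eq_mul, ← mul_assoc,
      (B.T.comm_iff hcS hv).2 hcv, mul_inv_cancel_right]⟩)
  simp only [Bool.or_eq_true, Nat.beq_eq] at hnorm
  have hes : s = τ⁻¹ * B.T.f y * τ⁻¹⁻¹ := by rw [← hτs]; group
  have hri : τ⁻¹ * B.T.f rC' * τ⁻¹⁻¹ = B.T.f (Mdl.conjN (Mdl.invN c) rC') := by
    rw [hτ, ← B.T.inv hcS, B.T.conj hcS.inv hr]
  have hvi : τ⁻¹ * B.T.f vC * τ⁻¹⁻¹ = B.T.f vC := by
    rw [hτ, inv_inv, mul_assoc, ← (B.T.comm_iff hcS hv).2 hcv, inv_mul_cancel_left]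
  simp only [List.mem_cons, List.not_mem_nil, or_false] at hy
  rcases hy with rfl | rfl
  · rw [hes, hri]
    exact hnorm.imp (congrArg B.T.f) (congrArg B.T.f)
  · rw [hes, ← hvr, B.T.map_mul _ _ hv hr,
      show τ⁻¹ * (B.T.f vC * B.T.f rC') * τ⁻¹⁻¹ = τ⁻¹ * B.T.f vC * τ⁻¹⁻¹ * (τ⁻¹ * B.T.f rC' * τ⁻¹⁻¹) by group,
      hvi, hri, ← B.T.map_mul _ (Mdl.conjN (Mdl.invN c) rC') hv ((hcS.inv.mul hr).mul hcS.inv.inv)]
    rcases hnorm with e | e
    · exact Or.inr (by rw [e, B.T.map_mul _ _ hv hr])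
    · exact Or.inl (by rw [e, hvw])

end Base

end CfsgLib.L5Type
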