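import Cfsg.Agent.L5Type.Pattern
import Cfsg.Agent.SylL34.Tools

/-!
Fusion of the conjugates of the central involution in a subgroup containing its centralizer and the
normalizers of the two elementary subgroups of order 64.
-/

set_option autoImplicit false
set_option linter.unusedSectionVars false
set_option linter.style.haveILetI false
set_option maxRecDepth 100000

namespace CfsgLib.L5Type

open CfsgLib.HeldUniq
open CfsgLib.Trichotomy (kind isT patNone patV patBoth)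

/-- Representatives of the classes in the elementary subgroups. -/
def aRep (k : Nat) : Nat :=
  [17926336, 17926276, 17926280, 17926284, 18188928, 18188940, 18188944, 18057604].getD k 17926336

/-- The side on which they lie. -/
def aSide (k : Nat) : Bool := Nat.beq k 7

theorem aRep_chk : ∀ k < 8, aRep k ∈ wL (aSide k) ∧ kind (aRep k) = k ∧ aRep k ≠ Mdl.one := by decide +kernel

theorem aRep_mul : ∀ k ∈ [1, 2, 4, 6, 7],
    Mdl.mulN (Mdl.mulN Mdl.tN (aRep k)) (Mdl.mulN Mdl.tN (aRep k)) = Mdl.one ∧ Mdl.mulN Mdl.tN (aRep k) ≠ Mdl.one ∧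
    kind (Mdl.mulN Mdl.tN (aRep k)) = bif Nat.beq k 4 then 5 else k := by decide +kernel

theorem four_chk : ∀ d0 d3 : Bool, ((wL false).all fun c => !isT (patBoth d0 d3) c || Nat.beq c Mdl.tN ||
    isT (patBoth d0 d3) (Mdl.mulN Mdl.tN c) || Nat.beq (kind c) 4) = true := by decide +kernel

theorem axes_chk : 17926276 ∈ wL false ∧ 17926280 ∈ wL false ∧ kind 17926276 = 1 ∧ kind 17926280 = 2 ∧
    Mdl.mulN 17926276 17926280 = 17926284 ∧ 17926276 ≠ 17926280 ∧
    (∀ d0 d3 : Bool, isT (patBoth d0 d3) 17926276 = true ∧ isT (patBoth d0 d3) 17926280 = true ∧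
      isT (patBoth d0 d3) 17926284 = false) := by decide +kernel

theorem pat_facts : ∀ d0 d3 : Bool, ∀ b ∈ [patV, patBoth d0 d3], b.getD 1 false = true ∧
    b.getD 3 false = false ∧ b.getD 5 false = false ∧
    (b.getD 4 false = true → b = patBoth d0 d3) := by decide +kernel

universe u

/-- A proper subgroup containing the centralizer of the centre and both normalizers. -/
structure Big {G : Type u} [Group G] [Finite G] (B : Base G) (M : Subgroup G) : Prop where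
  ne_top : M ≠ ⊤
  cz : Subgroup.centralizer ({B.z} : Set G) ≤ M
  normA : ∀ σ, Subgroup.normalizer (B.A σ : Set G) ≤ M

namespace Base

variable {G : Type u} [Group G] [Finite G] (B : Base G)

theorem arep_conj {a : Nat} (ha : InS a) (h2 : Mdl.mulN a a = Mdl.one) (hne : a ≠ Mdl.one) :
    ∃ g, g * B.z = B.z * g ∧ g * B.T.f (aRep (kind a)) * g⁻¹ = B.T.f a := by
  obtain ⟨hk, g, hg, e⟩ := B.conj_srep ha h2 hne
  obtain ⟨hm, hkk, hne'⟩ := aRep_chk _ hk
  obtain ⟨-, g', hg', e'⟩ := B.conj_srep (wL_inS hm) ((wL_facts _).2.2.2.2.1 _ hm).2 hne'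
  rw [hkk] at e'
  refine ⟨g * g'⁻¹, B.comm_mul hg (B.comm_inv hg'), ?_⟩
  rw [← e, ← e']
  group

theorem kind_lt {b : List Bool} (hb : B.IsPat b) {a : Nat} (ha : InS a) (hc : IsConj B.z (B.T.f a)) :
    Mdl.mulN a a = Mdl.one ∧ a ≠ Mdl.one ∧ kind a < 8 ∧ b.getD (kind a) false = true := by
  have h := (B.isT_iff hb ha).2 hc
  simp only [isT, Bool.and_eq_true, Bool.not_eq_true', Nat.beq_eq] at h
  obtain ⟨⟨h1, h2⟩, h3⟩ := h
  have hne : a ≠ Mdl.one := fun e => by rw [Mdl.beq_of_eq e] at h1; exact Bool.noConfusion h1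
  exact ⟨h2, hne, (B.conj_srep ha h2 hne).1, h3⟩

end Base

namespace Big

variable {G : Type u} [Group G] [Finite G] {B : Base G} {M : Subgroup G} (hM : Big B M) {b : List Bool}
include hM

theorem mem_cz {g : G} (hg : g * B.z = B.z * g) : g ∈ M :=
  hM.cz (Subgroup.mem_centralizer_singleton_iff.2 hg)

theorem S_le : (B.S : Subgroup G) ≤ M := fun _ hs => hM.mem_cz (B.comm_z hs)

theorem z_mem : B.z ∈ M := hM.S_le B.z_mem

theorem to_z (hb : B.IsPat b) {x : G} (hx : x ∈ M) (hc : IsConj B.z x) : ∃ m ∈ M, m * B.z * m⁻¹ = x := by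
  have hx2 : x * x = 1 := by
    obtain ⟨g, rfl⟩ := isConj_iff.1 hc
    rw [show g * B.z * g⁻¹ * (g * B.z * g⁻¹) = g * (B.z * B.z) * g⁻¹ by group, B.z_sq]; group
  obtain ⟨m, hm, hmS⟩ := SylL34.conj_into B.S hM.S_le hx hx2
  obtain ⟨a, ha, ea⟩ := (B.T.mem_iff _).1 hmS
  have hca : IsConj B.z (B.T.f a) := ea ▸ IsConj.trans hc (isConj_iff.2 ⟨m, rfl⟩)
  obtain ⟨h2, hne, hk, -⟩ := B.kind_lt hb ha hca
  obtain ⟨g, hg, e⟩ := B.arep_conj ha h2 hne
  obtain ⟨hmem, -, -⟩ := aRep_chk _ hk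
  obtain ⟨r, hr⟩ := isConj_iff.1 (IsConj.trans hca (isConj_iff.2 ⟨g, e⟩).symm)
  obtain ⟨n, hn, en⟩ := B.control (B.z_mem_A _) ((B.f_mem_A (wL_inS hmem)).2 hmem) hr
  refine ⟨m⁻¹ * (g * n), mul_mem (inv_mem hm) (mul_mem (hM.mem_cz hg) (hM.normA _ hn)), ?_⟩
  calc m⁻¹ * (g * n) * B.z * (m⁻¹ * (g * n))⁻¹ = m⁻¹ * (g * (n * B.z * n⁻¹) * g⁻¹) * m := by group
    _ = m⁻¹ * (m * x * m⁻¹) * m := by rw [en, e, ea]
    _ = x := by group

/-- Every conjugate of the central involution in the subgroup has its centralizer there. -/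
theorem cent_pure (hb : B.IsPat b) {x : G} (hx : x ∈ M) (hc : IsConj B.z x) :
    Subgroup.centralizer ({x} : Set G) ≤ M := by
  obtain ⟨m, hm, rfl⟩ := hM.to_z hb hx hc
  intro c hc
  have h := hM.cz (SylL34.cent_conj.1 hc)
  have := mul_mem (mul_mem hm h) (inv_mem hm)
  rwa [show m * (m⁻¹ * c * m) * m⁻¹ = c by group] at this

theorem control (hb : B.IsPat b) {g : G} (hg : g * B.z * g⁻¹ ∈ M) : g ∈ M := by
  obtain ⟨m, hm, e⟩ := hM.to_z hb hg (isConj_iff.2 ⟨g, rfl⟩)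
  have h : m⁻¹ * g * B.z = B.z * (m⁻¹ * g) := by
    calc m⁻¹ * g * B.z = m⁻¹ * (g * B.z * g⁻¹) * g := by group
      _ = m⁻¹ * (m * B.z * m⁻¹) * g := by rw [e]
      _ = _ := by group
  have := mul_mem hm (hM.mem_cz h)
  rwa [mul_inv_cancel_left] at this

/-- The centralizer of the product with a commuting conjugate, once that of one involution is known. -/
theorem cent_product {d0 d3 : Bool} (hb' : b = patV ∨ b = patBoth d0 d3) (hb : B.IsPat b)
    (hv : b = patBoth d0 d3 → Subgroup.centralizer ({B.T.f 17926284} : Set G) ≤ M)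
    (g : G) (hg : Commute B.z (g * B.z * g⁻¹)) (hne : g * B.z * g⁻¹ ≠ B.z) :
    Subgroup.centralizer ({B.z * (g * B.z * g⁻¹)} : Set G) ≤ M := by
  set x := g * B.z * g⁻¹ with hx
  have hx2 : x * x = 1 := by
    rw [hx, show g * B.z * g⁻¹ * (g * B.z * g⁻¹) = g * (B.z * B.z) * g⁻¹ by group, B.z_sq]; group
  obtain ⟨c, hc, hcS⟩ := B.exists_conj_into (x := x) hg.eq.symm hx2
  obtain ⟨a, ha, ea⟩ := (B.T.mem_iff _).1 hcS
  have hca : IsConj B.z (B.T.f a) := ea ▸ IsConj.trans (isConj_iff.2 ⟨g, rfl⟩) (isConj_iff.2 ⟨c, rfl⟩)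
  obtain ⟨h2, hne1, hk, hbk⟩ := B.kind_lt hb ha hca
  obtain ⟨n, hn, en⟩ := B.arep_conj ha h2 hne1
  set k := kind a with hkdef
  obtain ⟨hmem, hkk, hr1⟩ := aRep_chk k hk
  have hrS := wL_inS hmem
  set q := n⁻¹ * c with hq
  have hqz : q * B.z = B.z * q := B.comm_mul (B.comm_inv hn) hc
  have eq : q * x * q⁻¹ = B.T.f (aRep k) := by
    rw [hq, show n⁻¹ * c * x * (n⁻¹ * c)⁻¹ = n⁻¹ * (c * x * c⁻¹) * n by group, ← ea, ← en]
    group
  have eu : q * (B.z * x) * q⁻¹ = B.T.f (Mdl.mulN Mdl.tN (aRep k)) := by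
    rw [B.T.map_mul _ _ InS.tN hrS, B.hz, ← eq, show q * (B.z * x) * q⁻¹ = q * B.z * q⁻¹ * (q * x * q⁻¹) by group,
      B.conj_self hqz]
  have hbf : b.getD 1 false = true ∧ b.getD 3 false = false ∧ b.getD 5 false = false ∧
      (b.getD 4 false = true → b = patBoth d0 d3) :=
    pat_facts d0 d3 b (by rcases hb' with rfl | rfl <;> simp)
  have hk0 : k ≠ 0 := by
    intro e
    rw [e, show aRep 0 = Mdl.tN from rfl, B.hz] at eq
    exact hne (by
      calc x = q⁻¹ * (q * x * q⁻¹) * q := by group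
        _ = B.z := by rw [eq, mul_assoc, ← hqz, inv_mul_cancel_left])
  have hk3 : k ≠ 3 := fun e => by rw [e, hbf.2.1] at hbk; exact Bool.noConfusion hbk
  have hk5 : k ≠ 5 := fun e => by rw [e, hbf.2.2.1] at hbk; exact Bool.noConfusion hbk
  obtain ⟨hu2, hu1, hku⟩ := aRep_mul k (by simp only [List.mem_cons, List.not_mem_nil, or_false]; omega)
  have huS : InS (Mdl.mulN Mdl.tN (aRep k)) := InS.tN.mul hrS
  have hqM := hM.mem_cz hqz
  -- transfer along `q`
  suffices h : Subgroup.centralizer ({B.T.f (Mdl.mulN Mdl.tN (aRep k))} : Set G) ≤ M by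
    intro w hw
    have h' := h (show q * w * q⁻¹ ∈ _ from SylL34.cent_conj.2 (by
      rwa [show q⁻¹ * (q * w * q⁻¹) * q = w by group]) |> fun h => eu ▸ h)
    have := mul_mem (mul_mem (inv_mem hqM) h') hqM
    rwa [show q⁻¹ * (q * w * q⁻¹) * q = w by group] at this
  by_cases hk4 : k = 4
  · rw [hk4] at hbk
    obtain rfl := hbf.2.2.2 hbk
    obtain ⟨h1m, h2m, h1k, h2k, h12, h12ne, hT⟩ := axes_chk
    obtain ⟨hT1, hT2, hT3⟩ := hT d0 d3
    obtain ⟨r, hr⟩ := isConj_iff.1 ((B.isT_iff hb (wL_inS h1m)).1 hT1).symm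
    obtain ⟨m, hm, em⟩ := B.control ((B.f_mem_A (wL_inS h1m)).2 h1m) (B.z_mem_A false) hr
    obtain ⟨d, hd, ed⟩ : ∃ d ∈ wL false, B.T.f d = m * B.T.f 17926280 * m⁻¹ :=
      SylL34.conj_mem_of_normalizer hm ((B.f_mem_A (wL_inS h2m)).2 h2m)
    have hdS := wL_inS hd
    have hTd : isT (patBoth d0 d3) d = true :=
      (B.isT_iff hb hdS).2 (ed ▸ IsConj.trans ((B.isT_iff hb (wL_inS h2m)).1 hT2) (isConj_iff.2 ⟨m, rfl⟩))
    have hdm : B.T.f (Mdl.mulN Mdl.tN d) = m * B.T.f 17926284 * m⁻¹ := by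
      rw [B.T.map_mul _ _ InS.tN hdS, B.hz, ed, ← em, ← h12, B.T.map_mul _ _ (wL_inS h1m) (wL_inS h2m)]
      group
    have hdt : d ≠ Mdl.tN := fun e => h12ne (B.T.inj _ _ (wL_inS h1m) (wL_inS h2m) (by
      have e2 := ed
      rw [e, B.hz, ← em] at e2
      exact mul_left_cancel (mul_right_cancel e2)))
    have h4 := List.all_eq_true.1 (four_chk d0 d3) d hd
    have hno : isT (patBoth d0 d3) (Mdl.mulN Mdl.tN d) = false := by
      rw [← Bool.not_eq_true, B.isT_iff hb (InS.tN.mul hdS), hdm]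
      intro hc'
      rw [(B.isT_iff hb ((wL_inS h1m).mul (wL_inS h2m) |> fun h => h12 ▸ h)).2
        (IsConj.trans hc' (isConj_iff.2 ⟨m, rfl⟩).symm)] at hT3
      exact Bool.noConfusion hT3
    rw [hTd, hno] at h4
    simp only [Bool.not_true, Bool.false_or, Bool.or_false, Nat.beq_eq, Bool.or_eq_true, hdt, false_or] at h4
    obtain ⟨h2', hne', -, -⟩ := B.kind_lt hb hdS ((B.isT_iff hb hdS).1 hTd)
    obtain ⟨p, hp, ep⟩ := B.arep_conj hdS h2' hne'
    rw [h4] at ep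
    rw [hk4]
    intro w hw
    have hpw : m⁻¹ * (p * w * p⁻¹) * m ∈ M := hv rfl (SylL34.cent_conj.1 (by
      rw [← hdm, B.T.map_mul _ _ InS.tN hdS, B.hz, ← ep,
        show B.z * (p * B.T.f (aRep 4) * p⁻¹) = p * (B.z * B.T.f (aRep 4)) * p⁻¹ by
          rw [← mul_assoc, ← mul_assoc, ← hp]; group]
      refine SylL34.cent_conj.2 ?_
      rw [show p⁻¹ * (p * w * p⁻¹) * p = w by group, ← B.hz, ← B.T.map_mul _ _ InS.tN (wL_inS (aRep_chk 4 (by decide)).1)]
      exact hw))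
    have hmM := hM.normA _ hm
    have hpM := hM.mem_cz hp
    have := mul_mem (mul_mem (inv_mem hpM) (mul_mem (mul_mem hmM hpw) (inv_mem hmM))) hpM
    rwa [show p⁻¹ * (m * (m⁻¹ * (p * w * p⁻¹) * m) * m⁻¹) * p = w by group] at this
  · rw [show Nat.beq k 4 = false by rw [← Bool.not_eq_true, Nat.beq_eq]; exact hk4, cond_false] at hku
    refine hM.cent_pure hb (hM.S_le (B.T.mem huS)) ?_
    obtain ⟨-, w, -, ew⟩ := B.conj_srep huS hu2 hu1
    rw [hku] at ew
    exact IsConj.trans ((hb k hk).2 hbk) (isConj_iff.2 ⟨w, ew⟩)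

end Big

end CfsgLib.L5Type
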