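import Cfsg.Agent.L5Type.Tab
import Cfsg.Agent.L5Type.MatData
import Cfsg.Agent.M24Type.Main

/-!
The Sylow subgroup of the model modulo its centre, in the coordinates `2^6 : D8`.
-/

set_option autoImplicit false
set_option maxRecDepth 100000
set_option linter.unusedSectionVars false

namespace CfsgLib.L5Type

open CfsgLib.HeldUniq
open CfsgLib.M24Type (mulU act vadd dlt proj)

/-- The bits of a triple reversed. -/
def rev3 (m : Nat) : Nat := Mdl.bit m 2 + 2 * Mdl.bit m 1 + 4 * Mdl.bit m 0

/-- The code of a vector. -/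
def iC (v : Fin 64) : Nat := Mdl.mk (rev3 (v.1 % 8)) (v.1 / 8) 0 Mdl.mone Mdl.mone

/-- The code of an element of the complement. -/
def rC (x : Fin 8) : Nat := rTab.getD x.1 0

/-- Equality modulo the centre. -/
def eqZ (a b : Nat) : Bool := Nat.beq a b || Nat.beq a (Mdl.mulN b Mdl.tN)

theorem iC_ok : ∀ v, inSB (iC v) = true := by decide +kernel

theorem rC_ok : ∀ x, inSB (rC x) = true := by decide +kernel

theorem iC_mul : ∀ v w, eqZ (Mdl.mulN (iC v) (iC w)) (iC (vadd v w)) = true := by decide +kernel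

theorem rC_mul : ∀ x y, eqZ (Mdl.mulN (rC x) (rC y)) (rC (mulU x y)) = true := by decide +kernel

theorem rC_iC : ∀ x v, eqZ (Mdl.mulN (rC x) (iC v)) (Mdl.mulN (iC (act x v)) (rC x)) = true := by
  decide +kernel

theorem iC_inj : ∀ v w, eqZ (iC v) (iC w) = true → v = w := by decide +kernel

theorem rC_notMem : ∀ x, x ≠ 0 → ∀ v, eqZ (rC x) (iC v) = false := by decide +kernel

/-- The vector of a code. -/
def vCode (a : Nat) : Fin 64 := ⟨(rev3 (Mdl.vOf a) + 8 * Mdl.pOf a) % 64, Nat.mod_lt _ (by norm_num)⟩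

/-- The element of the complement of a code. -/
def xCode (a : Nat) : Fin 8 :=
  ⟨([273, 311, 277, 307, 305, 279, 309, 275].idxOf (Mdl.gOf a)) % 8, Nat.mod_lt _ (by norm_num)⟩

theorem code_nf : (sylL.all fun a => eqZ a (Mdl.mulN (iC (vCode a)) (rC (xCode a)))) = true := by
  decide +kernel

/-- Codes with trivial matrix part are vectors. -/
theorem q_code : (sylL.all fun a => !Nat.beq (Mdl.gOf a) Mdl.mone || Nat.beq (xCode a).1 0) = true := by
  decide +kernel

/-- Pairwise commuting elements fix few vectors. -/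
theorem abelian_bound : ∀ I : Finset (Fin 8), (∀ x ∈ I, ∀ y ∈ I, mulU x y = mulU y x) → (∃ x ∈ I, x ≠ 0) →
    I.card * (Finset.univ.filter fun v : Fin 64 => ∀ x ∈ I, act x v = v).card < 64 := by
  decide +kernel

universe u

/-- The abelian subgroup of order 64 of a copy of the model is unique. -/
theorem frame_unique {G : Type u} [Group G] [Finite G] (F : M24Type.Frame G) (B : Subgroup G) (hB : B ≤ F.S)
    (hc : ∀ a ∈ B, ∀ b ∈ B, a * b = b * a) (h64 : Nat.card B = 64) : B = F.A := by
  classical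
  choose V X hVX using fun b : B => F.mem_S.1 (hB b.2)
  by_cases h0 : ∀ b, X b = 0
  · refine Subgroup.eq_of_le_of_card_ge (fun g hg => ?_) (by rw [h64, F.card_A])
    have h := hVX ⟨g, hg⟩
    rw [h0, F.ρ_zero, mul_one] at h
    exact ⟨_, h.symm⟩
  push Not at h0
  obtain ⟨b0, hb0⟩ := h0
  haveI : Fintype B := Fintype.ofFinite _
  set I : Finset (Fin 8) := Finset.univ.image X with hI
  set Fx : Finset (Fin 64) := Finset.univ.filter fun v : Fin 64 => ∀ x ∈ I, act x v = v with hFx
  have hcomm : ∀ x ∈ I, ∀ y ∈ I, mulU x y = mulU y x := by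
    simp only [hI, Finset.mem_image, Finset.mem_univ, true_and]
    rintro x ⟨a, rfl⟩ y ⟨b, rfl⟩
    have h := hc a a.2 b b.2
    rw [hVX a, hVX b, F.nf_mul, F.nf_mul] at h
    exact (F.nf_inj h).2
  have hlt := abelian_bound I hcomm ⟨X b0, Finset.mem_image_of_mem X (Finset.mem_univ _), hb0⟩
  choose rep hrep using fun x : I => Finset.mem_image.1 x.2
  have hfib : ∀ b b' : B, X b = X b' → ∃ v ∈ Fx, (b : G) = F.ι v * (b' : G) := by
    intro b b' e
    refine ⟨vadd (V b) (V b'), Finset.mem_filter.2 ⟨Finset.mem_univ _, ?_⟩, ?_⟩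
    · intro x hx
      obtain ⟨c, -, rfl⟩ := Finset.mem_image.1 hx
      have hv : F.ι (vadd (V b) (V b')) ∈ B := by
        have : F.ι (vadd (V b) (V b')) = (b : G) * (b' : G)⁻¹ := by
          rw [hVX b, hVX b', e, ← F.ι_mul]
          conv_lhs => rw [← F.ι_inv (V b')]
          group
        rw [this]
        exact mul_mem b.2 (inv_mem b'.2)
      refine (F.nf_commute (V c) (X c) _).1 ?_
      rw [← hVX c]
      exact hc _ c.2 _ hv
    · rw [hVX b, hVX b', e, ← mul_assoc, F.ι_mul]
      congr 2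
      exact (key (V b) (V b')).symm
  let r : B → I := fun b => ⟨X b, Finset.mem_image_of_mem X (Finset.mem_univ _)⟩
  have hr : ∀ b : B, ∃ v : Fx, (b : G) = F.ι v.1 * (rep (r b) : G) := fun b => by
    obtain ⟨v, hv, e⟩ := hfib b (rep (r b)) (hrep (r b)).2.symm
    exact ⟨⟨v, hv⟩, e⟩
  choose W hW using hr
  let f : B → I × Fx := fun b => (r b, W b)
  have hf : Function.Injective f := fun a b e => by
    have e1 : r a = r b := congrArg Prod.fst e
    have e2 : W a = W b := congrArg Prod.snd e
    exact Subtype.ext (by rw [hW a, hW b, e1, e2])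
  have h := Nat.card_le_card_of_injective f hf
  rw [h64, Nat.card_prod, Nat.card_eq_fintype_card, Fintype.card_coe, Nat.card_eq_fintype_card,
    Fintype.card_coe] at h
  have hlt' : I.card * Fx.card < 64 := hlt
  omega
where
  key : ∀ v w : Fin 64, vadd (vadd v w) w = v := by decide +kernel

end CfsgLib.L5Type
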