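import Cfsg.Agent.L5Type.Control
import Cfsg.Agent.S1175
import Cfsg.Agent.Invol.StrongEmbedded

/-!
A proper subgroup as in the control lemma containing the centralizer of one more involution is impossible.
-/

set_option autoImplicit false
set_option linter.unusedSectionVars false
set_option linter.style.haveILetI false

namespace CfsgLib.L5Type

open CfsgLib.HeldUniq
open CfsgLib.Trichotomy (patV patBoth)

universe u

theorem Big.absurd_of_cent {G : Type u} [Group G] [Finite G] [IsSimpleGroup G] {B : Base G} {M : Subgroup G}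
    (hM : Big B M) {b : List Bool} {d0 d3 : Bool} (hb' : b = patV ∨ b = patBoth d0 d3) (hb : B.IsPat b)
    (hv : b = patBoth d0 d3 → Subgroup.centralizer ({B.T.f 17926284} : Set G) ≤ M) : False := by
  obtain ⟨H, hH⟩ := Cfsg.Agent.S1175.result M hM.ne_top B.z B.orderOf_z hM.z_mem
    ⟨B.S, B.z_mem, fun s hs => B.comm_z hs⟩ (fun g hg => hM.control hb hg)
    (fun g hg hne => hM.cent_product hb' hb hv g hg hne)
  obtain ⟨hmS, hk, -, -, h2, -, h1, -⟩ := pure_kinds
  rw [inSB_iff] at hmS
  have hc : IsConj B.z (B.T.f 17926284) :=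
    StrongEmbed.isConj_of_invols hH B.orderOf_z (B.orderOf_f hmS h2 h1)
  obtain ⟨-, -, -, h⟩ := B.kind_lt hb hmS hc
  rw [hk] at h
  have h3 := (pat_facts d0 d3 b (by rcases hb' with rfl | rfl <;> simp)).2.1
  rw [h3] at h
  exact Bool.noConfusion h

end CfsgLib.L5Type
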