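import Cfsg.Agent.SylL34.CaseI
import Cfsg.Agent.SylL34.CaseII
import Cfsg.Agent.SylL34.CaseIII
import Mathlib.FieldTheory.Finite.GaloisField

/-!
A core-free group whose Sylow 2-subgroup is of the type of `PSL(3,4)` is generated by the normalizers of the
two elementary subgroups.
-/

set_option autoImplicit false
set_option linter.unusedSectionVars false
set_option linter.style.haveILetI false

namespace CfsgLib.L5Type

open CfsgLib.SylL34
open Subgroup

universe u

variable {G : Type u} [Group G] [Finite G] {S : Sylow 2 G} {A B : Subgroup G}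

/-- Both sides fused. -/
theorem small_of_fused (D : Dat S A B) (hA : Fus A B) (hB : Fus B A) (hO : Cfsg.oddCore G = ⊥)
    {F : Type u} [Field F] [Fintype F] (hF : Fintype.card F = 4) : Small S A B := by
  classical
  haveI : Fact (Nat.Prime 2) := ⟨Nat.prime_two⟩
  obtain ⟨z, hz, hz1⟩ := D.exists_zne
  obtain ⟨W, hW, hWle, hWN, hWC, hWgen⟩ := D.fused_closure hA
  obtain ⟨V, -, hVle, hVN, hVC, hVgen⟩ := D.symm.fused_closure hB
  obtain rfl : W = V := le_antisymm (hWgen.trans (iSup_le fun e => hVle _ e.2.1.2 e.2.2))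
    (hVgen.trans (iSup_le fun e => hWle _ e.2.1.2 e.2.2))
  set M := normalizer (W : Set G)
  have hC : ∀ s ∈ (S : Subgroup G), orderOf s = 2 → centralizer ({s} : Set G) ≤ M := fun s hs hs2 =>
    (D.inv s hs (Invol.mul_self_eq_one hs2)).elim (fun h => hWC s h (Invol.ne_one hs2))
      fun h => hVC s h (Invol.ne_one hs2)
  suffices hM : M = ⊤ by
    have hW1 : W = ⊥ := le_bot_iff.1 (hO ▸ le_ocore (normalizer_eq_top_iff.1 hM) hW)
    exact D.small_of_core fun e he he1 => le_bot_iff.1 ((hWle e he.1 he1).trans hW1.le)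
  have hSM : (S : Subgroup G) ≤ M := D.le_normA.trans hWN
  set N := W.subgroupOf M
  haveI : N.Normal := Subgroup.normal_in_normalizer
  set q := QuotientGroup.mk' N
  have hq : Function.Surjective q := QuotientGroup.mk'_surjective N
  have hker : Odd (Nat.card q.ker) := by
    rw [QuotientGroup.ker_mk', Nat.card_congr (subgroupOfEquivOfLe le_normalizer).toEquiv]
    exact hW
  have D1 := D.restrict M hSM
  have hsm : Small ((S.subtype hSM).mapSurjective hq) ((A.subgroupOf M).map q) ((B.subgroupOf M).map q) := by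
    refine D1.small_map hq hker fun e he he1 y hy => ?_
    rw [QuotientGroup.ker_mk']
    have he1' : (e : G) ≠ 1 := fun h => he1 (Subtype.ext h)
    exact hWle _ he.1 he1' (map_Oc_le e (hWC _ he.1 he1') ⟨y, hy, rfl⟩)
  have K : Two ((S.subtype hSM).mapSurjective hq) ((A.subgroupOf M).map q) ((B.subgroupOf M).map q) :=
    ⟨D1.map hq hker, D1.fus_map hker (D.fus_restrict hA hWN),
      D1.symm.fus_map hker (D.symm.fus_restrict hB hVN), hsm⟩
  set z' : M := ⟨z, hSM (D.z_le_S hz)⟩
  have hz' : q z' ∈ (A.subgroupOf M).map q ⊓ (B.subgroupOf M).map q :=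
    ⟨mem_map_of_mem q hz.1, mem_map_of_mem q hz.2⟩
  have hz1' : q z' ≠ 1 := fun e => hz1 (congrArg Subtype.val
    (D1.map_inj hker (show z' ∈ (S.subtype hSM : Subgroup M) from D.z_le_S hz) (one_mem _) (e.trans (map_one q).symm)))
  obtain ⟨⟨f, hf⟩, hcard⟩ := K.embeds hF hz' hz1'
  refine D.strong_top hA hB hWN hVN hC (f.comp q) (z := z') hz (fun e => hz1 (congrArg Subtype.val e))
    (fun Y hY => no35 hF Y hY) ?_
  rw [card_class_map hf (q z') q hq rfl, hcard]
  norm_num

/-- The two normalizers generate. -/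
theorem eq_top_of_normalizers (D : Dat S A B) (hO : Cfsg.oddCore G = ⊥) {M : Subgroup G}
    (hNA : normalizer (A : Set G) ≤ M) (hNB : normalizer (B : Set G) ≤ M) : M = ⊤ := by
  classical
  haveI : Fact (Nat.Prime 2) := ⟨Nat.prime_two⟩
  by_cases hA : Fus A B <;> by_cases hB : Fus B A
  · let F := ULift.{u} (GaloisField 2 2)
    haveI : Fintype F := Fintype.ofFinite F
    have hF : Fintype.card F = 4 := by
      rw [← Nat.card_eq_fintype_card, Nat.card_ulift, GaloisField.card 2 2 two_ne_zero]; rfl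
    have hSm := small_of_fused D hA hB hO hF
    obtain ⟨z, hz, hz1⟩ := D.exists_zne
    have hC : ∀ s ∈ (S : Subgroup G), orderOf s = 2 → centralizer ({s} : Set G) ≤ M := by
      intro s hs hs2 g hg
      obtain ⟨m, hm, rfl⟩ := D.to_z_fused hA hB hNA hNB hz hz1 ((D.le_normA.trans hNA) hs) hs2
      have h1 : m⁻¹ * g * m ∈ M := hNA (D.normS_le (hSm.cent z hz hz1 (cent_conj.1 hg)))
      have := mul_mem (mul_mem hm h1) (inv_mem hm)
      rwa [show m * (m⁻¹ * g * m) * m⁻¹ = g by group] at this
    have hSM : (S : Subgroup G) ≤ M := D.le_normA.trans hNA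
    have D1 := D.restrict M hSM
    have hSm1 : Small (S.subtype hSM) (A.subgroupOf M) (B.subgroupOf M) := by
      refine ⟨fun w hw hw1 g hg => ?_, fun g hg => ?_⟩
      · have h := hSm.cent (w : G) hw (fun e => hw1 (Subtype.ext e)) (show (g : G) ∈ _ from
          mem_centralizer_singleton_iff.2 (congrArg Subtype.val (mem_centralizer_singleton_iff.1 hg)))
        exact mem_normalizer_iff.2 fun x => (mem_normalizer_iff.1 h (x : G))
      · refine hSm.selfS (mem_centralizer_iff.2 fun x hx => ?_)
        exact congrArg Subtype.val (mem_centralizer_iff.1 hg ⟨x, hSM hx⟩ hx)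
    have K : Two (S.subtype hSM) (A.subgroupOf M) (B.subgroupOf M) :=
      ⟨D1, D.fus_restrict hA hNA, D.symm.fus_restrict hB hNB, hSm1⟩
    set z' : M := ⟨z, hSM (D.z_le_S hz)⟩
    have hz1' : z' ≠ 1 := fun e => hz1 (congrArg Subtype.val e)
    obtain ⟨⟨f, hf⟩, hcard⟩ := K.embeds hF (z := z') hz hz1'
    refine D.strong_top hA hB hNA hNB hC (f.comp (MonoidHom.id M)) (z := z') hz hz1'
      (fun Y hY => no35 hF Y hY) ?_
    rw [card_class_map hf z' (MonoidHom.id M) Function.surjective_id rfl, hcard]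
    norm_num
  · exact top_le_iff.1 ((D.caseII hA hB hO).ge.trans hNA)
  · exact top_le_iff.1 ((D.symm.caseII hB hA hO).ge.trans hNB)
  · exact top_le_iff.1 ((D.caseI hA hB hO).ge.trans (D.normS_le.trans hNA))

end CfsgLib.L5Type
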