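import Cfsg.Agent.L5Type.CentV
import Cfsg.Agent.L5Type.Functor

/-!
The centralizer of the involution lies in the subgroup once that of the four-group does.
-/

set_option autoImplicit false
set_option linter.unusedSectionVars false
set_option linter.style.haveILetI false
set_option maxRecDepth 100000

namespace CfsgLib.L5Type

open CfsgLib.HeldUniq
open CfsgLib.Trichotomy (kind isT patBoth)

universe u

theorem fourL_comm_v : (fourL.all fun a => Mdl.commN a vC && !Nat.beq a vC) = true := by decide +kernel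

theorem Big.cent_v_le {G : Type u} [Group G] [Finite G] {B : Base G} {M : Subgroup G} (hM : Big B M)
    {d0 d3 : Bool} (hb : B.IsPat (patBoth d0 d3))
    (hR : Subgroup.centralizer ({B.T.f vC} : Set G) ⊓ Subgroup.centralizer ({B.T.f rC'} : Set G) ≤ M) :
    Subgroup.centralizer ({B.T.f vC} : Set G) ≤ M := by
  classical
  haveI : Fact (Nat.Prime 2) := ⟨Nat.prime_two⟩
  obtain ⟨hv, hr, hw, hvr, hrv', hvw, hr2, hv2, -, hv1, hr1, -, hrv, -, -, -, -, -, -, -, -⟩ := four_facts
  rw [inSB_iff] at hv hr hw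
  set v := B.T.f vC with hvdef
  set C := Subgroup.centralizer ({v} : Set G) with hC
  have hfr : B.T.f rC' * v = v * B.T.f rC' := (B.T.comm_iff hr hv).2 (hrv'.trans hvr.symm)
  set vv : C := ⟨v, Subgroup.mem_centralizer_singleton_iff.2 rfl⟩
  set rr : C := ⟨B.T.f rC', Subgroup.mem_centralizer_singleton_iff.2 hfr⟩
  have hcen : ∀ c : C, vv * c = c * vv := fun c => Subtype.ext (Subgroup.mem_centralizer_singleton_iff.1 c.2).symm
  have hvv : vv * vv = 1 := Subtype.ext (by
    show v * v = 1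
    rw [hvdef, ← B.T.map_mul _ _ hv hv, hv2, B.T.one])
  set Z := Subgroup.zpowers vv with hZ
  have hZmem : ∀ x ∈ Z, x = 1 ∨ x = vv := by
    intro x hx
    obtain ⟨k, rfl⟩ := Subgroup.mem_zpowers_iff.1 hx
    rcases Int.even_or_odd' k with ⟨j, rfl | rfl⟩
    · left; rw [zpow_mul, zpow_two, hvv, one_zpow]
    · right; rw [zpow_add, zpow_mul, zpow_two, hvv, one_zpow, one_mul, zpow_one]
  haveI hZn : Z.Normal := ⟨fun x hx g => by
    rcases hZmem x hx with rfl | rfl
    · simp
    · rw [← hcen, mul_inv_cancel_right]; exact Subgroup.mem_zpowers _⟩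
  set π := QuotientGroup.mk' Z with hπ
  have hπs : Function.Surjective π := QuotientGroup.mk'_surjective Z
  have hπv : π vv = 1 := (QuotientGroup.eq_one_iff vv).2 (Subgroup.mem_zpowers vv)
  have hπeq : ∀ a b, π a = π b → a = b ∨ a = b * vv := by
    intro a b h
    have h' : b⁻¹ * a ∈ Z := QuotientGroup.eq.1 (show (QuotientGroup.mk b : C ⧸ Z) = QuotientGroup.mk a from h.symm)
    rcases hZmem _ h' with e | e
    · exact Or.inl (inv_mul_eq_one.1 e).symm
    · exact Or.inr (by rw [← e, mul_inv_cancel_left])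
  obtain ⟨P, hP⟩ := B.exists_T_sylow hb
  set Pb := P.mapSurjective hπs with hPb
  set rb := π rr with hrb
  have hrb1 : rb ≠ 1 := fun e => by
    rcases hπeq rr 1 (e.trans (map_one π).symm) with h | h
    · exact hr1 ((B.T.eq_one_iff hr).1 (congrArg Subtype.val h))
    · rw [one_mul] at h; exact hrv (B.T.inj _ _ hr hv (congrArg Subtype.val h))
  have hrb2 : rb * rb = 1 := by
    rw [hrb, ← map_mul, show rr * rr = 1 from Subtype.ext (by
      show B.T.f rC' * B.T.f rC' = 1
      rw [← B.T.map_mul _ _ hr hr, hr2, B.T.one]), map_one]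
  have hrbo : orderOf rb = 2 := orderOf_eq_prime (by rw [sq, hrb2]) hrb1
  obtain ⟨N, hN, hNodd, hNc⟩ := ZStar.zstar_of_sylow Pb hrbo (by
    intro g hg
    obtain ⟨g, rfl⟩ := hπs g
    rw [← map_inv, hrb, ← map_mul, ← map_mul] at hg ⊢
    obtain ⟨y, hy, ey⟩ := hg
    have hxP : g * rr * g⁻¹ ∈ (P : Subgroup C) := by
      have hvP : vv ∈ (P : Subgroup C) := (hP vv).2 (B.T.mem hv)
      rcases hπeq _ _ ey with e | e
      · exact e ▸ hy
      · have := mul_mem hy hvP
        rwa [e, mul_assoc, hvv, mul_one] at this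
    have h1 := B.weakly_four hb (s := ((g * rr * g⁻¹ : C) : G)) (h := ((g⁻¹ : C) : G)) ((hP _).1 hxP)
      (Subgroup.mem_centralizer_singleton_iff.1 (g * rr * g⁻¹).2)
      (Subgroup.mem_centralizer_singleton_iff.1 (g⁻¹).2)
      (by show (g : G)⁻¹ * ((g : G) * B.T.f rC' * (g : G)⁻¹) * ((g : G)⁻¹)⁻¹ = _; group)
    rcases h1 with e | e
    · exact congrArg π (show g * rr * g⁻¹ = rr from Subtype.ext e)
    · have : g * rr * g⁻¹ = vv * rr := Subtype.ext (by
        show ((g * rr * g⁻¹ : C) : G) = v * B.T.f rC'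
        rw [e, hvdef, ← B.T.map_mul _ _ hv hr, hvr])
      rw [this, map_mul, hπv, one_mul])
  -- the odd part lies in the subgroup
  have hel : Cfsg.IsElementaryAbelian 2 B.four :=
    ⟨⟨⟨fun p q => Subtype.ext (Frame.comm_of_sq B.sq_E1 (B.four_le.1 p.2) (B.four_le.1 q.2))⟩⟩,
      fun p hp => by rw [sq]; exact B.sq_E1 p (B.four_le.1 hp)⟩
  set E := (B.four.subgroupOf C).map π with hE
  have hfourC : ∀ x ∈ B.four, x ∈ C := by
    rintro _ ⟨a, ha, rfl⟩
    have h := List.all_eq_true.1 fourL_comm_v a ha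
    rw [Bool.and_eq_true] at h
    exact Subgroup.mem_centralizer_singleton_iff.2 ((B.T.commN_iff (e1L_inS (fourL_chk.2.2.1 a ha).1) hv).1 h.1)
  have hvfour : v ∉ B.four := by
    rintro ⟨a, ha, e⟩
    have h := List.all_eq_true.1 fourL_comm_v a ha
    rw [B.T.inj _ _ (e1L_inS (fourL_chk.2.2.1 a ha).1) hv e] at h
    simp at h
  have hinj : ∀ x ∈ B.four.subgroupOf C, ∀ y ∈ B.four.subgroupOf C, π x = π y → x = y := by
    intro x hx y hy e
    rcases hπeq _ _ e with h | h
    · exact h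
    · refine absurd ?_ hvfour
      have : vv = y⁻¹ * x := by rw [h, inv_mul_cancel_left]
      rw [show v = ((vv : C) : G) from rfl, this]
      exact Subgroup.mem_subgroupOf.1 (mul_mem (inv_mem hy) hx)
  have hEel : Cfsg.IsElementaryAbelian 2 E := by
    refine ⟨⟨⟨?_⟩⟩, ?_⟩
    · rintro ⟨_, x, hx, rfl⟩ ⟨_, y, hy, rfl⟩
      exact Subtype.ext (by
        show π x * π y = π y * π x
        rw [← map_mul, ← map_mul]
        exact congrArg π (Subtype.ext (Frame.comm_of_sq B.sq_E1 (B.four_le.1 hx) (B.four_le.1 hy))))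
    · rintro _ ⟨x, hx, rfl⟩
      rw [sq, ← map_mul, show x * x = 1 from Subtype.ext (B.sq_E1 _ (B.four_le.1 hx)), map_one]
  have hEcard : Nat.card E = 4 := by
    let φ : (B.four.subgroupOf C) →* E :=
      (π.comp (B.four.subgroupOf C).subtype).codRestrict E fun x => ⟨x.1, x.2, rfl⟩
    have hφ : Function.Bijective φ := ⟨fun x y e => Subtype.ext (hinj _ x.2 _ y.2 (congrArg Subtype.val e)),
      fun ⟨_, x, hx, e⟩ => ⟨⟨x, hx⟩, Subtype.ext e⟩⟩
    rw [← Nat.card_eq_of_bijective φ hφ, Nat.card_congr (Subgroup.subgroupOfEquivOfLe hfourC).toEquiv, B.card_four]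
  have hNM : N ≤ (M.subgroupOf C).map π := by
    haveI := hN
    refine Signalizer.le_of_forall_centralizer hEel le_rfl (by rw [hEcard]; norm_num)
      (le_top.trans (le_of_eq (Subgroup.normalizer_eq_top_iff.2 hN).symm)) hNodd.not_two_dvd_nat
      fun e he he1 x hx => ?_
    obtain ⟨ef, hef, rfl⟩ := he
    obtain ⟨y, rfl⟩ := hπs x
    refine ⟨y, ?_, rfl⟩
    have hef1 : (ef : G) ≠ 1 := fun h => he1 (by rw [show ef = 1 from Subtype.ext h, map_one])
    have hpure := B.pure_E1 hb (pat_facts d0 d3 (patBoth d0 d3) (by simp)).1 _ (B.four_le.1 hef) hef1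
    refine Subgroup.mem_subgroupOf.2 (hM.cent_pure hb (hM.S_le (B.A_le false (B.four_le.2 false hef))) hpure
      (Subgroup.mem_centralizer_singleton_iff.2 ?_))
    have hye : π (y * ef * y⁻¹) = π ef := by
      rw [map_mul, map_mul, map_inv, Subgroup.mem_centralizer_singleton_iff.1 hx.2, mul_inv_cancel_right]
    have hy2 : y * y * ef = ef * (y * y) := by
      rcases hπeq _ _ hye with h | h
      · have h := mul_inv_eq_iff_eq_mul.1 h
        rw [mul_assoc, h, ← mul_assoc, h, mul_assoc]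
      · have h := mul_inv_eq_iff_eq_mul.1 h
        rw [mul_assoc, h, ← mul_assoc, ← mul_assoc, h, mul_assoc (ef * vv) y vv, ← hcen y,
          ← mul_assoc (ef * vv) vv y, mul_assoc ef vv vv, hvv, mul_one, mul_assoc]
    obtain ⟨m, hm⟩ := SylL34.odd_orderOf_of_mem hNodd hx.1
    have hk : y ^ (2 * m + 1) ∈ Z := (QuotientGroup.eq_one_iff _).1 (by
      show π (y ^ (2 * m + 1)) = 1
      rw [map_pow, ← hm, pow_orderOf_eq_one])
    have hc1 : Commute (y ^ (2 * m + 1)) ef := by
      rcases hZmem _ hk with h | h <;> rw [h]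
      · exact Commute.one_left _
      · exact hcen ef
    have hc2 : Commute (y * y) ef := hy2
    have : y = y ^ (2 * m + 1) * ((y * y) ^ m)⁻¹ := by
      rw [← pow_two, ← pow_mul, pow_succ', mul_inv_cancel_right]
    have hcy : Commute y ef := this ▸ hc1.mul_left (hc2.pow_left m).inv_left
    exact congrArg Subtype.val hcy.eq
  have hvM : v ∈ M := hM.S_le (B.T.mem hv)
  have hNM' : ∀ y, π y ∈ N → (y : G) ∈ M := by
    intro y hy
    obtain ⟨z, hz, e⟩ := hNM hy
    rcases hπeq _ _ e.symm with h | h <;> rw [h]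
    · exact hz
    · exact mul_mem (Subgroup.mem_subgroupOf.1 hz) hvM
  obtain ⟨c0, hc0, hc0e⟩ := List.any_eq_true.1 cv_norm.2
  rw [Nat.beq_eq] at hc0e
  obtain ⟨hc0S, hc0v⟩ := Base.mem_cvL.1 hc0
  intro g hg
  -- adjust to fix the four-group
  set gg : C := ⟨g, hg⟩
  have hmem : π gg * rb * (π gg)⁻¹ * rb ∈ N := by
    have := inv_mem (hNc (π gg))
    rw [mul_inv_rev, mul_inv_rev, mul_inv_rev, inv_inv, inv_inv,
      show rb⁻¹ = rb from inv_eq_of_mul_eq_one_right hrb2, ← mul_assoc, ← mul_assoc] at this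
    exact this
  obtain ⟨ob, hob, eob⟩ := SylL34.exists_conj_mod hNodd hrbo
    (x := π gg * rb * (π gg)⁻¹) ((Invol.orderOf_conj_eq _ _).trans hrbo) hmem
  obtain ⟨o, rfl⟩ := hπs ob
  set g' := o⁻¹ * gg with hg'
  have hg'r : π (g' * rr * g'⁻¹) = π rr := by
    rw [hg', map_mul, map_mul, map_inv, map_mul, map_inv, mul_inv_rev, inv_inv,
      show (π o)⁻¹ * π gg * π rr * ((π gg)⁻¹ * π o) = (π o)⁻¹ * (π gg * π rr * (π gg)⁻¹) * π o by group, ← eob]
    group
    exact hrb
  have hgoal : (g' : G) ∈ M := by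
    have hg'v : (g' : G) * v = v * (g' : G) := Subgroup.mem_centralizer_singleton_iff.1 g'.2
    rcases hπeq _ _ hg'r with h | h
    · exact hR ⟨g'.2, Subgroup.mem_centralizer_singleton_iff.2
        (congrArg Subtype.val (mul_inv_eq_iff_eq_mul.1 h))⟩
    · set τ := B.T.f c0
      have hτv : τ * v = v * τ := (B.T.commN_iff hc0S hv).1 hc0v
      have hτr : τ * B.T.f rC' * τ⁻¹ = B.T.f rC' * v := by
        rw [B.T.conj hc0S hr, hc0e, hvdef, ← B.T.map_mul _ _ hr hv, hrv']
      have h' : (g' : G) * B.T.f rC' * (g' : G)⁻¹ = B.T.f rC' * v := congrArg Subtype.val h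
      have hmem : τ⁻¹ * (g' : G) ∈ C ⊓ Subgroup.centralizer ({B.T.f rC'} : Set G) := by
        refine ⟨C.mul_mem (C.inv_mem (Subgroup.mem_centralizer_singleton_iff.2 hτv)) g'.2,
          Subgroup.mem_centralizer_singleton_iff.2 (mul_inv_eq_iff_eq_mul.1 ?_)⟩
        rw [show τ⁻¹ * (g' : G) * B.T.f rC' * (τ⁻¹ * (g' : G))⁻¹ =
          τ⁻¹ * ((g' : G) * B.T.f rC' * (g' : G)⁻¹) * τ by group, h', ← hτr]
        group
      have := mul_mem (hM.S_le (B.T.mem hc0S)) (hR hmem)
      rwa [mul_inv_cancel_left] at this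
  have := mul_mem (hNM' o hob) hgoal
  rwa [show ((o : C) : G) * (g' : G) = g by rw [hg']; push_cast; rw [mul_inv_cancel_left]] at this

end CfsgLib.L5Type
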