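import Cfsg.Agent.L5Type.FourData
import Cfsg.Agent.L5Type.Generated
import Cfsg.Agent.L5Type.ZStep
import Cfsg.Agent.CentralMeet.Local

/-!
The centralizer of the four-group lies in the subgroup.
-/

set_option autoImplicit false
set_option linter.unusedSectionVars false
set_option linter.style.haveILetI false
set_option maxRecDepth 100000

namespace CfsgLib.L5Type

open CfsgLib.HeldUniq
open CfsgLib.Trichotomy (patBoth)

universe u

theorem Big.cent_four_le {G : Type u} [Group G] [Finite G] {B : Base G} {M : Subgroup G} (hM : Big B M)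
    {d0 d3 : Bool} (hb : B.IsPat (patBoth d0 d3)) :
    Subgroup.centralizer ({B.T.f vC} : Set G) ⊓ Subgroup.centralizer ({B.T.f rC'} : Set G) ≤ M := by
  classical
  haveI : Fact (Nat.Prime 2) := ⟨Nat.prime_two⟩
  obtain ⟨hvS, hrS, hwS, hvr, hrv', -, -, -, -, -, -, -, -, -, -, -, -, -, -, -, -⟩ := four_facts
  rw [inSB_iff] at hvS hrS hwS
  obtain ⟨hsub, hfourW, hcommR⟩ := crL_sub
  have hcr : ∀ {a}, a ∈ crL → InS a ∧ Mdl.commN a vC = true ∧ Mdl.commN a rC' = true := fun h => by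
    obtain ⟨h1, h2⟩ := List.mem_filter.1 h
    exact ⟨(Base.mem_cvL.1 h1).1, (Base.mem_cvL.1 h1).2, h2⟩
  have hin : ∀ a ∈ wL false ++ wL true ++ fourR ++ [Mdl.tN, 17926276, 17926340], a ∈ crL := fun a ha =>
    List.contains_iff_mem.1 (List.all_eq_true.1 hsub a ha)
  have hW : ∀ σ, ∀ a ∈ wL σ, a ∈ crL := fun σ a ha => hin a (by cases σ <;> simp [ha])
  have hR4 : ∀ a ∈ fourR, a ∈ crL := fun a ha => hin a (by simp [ha])
  have hR4W : ∀ σ, ∀ a ∈ fourR, a ∈ wL σ := fun σ a ha => by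
    have h := List.all_eq_true.1 hfourW a ha
    simp only [Bool.and_eq_true, List.contains_iff_mem] at h
    cases σ
    exacts [h.1, h.2]
  -- the group
  let ι : B.cR →* G := (Subgroup.centralizer ({B.T.f vC} : Set G)).subtype.comp B.cR.subtype
  have hιinj : Function.Injective ι := fun x y h => Subtype.ext (Subtype.ext h)
  have hιv : ∀ x, ι x * B.T.f vC = B.T.f vC * ι x := fun x => Subgroup.mem_centralizer_singleton_iff.1 x.1.2
  have hιr : ∀ x, ι x * B.T.f rC' = B.T.f rC' * ι x := fun x =>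
    congrArg Subtype.val (Subgroup.mem_centralizer_singleton_iff.1 x.2)
  have hlift : ∀ g : G, g * B.T.f vC = B.T.f vC * g → g * B.T.f rC' = B.T.f rC' * g → ∃ x, ι x = g := fun g h1 h2 =>
    ⟨⟨⟨g, Subgroup.mem_centralizer_singleton_iff.2 h1⟩,
      Subgroup.mem_centralizer_singleton_iff.2 (Subtype.ext h2)⟩, rfl⟩
  have hel : ∀ a : {a // a ∈ crL}, ∃ x, ι x = B.T.f a.1 := fun a => by
    obtain ⟨h1, h2, h3⟩ := hcr a.2
    exact hlift _ ((B.T.commN_iff h1 hvS).1 h2) ((B.T.commN_iff h1 hrS).1 h3)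
  choose el' hel' using hel
  let el : Nat → B.cR := fun a => if h : a ∈ crL then el' ⟨a, h⟩ else 1
  have hι : ∀ {a}, a ∈ crL → ι (el a) = B.T.f a := fun {a} h => by simp only [el, dif_pos h]; exact hel' ⟨a, h⟩
  obtain ⟨Q, -, hQ⟩ := B.exists_R_sylow hb
  have hQι : ∀ x, x ∈ (Q : Subgroup B.cR) ↔ ι x ∈ (B.S : Subgroup G) := hQ
  have hQel : ∀ {a}, a ∈ crL → el a ∈ (Q : Subgroup B.cR) := fun h => (hQι _).2 (hι h ▸ B.T.mem (hcr h).1)
  have hQmem : ∀ x ∈ (Q : Subgroup B.cR), ∃ a ∈ crL, el a = x := by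
    intro x hx
    obtain ⟨a, ha, ea⟩ := (B.T.mem_iff _).1 ((hQι x).1 hx)
    have hac : a ∈ crL := List.mem_filter.2 ⟨Base.mem_cvL.2 ⟨ha, (B.T.commN_iff ha hvS).2 (by rw [ea]; exact hιv x)⟩,
      (B.T.commN_iff ha hrS).2 (by rw [ea]; exact hιr x)⟩
    exact ⟨a, hac, hιinj ((hι hac).trans ea)⟩
  have hmulC : ∀ {a b}, a ∈ crL → b ∈ crL → Mdl.mulN a b ∈ crL := by
    intro a b ha hb
    obtain ⟨a1, a2, a3⟩ := hcr ha
    obtain ⟨b1, b2, b3⟩ := hcr hb
    have key : ∀ {c}, InS c → Mdl.commN a c = true → Mdl.commN b c = true → Mdl.commN (Mdl.mulN a b) c = true :=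
      fun {c} hc h1 h2 => (B.T.commN_iff (a1.mul b1) hc).2 (by
        rw [B.T.map_mul _ _ a1 b1]
        exact ((show Commute (B.T.f a) (B.T.f c) from (B.T.commN_iff a1 hc).1 h1).mul_left
          ((B.T.commN_iff b1 hc).1 h2)).eq)
    exact List.mem_filter.2 ⟨Base.mem_cvL.2 ⟨a1.mul b1, key hvS a2 b2⟩, key hrS a3 b3⟩
  have hinvC : ∀ {a}, a ∈ crL → Mdl.invN a ∈ crL := by
    intro a ha
    obtain ⟨a1, a2, a3⟩ := hcr ha
    have key : ∀ {c}, InS c → Mdl.commN a c = true → Mdl.commN (Mdl.invN a) c = true :=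
      fun {c} hc h1 => (B.T.commN_iff a1.inv hc).2 (by
        rw [B.T.inv a1]
        exact (show Commute (B.T.f a) (B.T.f c) from (B.T.commN_iff a1 hc).1 h1).inv_left.eq)
    exact List.mem_filter.2 ⟨Base.mem_cvL.2 ⟨a1.inv, key hvS a2⟩, key hrS a3⟩
  have helmul : ∀ {a b}, a ∈ crL → b ∈ crL → el (Mdl.mulN a b) = el a * el b := fun ha hb => hιinj (by
    rw [map_mul, hι ha, hι hb, hι (hmulC ha hb), B.T.map_mul _ _ (hcr ha).1 (hcr hb).1])
  have helinv : ∀ {a}, a ∈ crL → el (Mdl.invN a) = (el a)⁻¹ := fun ha => hιinj (by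
    rw [map_inv, hι ha, hι (hinvC ha), B.T.inv (hcr ha).1])
  -- the core
  set O := Cfsg.oddCore B.cR with hO
  haveI hOn : O.Normal := SylL34.ocore_normal
  have hOodd : Odd (Nat.card O) := SylL34.ocore_odd
  set π₁ := QuotientGroup.mk' O with hπ₁
  have hπ₁s : Function.Surjective π₁ := QuotientGroup.mk'_surjective O
  have h1inj : ∀ x ∈ (Q : Subgroup B.cR), ∀ y ∈ (Q : Subgroup B.cR), π₁ x = π₁ y → x = y := fun x hx y hy e =>
    mul_inv_eq_one.1 (LocalB.eq_one_of_odd_pgroup_two hOodd Q.isPGroup'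
      ((QuotientGroup.eq_one_iff _).1 (show π₁ (x * y⁻¹) = 1 by rw [map_mul, map_inv, e, mul_inv_cancel]))
      (mul_mem hx (inv_mem hy)))
  -- the four-group
  let R4 : Subgroup B.cR := HeldUniq.Frame.ofClosed {x | ∃ a ∈ fourR, el a = x}
    ⟨Mdl.one, by simp [fourR], hιinj (by rw [hι (hR4 _ (by simp [fourR])), B.T.one, map_one])⟩
    fun x hx y hy => by
      obtain ⟨a, ha, rfl⟩ := hx
      obtain ⟨b, hb, rfl⟩ := hy
      refine ⟨Mdl.mulN a b, List.contains_iff_mem.1 (List.all_eq_true.1 (List.all_eq_true.1 four_closed a ha) b hb),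
        helmul (hR4 a ha) (hR4 b hb)⟩
  have hR4c : R4 ≤ Subgroup.center B.cR := by
    rintro _ ⟨a, ha, rfl⟩
    refine Subgroup.mem_center_iff.2 fun x => hιinj ?_
    rw [map_mul, map_mul, hι (hR4 a ha)]
    have h1 : Commute (ι x) (B.T.f vC) := hιv x
    have h2 : Commute (ι x) (B.T.f rC') := hιr x
    simp only [fourR, List.mem_cons, List.not_mem_nil, or_false] at ha
    rcases ha with rfl | rfl | rfl | rfl
    · rw [B.T.one, mul_one, one_mul]
    · exact h1.eq
    · exact h2.eq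
    · rw [← hvr, B.T.map_mul _ _ hvS hrS]; exact (h1.mul_right h2).eq
  have hR4Q : R4 ≤ (Q : Subgroup B.cR) := by
    rintro _ ⟨a, ha, rfl⟩
    exact hQel (hR4 a ha)
  set Z := R4.map π₁ with hZ
  have hZc : Z ≤ Subgroup.center (B.cR ⧸ O) := by
    rintro _ ⟨x, hx, rfl⟩
    refine Subgroup.mem_center_iff.2 fun g => ?_
    obtain ⟨g, rfl⟩ := hπ₁s g
    rw [← map_mul, ← map_mul, Subgroup.mem_center_iff.1 (hR4c hx) g]
  haveI hZn : Z.Normal := ⟨fun x hx g => by rw [Subgroup.mem_center_iff.1 (hZc hx) g, mul_inv_cancel_right]; exact hx⟩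
  set π₂ := QuotientGroup.mk' Z with hπ₂
  set f := π₂.comp π₁ with hf
  have hfs : Function.Surjective f := (QuotientGroup.mk'_surjective Z).comp hπ₁s
  have hO2 : Cfsg.oddCore ((B.cR ⧸ O) ⧸ Z) = ⊥ :=
    CentralMeet.oddCore_quotient_of_central ((Q.isPGroup'.to_le hR4Q).map π₁) hZc LocalB.oddCore_quotient
  have hker : ∀ {x}, f x = 1 → ∃ o ∈ O, ∃ r ∈ R4, x = o * r := by
    intro x hx
    obtain ⟨r, hr, e⟩ := (QuotientGroup.eq_one_iff _).1 hx
    refine ⟨x * r⁻¹, (QuotientGroup.eq_one_iff _).1 ?_, r, hr, by group⟩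
    show π₁ (x * r⁻¹) = 1
    rw [map_mul, map_inv, e, mul_inv_cancel]
  have hfR : ∀ {r}, r ∈ R4 → f r = 1 := fun hr => (QuotientGroup.eq_one_iff _).2 (Subgroup.mem_map_of_mem π₁ hr)
  have hfeq : ∀ {a b}, a ∈ crL → b ∈ crL → (f (el a) = f (el b) ↔ eqR a b = true) := by
    intro a b ha hb
    have hm := hmulC ha (hinvC hb)
    rw [← mul_inv_eq_one, ← map_inv, ← map_mul, ← helinv hb, ← helmul ha (hinvC hb), eqR, List.contains_iff_mem]
    constructor
    · intro h
      obtain ⟨r, ⟨c, hc, rfl⟩, e⟩ := (QuotientGroup.eq_one_iff _).1 h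
      have e' := h1inj _ (hQel (hR4 c hc)) _ (hQel hm) e
      have e'' := congrArg ι e'
      rw [hι (hR4 c hc), hι hm] at e''
      exact B.T.inj _ _ (hcr (hR4 c hc)).1 (hcr hm).1 e'' ▸ hc
    · intro h
      exact hfR ⟨_, h, rfl⟩
  -- the two sides
  let AK : Bool → Subgroup B.cR := fun σ => (B.A σ).comap ι
  have hAK : ∀ σ x, x ∈ AK σ ↔ ∃ a ∈ wL σ, el a = x := by
    intro σ x
    constructor
    · rintro ⟨a, ha, e⟩
      exact ⟨a, ha, hιinj ((hι (hW σ a ha)).trans e)⟩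
    · rintro ⟨a, ha, rfl⟩
      exact ⟨a, ha, (hι (hW σ a ha)).symm⟩
  have hAQ : ∀ σ, AK σ ≤ (Q : Subgroup B.cR) := by
    intro σ x hx
    obtain ⟨a, ha, rfl⟩ := (hAK σ x).1 hx
    exact hQel (hW σ a ha)
  have hmemA : ∀ σ y, y ∈ (AK σ).map f ↔ ∃ a ∈ wL σ, f (el a) = y := by
    intro σ y
    constructor
    · rintro ⟨x, hx, rfl⟩
      obtain ⟨a, ha, rfl⟩ := (hAK σ x).1 hx
      exact ⟨a, ha, rfl⟩
    · rintro ⟨a, ha, rfl⟩
      exact ⟨_, (hAK σ _).2 ⟨a, ha, rfl⟩, rfl⟩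
  set S2 := Q.mapSurjective hfs with hS2
  have hmemS : ∀ y, y ∈ (S2 : Subgroup _) ↔ ∃ a ∈ crL, f (el a) = y := by
    intro y
    constructor
    · rintro ⟨x, hx, rfl⟩
      obtain ⟨a, ha, rfl⟩ := hQmem x hx
      exact ⟨a, ha, rfl⟩
    · rintro ⟨a, ha, rfl⟩
      exact ⟨_, hQel ha, rfl⟩
  have hclass : ∀ {σ a b}, a ∈ crL → b ∈ wL σ → f (el a) = f (el b) → a ∈ wL σ := by
    intro σ a b ha hb e
    have h := (hfeq ha (hW σ b hb)).1 e
    rw [eqR, List.contains_iff_mem] at h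
    have h2 := (wL_facts σ).2.2.2.2.2 _ (hR4W σ _ h) b hb
    have e2 : Mdl.mulN (Mdl.mulN a (Mdl.invN b)) b = a := B.T.inj _ _ (((hcr ha).1.mul (wL_inS hb).inv).mul (wL_inS hb))
      (hcr ha).1 (by
        rw [B.T.map_mul _ _ ((hcr ha).1.mul (wL_inS hb).inv) (wL_inS hb),
          B.T.map_mul _ _ (hcr ha).1 (wL_inS hb).inv, B.T.inv (wL_inS hb), inv_mul_cancel_right])
    rwa [e2] at h2
  have hinterC : ∀ a ∈ interL, a ∈ crL ∧ a ∈ wL false ∧ a ∈ wL true := by
    intro a ha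
    obtain ⟨h1, h2⟩ := List.mem_filter.1 ha
    exact ⟨hW false a h1, h1, List.contains_iff_mem.1 h2⟩
  have hmemI : ∀ y, y ∈ (AK false).map f ⊓ (AK true).map f ↔ ∃ a ∈ interL, f (el a) = y := by
    intro y
    constructor
    · rintro ⟨h1, h2⟩
      obtain ⟨a, ha, rfl⟩ := (hmemA false y).1 h1
      obtain ⟨b, hb, e⟩ := (hmemA true _).1 h2
      exact ⟨a, List.mem_filter.2 ⟨ha, List.contains_iff_mem.2 (hclass (hW false a ha) hb e.symm)⟩, rfl⟩
    · rintro ⟨a, ha, rfl⟩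
      obtain ⟨-, h1, h2⟩ := hinterC a ha
      exact ⟨(hmemA false _).2 ⟨a, h1, rfl⟩, (hmemA true _).2 ⟨a, h2, rfl⟩⟩
  have hcard : ∀ (X : Subgroup ((B.cR ⧸ O) ⧸ Z)) (L R : List Nat), (∀ a ∈ L, a ∈ crL) → repOk L R = true →
      (∀ y, y ∈ X ↔ ∃ a ∈ L, f (el a) = y) → Nat.card X = R.length := by
    intro X L R hL hok hX
    simp only [repOk, Bool.and_eq_true, List.all_eq_true, List.contains_iff_mem, List.any_eq_true, decide_eq_true_eq,
      Bool.or_eq_true, Bool.not_eq_true', Nat.beq_eq] at hok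
    obtain ⟨⟨⟨h1, h2⟩, h3⟩, h4⟩ := hok
    have hset : (X : Set ((B.cR ⧸ O) ⧸ Z)) = ((R.map fun a => f (el a)).toFinset : Set _) := by
      ext y
      simp only [SetLike.mem_coe, List.coe_toFinset, List.mem_map, Set.mem_setOf_eq, hX]
      constructor
      · rintro ⟨a, ha, rfl⟩
        obtain ⟨b, hb, e⟩ := h2 a ha
        exact ⟨b, hb, ((hfeq (hL a ha) (hL b (h1 b hb))).2 e).symm⟩
      · rintro ⟨b, hb, rfl⟩
        exact ⟨b, h1 b hb, rfl⟩
    have hnd : (R.map fun a => f (el a)).Nodup := List.Nodup.map_on (fun a ha b hb e => by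
      rcases h3 a ha b hb with h | h
      · rw [(hfeq (hL a (h1 a ha)) (hL b (h1 b hb))).1 e] at h; exact Bool.noConfusion h
      · exact h) h4
    rw [show Nat.card X = Nat.card (X : Set ((B.cR ⧸ O) ⧸ Z)) from rfl, hset, Nat.card_coe_set_eq,
      Set.ncard_coe_finset, List.toFinset_card_of_nodup hnd, List.length_map]
  obtain ⟨rA, rB, rI, rP⟩ := four_reps_ok
  have hfmul : ∀ {a b}, a ∈ crL → b ∈ crL → f (el a) * f (el b) = f (el (Mdl.mulN a b)) := fun ha hb => by
    rw [← map_mul, helmul ha hb]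
  have hsq : ∀ σ, ∀ y ∈ (AK σ).map f, y * y = 1 := by
    rintro σ _ ⟨x, hx, rfl⟩
    rw [← map_mul, show x * x = 1 from hιinj (by rw [map_mul, map_one]; exact B.sq_A σ _ hx), map_one]
  have hone : f (el Mdl.one) = 1 := hfR ⟨_, by simp [fourR], rfl⟩
  have honeC : Mdl.one ∈ crL := hR4 _ (by simp [fourR])
  have D : SylL34.Dat S2 ((AK false).map f) ((AK true).map f) :=
    { hA := Subgroup.map_mono (hAQ false)
      hB := Subgroup.map_mono (hAQ true)
      eA := hsq false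
      eB := hsq true
      cA := (hcard _ _ _ (hW false) rA (hmemA false)).trans (by decide)
      cB := (hcard _ _ _ (hW true) rB (hmemA true)).trans (by decide)
      cI := (hcard _ _ _ (fun a ha => (hinterC a ha).1) rI hmemI).trans (by decide)
      cS := (hcard _ _ _ (fun a ha => ha) rP hmemS).trans (by decide)
      inv := by
        intro y hy h
        obtain ⟨a, ha, rfl⟩ := (hmemS y).1 hy
        rw [hfmul ha ha, ← hone, hfeq (hmulC ha ha) honeC] at h
        have h' := List.all_eq_true.1 dat_inv a ha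
        simp only [h, Bool.not_true, Bool.false_or, Bool.or_eq_true, List.contains_iff_mem] at h'
        exact h'.imp (fun h => (hmemA false _).2 ⟨a, h, rfl⟩) (fun h => (hmemA true _).2 ⟨a, h, rfl⟩)
      cen := by
        intro w hw y hy
        obtain ⟨a, ha, rfl⟩ := (hmemI w).1 hw
        obtain ⟨x, hx, rfl⟩ := (hmemS y).1 hy
        have hac := (hinterC a ha).1
        rw [hfmul hac hx, hfmul hx hac, hfeq (hmulC hac hx) (hmulC hx hac)]
        exact List.all_eq_true.1 (List.all_eq_true.1 dat_cen a ha) x hx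
      selfA := by
        intro p hp hpB q hq h
        obtain ⟨a, ha, rfl⟩ := (hmemA false p).1 hp
        obtain ⟨b, hb, rfl⟩ := (hmemA true q).1 hq
        have hac := hW false a ha
        have hbc := hW true b hb
        rw [hfmul hac hbc, hfmul hbc hac, hfeq (hmulC hac hbc) (hmulC hbc hac)] at h
        have h' := List.all_eq_true.1 dat_self a ha
        simp only [Bool.or_eq_true, List.contains_iff_mem, List.all_eq_true, Bool.not_eq_true'] at h'
        rcases h' with h' | h'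
        · exact absurd ((hmemA true _).2 ⟨a, h', rfl⟩) hpB
        · rcases h' b hb with h'' | h''
          · rw [h] at h''; exact Bool.noConfusion h''
          · exact (hmemA false _).2 ⟨b, h'', rfl⟩ }
  -- the core is in the subgroup
  have h4C : ∀ x ∈ B.four, ∃ y, ι y = x := by
    rintro _ ⟨a, ha, rfl⟩
    exact ⟨el a, hι (hin a (by simp [fourL] at ha; rcases ha with rfl | rfl | rfl | rfl <;> simp [fourR]))⟩
  have hOM : ∀ o ∈ O, ι o ∈ M := by
    have hel : Cfsg.IsElementaryAbelian 2 (B.four.comap ι) := by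
      refine ⟨⟨⟨fun p q => Subtype.ext (hιinj ?_)⟩⟩, fun p hp => hιinj ?_⟩
      · show ι (p.1 * q.1) = ι (q.1 * p.1)
        rw [map_mul, map_mul]
        exact Frame.comm_of_sq B.sq_E1 (B.four_le.1 p.2) (B.four_le.1 q.2)
      · rw [sq, map_mul, map_one]
        exact B.sq_E1 _ (B.four_le.1 hp)
    have hcard4 : Nat.card (B.four.comap ι) = 4 := by
      rw [← Subgroup.card_map_of_injective hιinj, Subgroup.map_comap_eq,
        inf_eq_right.2 (fun x hx => h4C x hx), B.card_four]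
    have hle : O ≤ M.comap ι := by
      refine Signalizer.le_of_forall_centralizer hel le_rfl (by rw [hcard4]; norm_num)
        (le_top.trans (le_of_eq (Subgroup.normalizer_eq_top_iff.2 hOn).symm)) hOodd.not_two_dvd_nat
        fun e he he1 x hx => ?_
      have he1' : ι e ≠ 1 := fun h => he1 (hιinj (h.trans (map_one ι).symm))
      refine hM.cent_pure hb (hM.S_le (B.A_le false (B.four_le.2 false he)))
        (B.pure_E1 hb (pat_facts d0 d3 (patBoth d0 d3) (by simp)).1 _ (B.four_le.1 he) he1')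
        (Subgroup.mem_centralizer_singleton_iff.2 ?_)
      rw [← map_mul, ← map_mul, Subgroup.mem_centralizer_singleton_iff.1 hx.2]
    exact fun o ho => hle ho
  have hR4M : ∀ r ∈ R4, ι r ∈ M := fun r hr => hM.S_le ((hQι r).1 (hR4Q hr))
  have hkerM : ∀ {x}, f x = 1 → ι x ∈ M := fun hx => by
    obtain ⟨o, ho, r, hr, rfl⟩ := hker hx
    rw [map_mul]
    exact mul_mem (hOM o ho) (hR4M r hr)
  set M2 := (M.comap ι).map f with hM2
  have hside : ∀ σ, Subgroup.normalizer (((AK σ).map f : Subgroup _) : Set ((B.cR ⧸ O) ⧸ Z)) ≤ M2 := by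
    intro σ y hy
    obtain ⟨n, rfl⟩ := hfs y
    obtain ⟨o, ho, hfix⟩ := exists_fix hOodd (Q.isPGroup'.to_le (hAQ σ))
      (le_top.trans (le_of_eq (Subgroup.normalizer_eq_top_iff.2 hOn).symm)) (h := n) fun a ha => by
      have h := (Subgroup.mem_normalizer_iff.1 hy (f a)).1 (Subgroup.mem_map_of_mem f ha)
      obtain ⟨b, hb, e⟩ := h
      rw [← map_inv, ← map_mul, ← map_mul] at e
      have e' : f (n * a * n⁻¹ * b⁻¹) = 1 := by rw [map_mul, ← e, map_inv, mul_inv_cancel]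
      obtain ⟨o, ho, r, hr, eo⟩ := hker e'
      obtain ⟨c, hc, rfl⟩ := hr
      rw [show n * a * n⁻¹ = o * (el c * b) by rw [← mul_assoc, ← eo]; group]
      exact mul_mem (Subgroup.mem_sup_left ho) (Subgroup.mem_sup_right
        (mul_mem ((hAK σ _).2 ⟨c, hR4W σ c hc, rfl⟩) hb))
    have hN : ι (o * n) ∈ Subgroup.normalizer (B.A σ : Set G) := by
      refine Frame.conj_mem_iff_of_le ?_
      rintro _ ⟨a, ha, rfl⟩
      have := hfix (el a) ((hAK σ _).2 ⟨a, ha, rfl⟩)
      rw [Subgroup.mem_comap, map_mul ι (o * n * el a), map_mul ι (o * n), map_inv, hι (hW σ a ha)] at this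
      exact this
    have hnM : ι n ∈ M := by
      have := mul_mem (inv_mem (hOM o ho)) (hM.normA σ hN)
      rwa [map_mul, inv_mul_cancel_left] at this
    exact ⟨n, hnM, rfl⟩
  have htop := eq_top_of_normalizers D hO2 (hside false) (hside true)
  rintro g ⟨hgv, hgr⟩
  obtain ⟨x, rfl⟩ := hlift g (Subgroup.mem_centralizer_singleton_iff.1 hgv)
    (Subgroup.mem_centralizer_singleton_iff.1 hgr)
  obtain ⟨m, hm, e⟩ : f x ∈ M2 := htop ▸ Subgroup.mem_top _
  have := mul_mem (hkerM (x := x * m⁻¹) (by rw [map_mul, map_inv, e, mul_inv_cancel])) (show ι m ∈ M from hm)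
  rwa [map_mul, map_inv, inv_mul_cancel_right] at this
where
  four_closed : (fourR.all fun a => fourR.all fun b => fourR.contains (Mdl.mulN a b)) = true := by decide +kernel

end CfsgLib.L5Type
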