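import Cfsg.Agent.L5Type.VData

/-!
The centralizer of the four-group in the Sylow subgroup, modulo the four-group.
-/

set_option autoImplicit false
set_option maxRecDepth 100000

namespace CfsgLib.L5Type

open CfsgLib.HeldUniq

/-- The codes of the four-group. -/
def fourR : List Nat := [Mdl.one, vC, rC', wC]

/-- Equality modulo the four-group. -/
def eqR (a b : Nat) : Bool := fourR.contains (Mdl.mulN a (Mdl.invN b))

/-- The intersection of the two elementary lists. -/
def interL : List Nat := (wL false).filter fun a => (wL true).contains a

/-- Representatives of the first elementary subgroup. -/
def repsA : List Nat := [17926272, 17926276, 17926288, 17926292, 17926336, 17926340, 17926352, 17926356, 20027520, 20027524, 20027536, 20027540, 20027584, 20027588, 20027600, 20027604]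

/-- Representatives of the second elementary subgroup. -/
def repsB : List Nat := [17926272, 17926274, 17926276, 17926278, 17926336, 17926338, 17926340, 17926342, 18057600, 18057602, 18057604, 18057606, 18057664, 18057666, 18057668, 18057670]

/-- Representatives of their intersection. -/
def repsI : List Nat := [17926272, 17926276, 17926336, 17926340]

/-- Representatives of the whole centralizer. -/
def repsP : List Nat := [17926272, 18057600, 18188928, 18320256, 20027520, 20420992, 20290176, 20159360, 17926336, 18057664, 18188992, 18320320, 20027584, 20421056, 20290240, 20159424, 17926288, 18057616, 18188944, 18320272, 20027536, 20421008, 20290192, 20159376, 17926352, 18057680, 18189008, 18320336, 20027600, 20421072, 20290256, 20159440, 17926274, 18057602, 18188930, 18320258, 20027522, 20420994, 20290178, 20159362, 17926338, 18057666, 18188994, 18320322, 20027586, 20421058, 20290242, 20159426, 17926290, 18057618, 18188946, 18320274, 20027538, 20421010, 20290194, 20159378, 17926354, 18057682, 18189010, 18320338, 20027602, 20421074, 20290258, 20159442]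

/-- A list is covered by representatives pairwise different modulo the four-group. -/
def repOk (L R : List Nat) : Bool :=
  (R.all fun a => L.contains a) && (L.all fun a => R.any fun b => eqR a b) &&
    (R.all fun a => R.all fun b => !eqR a b || Nat.beq a b) && decide R.Nodup

theorem four_reps_ok : repOk (wL false) repsA = true ∧ repOk (wL true) repsB = true ∧ repOk interL repsI = true ∧
    repOk crL repsP = true := by decide +kernel

theorem crL_sub : ((wL false ++ wL true ++ fourR ++ [Mdl.tN, 17926276, 17926340]).all fun a => crL.contains a) = true ∧
    (fourR.all fun a => (wL false).contains a && (wL true).contains a) = true ∧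
    (crL.all fun a => Mdl.commN a vC && Mdl.commN a rC' && Mdl.commN a wC) = true := by decide +kernel

theorem dat_inv : (crL.all fun a => !eqR (Mdl.mulN a a) Mdl.one || (wL false).contains a || (wL true).contains a) = true := by
  decide +kernel

theorem dat_cen : (interL.all fun a => crL.all fun x => eqR (Mdl.mulN a x) (Mdl.mulN x a)) = true := by
  decide +kernel

theorem dat_self : ((wL false).all fun a => (wL true).contains a || (wL true).all fun b =>
    !eqR (Mdl.mulN a b) (Mdl.mulN b a) || (wL false).contains b) = true := by decide +kernel

end CfsgLib.L5Type
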