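import Cfsg.Agent.L5Type.Lift
import Cfsg.Agent.Trichotomy.FusionGen

/-!
The two elementary subgroups of order 64 are weakly closed and their normalizers control fusion.
-/

set_option autoImplicit false
set_option linter.unusedSectionVars false
set_option linter.style.haveILetI false
set_option maxRecDepth 100000

namespace CfsgLib.L5Type

open CfsgLib.HeldUniq

universe u

/-- The codes of the two elementary subgroups. -/
def wL : Bool → List Nat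
  | false => Mdl.w0List
  | true => Mdl.w3List

theorem wL_facts (σ : Bool) : (wL σ).length = 64 ∧ (wL σ).Nodup ∧ Mdl.one ∈ wL σ ∧ Mdl.tN ∈ wL σ ∧
    (∀ a ∈ wL σ, InS a ∧ Mdl.mulN a a = Mdl.one) ∧ ∀ a ∈ wL σ, ∀ b ∈ wL σ, Mdl.mulN a b ∈ wL σ := by
  cases σ
  · obtain ⟨h1, h2, h3, h4, h5, -⟩ := Mdl.elem_facts Mdl.w0_elem
    exact ⟨h1, h2, h3, h4, fun a ha => ⟨(h5 a ha).2.2.2, (h5 a ha).2.1⟩, Mdl.closed_facts Mdl.w0_closed⟩
  · obtain ⟨h1, h2, h3, h4, h5, -⟩ := Mdl.elem_facts Mdl.w3_elem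
    exact ⟨h1, h2, h3, h4, fun a ha => ⟨(h5 a ha).2.2.2, (h5 a ha).2.1⟩, Mdl.closed_facts Mdl.w3_closed⟩

theorem wL_inS {σ : Bool} {a : Nat} (ha : a ∈ wL σ) : InS a := ((wL_facts σ).2.2.2.2.1 a ha).1

/-- The matching subgroup of a frame. -/
def wSub {H : Type u} [Group H] [Finite H] {t : H} (F : HeldUniq.Frame t) : Bool → Subgroup H
  | false => F.w0
  | true => F.w3

theorem mem_wSub {H : Type u} [Group H] [Finite H] {t : H} (F : HeldUniq.Frame t) (σ : Bool) (x : H) :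
    x ∈ wSub F σ ↔ ∃ a ∈ wL σ, F.ev a = x := by
  cases σ
  · exact Iff.rfl
  · exact Iff.rfl

namespace Base

variable {G : Type u} [Group G] [Finite G] (B : Base G)

/-- The elementary subgroups of order 64. -/
def A (σ : Bool) : Subgroup G :=
  B.subL (wL σ) (wL_facts σ).2.2.1 (fun _ ha => wL_inS ha) (wL_facts σ).2.2.2.2.2

theorem mem_A {σ : Bool} {g : G} : g ∈ B.A σ ↔ ∃ a ∈ wL σ, B.T.f a = g := Iff.rfl

theorem f_mem_A {σ : Bool} {a : Nat} (ha : InS a) : B.T.f a ∈ B.A σ ↔ a ∈ wL σ := by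
  refine ⟨fun ⟨b, hb, e⟩ => ?_, fun h => ⟨a, h, rfl⟩⟩
  rwa [← B.T.inj b a (wL_inS hb) ha e]

theorem A_le (σ : Bool) : B.A σ ≤ (B.S : Subgroup G) := B.subL_le _ _ _ _

theorem card_A (σ : Bool) : Nat.card (B.A σ) = 64 :=
  (B.card_subL (wL_facts σ).2.1 _ _ _).trans (wL_facts σ).1

theorem sq_A (σ : Bool) : ∀ g ∈ B.A σ, g * g = 1 := by
  rintro g ⟨a, ha, rfl⟩
  rw [← B.T.map_mul a a (wL_inS ha) (wL_inS ha), ((wL_facts σ).2.2.2.2.1 a ha).2, B.T.one]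

theorem z_mem_A (σ : Bool) : B.z ∈ B.A σ := ⟨_, (wL_facts σ).2.2.2.1, B.hz⟩

theorem mem_A_iff {σ : Bool} {x : G} (hx : x ∈ (B.S : Subgroup G)) :
    x ∈ B.A σ ↔ bar B.z x ∈ wSub B.F σ := by
  rw [mem_wSub]
  constructor
  · rintro ⟨a, ha, rfl⟩
    exact ⟨a, ha, (B.lift a (wL_inS ha)).symm⟩
  · rintro ⟨a, ha, e⟩
    exact ⟨a, ha, B.eq_of_bar (B.T.mem (wL_inS ha)) hx ((B.lift a (wL_inS ha)).trans e)⟩

theorem mem_syl_iff {x : Hb B.z} : x ∈ B.F.syl ↔ ∃ a, InS a ∧ bar B.z (B.T.f a) = x :=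
  ⟨fun ⟨a, ha, e⟩ => ⟨a, ha, (B.lift a ha).trans e⟩, fun ⟨a, ha, e⟩ => ⟨a, ha, (B.lift a ha).symm.trans e⟩⟩

theorem bar_mem_syl {s : G} (hs : s ∈ (B.S : Subgroup G)) : bar B.z s ∈ B.F.syl := by
  obtain ⟨a, ha, rfl⟩ := (B.T.mem_iff s).1 hs
  exact B.mem_syl_iff.2 ⟨a, ha, rfl⟩

theorem norm_wSub {x : Hb B.z} (hx : x ∈ B.F.syl) (σ : Bool) :
    x ∈ Subgroup.normalizer (wSub B.F σ : Set (Hb B.z)) := by
  cases σ
  · exact B.F.syl_le_normalizer B.F.w0_data Frame.u_sub0 hx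
  · exact B.F.syl_le_normalizer B.F.w3_data Frame.u_sub3 hx

theorem S_le_normalizer (σ : Bool) : (B.S : Subgroup G) ≤ Subgroup.normalizer (B.A σ : Set G) := by
  intro s hs
  refine Frame.conj_mem_iff_of_le fun x hx => ?_
  have hxS := B.A_le σ hx
  rw [B.mem_A_iff (mul_mem (mul_mem hs hxS) (inv_mem hs)), B.bar_conj (B.comm_z hs) (B.comm_z hxS)]
  exact (Subgroup.mem_normalizer_iff.1 (B.norm_wSub (B.bar_mem_syl hs) σ) _).1 ((B.mem_A_iff hxS).1 hx)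

theorem eq_one_or_z {x : G} (hx : x ∈ (B.S : Subgroup G)) (h : ∀ s ∈ (B.S : Subgroup G), x * s = s * x) :
    x = 1 ∨ x = B.z := by
  rcases B.F.syl_center (B.bar_mem_syl hx) (fun y hy => by
    obtain ⟨a, ha, rfl⟩ := B.mem_syl_iff.1 hy
    rw [← bar_mul (B.comm_z hx) (B.comm_f ha), ← bar_mul (B.comm_f ha) (B.comm_z hx), h _ (B.T.mem ha)]) with e | e
  · exact Or.inl (B.eq_of_bar hx (one_mem _) (e.trans B.bar_one.symm))
  · exact Or.inr (B.eq_of_bar hx B.z_mem e)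

theorem normalizer_S {n : G} (hn : n ∈ Subgroup.normalizer ((B.S : Subgroup G) : Set G)) :
    n * B.z = B.z * n ∧ bar B.z n ∈ B.F.syl := by
  have h1 : n * B.z * n⁻¹ ∈ (B.S : Subgroup G) := (Subgroup.mem_normalizer_iff.1 hn _).1 B.z_mem
  have h2 : ∀ s ∈ (B.S : Subgroup G), n * B.z * n⁻¹ * s = s * (n * B.z * n⁻¹) := by
    intro s hs
    have hs' := B.comm_z ((Subgroup.mem_normalizer_iff''.1 hn s).1 hs)
    calc n * B.z * n⁻¹ * s = n * (B.z * (n⁻¹ * s * n)) * n⁻¹ := by group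
      _ = n * (n⁻¹ * s * n * B.z) * n⁻¹ := by rw [hs']
      _ = s * (n * B.z * n⁻¹) := by group
  have hc : n * B.z = B.z * n := by
    rcases B.eq_one_or_z h1 h2 with h | h
    · exact absurd (conj_eq_one_iff.1 h) B.z_ne
    · exact mul_inv_eq_iff_eq_mul.1 h
  refine ⟨hc, B.F.normalizer_syl (Frame.conj_mem_iff_of_le fun y hy => ?_)⟩
  obtain ⟨a, ha, rfl⟩ := B.mem_syl_iff.1 hy
  rw [← B.bar_conj hc (B.comm_f ha)]
  exact B.bar_mem_syl ((Subgroup.mem_normalizer_iff.1 hn _).1 (B.T.mem ha))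

theorem elem_eq {A' : Subgroup G} (hle : A' ≤ (B.S : Subgroup G)) (hsq : ∀ a ∈ A', a * a = 1)
    (hcard : Nat.card A' = 64) : ∃ σ, A' = B.A σ := by
  have hc : ∀ {x}, x ∈ A' → x * B.z = B.z * x := fun hx => B.comm_z (hle hx)
  let φ : A' →* Hb B.z :=
    { toFun := fun x => bar B.z x
      map_one' := B.bar_one
      map_mul' := fun x y => bar_mul (hc x.2) (hc y.2) }
  have hφ : Function.Injective φ := fun x y h => Subtype.ext (B.eq_of_bar (hle x.2) (hle y.2) h)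
  have hsyl : φ.range ≤ B.F.syl := by
    rintro _ ⟨x, rfl⟩
    exact B.bar_mem_syl (hle x.2)
  have hsq' : ∀ a ∈ φ.range, a * a = 1 := by
    rintro _ ⟨x, rfl⟩
    rw [← map_mul, show x * x = 1 from Subtype.ext (hsq x x.2), map_one]
  have hc' : Nat.card φ.range = 64 := by
    rw [← hcard, MonoidHom.range_eq_map, Subgroup.card_map_of_injective hφ, Subgroup.card_top]
  have key : ∀ σ, φ.range = wSub B.F σ → A' = B.A σ := fun σ e => by
    refine Subgroup.eq_of_le_of_card_ge (fun x hx => ?_) (by rw [hcard, B.card_A])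
    rw [B.mem_A_iff (hle hx), ← e]
    exact ⟨⟨x, hx⟩, rfl⟩
  rcases B.F.elem_eq hsyl hsq' hc' with e | e
  · exact ⟨false, key false e⟩
  · exact ⟨true, key true e⟩

theorem exists_conj_le {P : Subgroup G} (hP : IsPGroup 2 P) :
    ∃ h : G, ∀ p ∈ P, h * p * h⁻¹ ∈ (B.S : Subgroup G) := by
  haveI : Fact (Nat.Prime 2) := ⟨Nat.prime_two⟩
  obtain ⟨Q, hQ⟩ := hP.exists_le_sylow
  obtain ⟨h, e⟩ := MulAction.exists_smul_eq G Q B.S
  refine ⟨h, fun p hp => ?_⟩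
  rw [← e, Sylow.coe_subgroup_smul]
  exact Subgroup.smul_mem_pointwise_smul p (MulAut.conj h) _ (hQ hp)

theorem A_ne : ¬ B.A false ≤ B.A true := by
  intro h
  obtain ⟨a, ha, hne⟩ := List.any_eq_true.1 Mdl.w_ne
  have h3 := (B.f_mem_A (σ := true) (wL_inS (σ := false) ha)).1 (h ⟨a, ha, rfl⟩)
  simp only [Bool.not_eq_true', List.contains_eq_mem, decide_eq_false_iff_not] at hne
  exact hne h3

theorem A_not_conj (h : G) : ¬ ∀ x ∈ B.A false, h * x * h⁻¹ ∈ B.A true := by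
  haveI : Fact (Nat.Prime 2) := ⟨Nat.prime_two⟩
  intro hm
  have hsurj := Frame.map_conj_eq ((B.card_A true).trans (B.card_A false).symm) hm
  have hS0 := B.S_le_normalizer false
  set N := Subgroup.normalizer (B.A true : Set G) with hN
  have hS3 : (B.S : Subgroup G) ≤ N := B.S_le_normalizer true
  have hconj : (B.S : Subgroup G).map (MulAut.conj h).toMonoidHom ≤ N := by
    rintro _ ⟨s, hs, rfl⟩
    refine Frame.conj_mem_iff_of_le fun y hy => ?_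
    obtain ⟨x, hx, rfl⟩ := hsurj y hy
    show h * s * h⁻¹ * (h * x * h⁻¹) * (h * s * h⁻¹)⁻¹ ∈ B.A true
    rw [show h * s * h⁻¹ * (h * x * h⁻¹) * (h * s * h⁻¹)⁻¹ = h * (s * x * s⁻¹) * h⁻¹ by group]
    exact hm _ ((Subgroup.mem_normalizer_iff.1 (hS0 hs) x).1 hx)
  obtain ⟨m, hm'⟩ := MulAction.exists_smul_eq N ((h • B.S).subtype hconj) (B.S.subtype hS3)
  rw [Sylow.smul_subtype hconj m] at hm'
  have e := Sylow.subtype_injective hm'
  have hk : (m : G) * h ∈ Subgroup.normalizer ((B.S : Subgroup G) : Set G) := by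
    refine Frame.conj_mem_iff_of_le fun s hs => ?_
    have : ((m : G) * h) • B.S = B.S := by rw [mul_smul]; exact e
    rw [← this]
    exact ⟨s, hs, rfl⟩
  obtain ⟨hkc, hks⟩ := B.normalizer_S hk
  refine B.A_ne fun x hx => ?_
  obtain ⟨y, hy, rfl⟩ : ∃ y ∈ B.A false, (m : G) * h * y * ((m : G) * h)⁻¹ = x := by
    refine Frame.map_conj_eq rfl (fun y hy => ?_) x hx
    have hyS := B.A_le false hy
    rw [B.mem_A_iff ((Subgroup.mem_normalizer_iff.1 hk y).1 hyS), B.bar_conj hkc (B.comm_z hyS)]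
    exact (Subgroup.mem_normalizer_iff.1 (B.norm_wSub hks false) _).1 ((B.mem_A_iff hyS).1 hy)
  rw [show (m : G) * h * y * ((m : G) * h)⁻¹ = (m : G) * (h * y * h⁻¹) * (m : G)⁻¹ by group]
  exact (Subgroup.mem_normalizer_iff.1 m.2 _).1 (hm y hy)

theorem weakly {σ : Bool} {h : G} (hh : ∀ x ∈ B.A σ, h * x * h⁻¹ ∈ (B.S : Subgroup G)) :
    h ∈ Subgroup.normalizer (B.A σ : Set G) := by
  have hle : (B.A σ).map (MulAut.conj h).toMonoidHom ≤ (B.S : Subgroup G) := by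
    rintro _ ⟨x, hx, rfl⟩
    exact hh x hx
  have hsq : ∀ a ∈ (B.A σ).map (MulAut.conj h).toMonoidHom, a * a = 1 := by
    rintro _ ⟨x, hx, rfl⟩
    rw [← map_mul, B.sq_A σ x hx, map_one]
  obtain ⟨τ, e⟩ := B.elem_eq hle hsq
    ((Subgroup.card_map_of_injective (MulEquiv.injective _)).trans (B.card_A σ))
  have hin : ∀ x ∈ B.A σ, h * x * h⁻¹ ∈ B.A τ := fun x hx => e ▸ ⟨x, hx, rfl⟩
  cases σ <;> cases τ
  · exact Frame.conj_mem_iff_of_le hin
  · exact absurd hin (B.A_not_conj h)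
  · refine absurd (fun y hy => ?_) (B.A_not_conj h⁻¹)
    obtain ⟨x, hx, rfl⟩ := Frame.map_conj_eq ((B.card_A false).trans (B.card_A true).symm) hin y hy
    rw [show h⁻¹ * (h * x * h⁻¹) * h⁻¹⁻¹ = x by group]
    exact hx
  · exact Frame.conj_mem_iff_of_le hin

/-- The normalizer of an elementary subgroup of order 64 controls fusion in it. -/
theorem control {σ : Bool} {u u' g : G} (hu : u ∈ B.A σ) (hu' : u' ∈ B.A σ) (hg : g * u * g⁻¹ = u') :
    ∃ n ∈ Subgroup.normalizer (B.A σ : Set G), n * u * n⁻¹ = u' := by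
  haveI : Fact (Nat.Prime 2) := ⟨Nat.prime_two⟩
  have hsq := B.sq_A σ
  set N := Subgroup.centralizer ({u'} : Set G) with hN
  have h1 : B.A σ ≤ N := fun x hx => Subgroup.mem_centralizer_singleton_iff.2 (Frame.comm_of_sq hsq hx hu')
  have h2 : (B.A σ).map (MulAut.conj g).toMonoidHom ≤ N := by
    rintro _ ⟨x, hx, rfl⟩
    refine Subgroup.mem_centralizer_singleton_iff.2 ?_
    rw [← hg]
    show g * x * g⁻¹ * (g * u * g⁻¹) = g * u * g⁻¹ * (g * x * g⁻¹)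
    calc g * x * g⁻¹ * (g * u * g⁻¹) = g * (x * u) * g⁻¹ := by group
      _ = g * (u * x) * g⁻¹ := by rw [Frame.comm_of_sq hsq hx hu]
      _ = _ := by group
  have hp : IsPGroup 2 (B.A σ) := B.S.isPGroup'.to_le (B.A_le σ)
  obtain ⟨T1, hT1⟩ := (hp.of_equiv (Subgroup.subgroupOfEquivOfLe h1).symm).exists_le_sylow
  obtain ⟨T2, hT2⟩ := ((hp.map (MulAut.conj g).toMonoidHom).of_equiv
    (Subgroup.subgroupOfEquivOfLe h2).symm).exists_le_sylow
  obtain ⟨c, hc⟩ := MulAction.exists_smul_eq N T2 T1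
  obtain ⟨h, hh⟩ := B.exists_conj_le (T1.isPGroup'.map N.subtype)
  have hA : h ∈ Subgroup.normalizer (B.A σ : Set G) :=
    B.weakly fun x hx => hh x ⟨⟨x, h1 hx⟩, hT1 (show (⟨x, h1 hx⟩ : N) ∈ (B.A σ).subgroupOf N from hx), rfl⟩
  have hB : h * ((c : G) * g) ∈ Subgroup.normalizer (B.A σ : Set G) := by
    refine B.weakly fun x hx => ?_
    have hx2 : g * x * g⁻¹ ∈ N := h2 ⟨x, hx, rfl⟩
    have hm : c * (⟨g * x * g⁻¹, hx2⟩ : N) * c⁻¹ ∈ (T1 : Subgroup N) := by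
      rw [← hc, Sylow.coe_subgroup_smul]
      exact Subgroup.smul_mem_pointwise_smul (⟨g * x * g⁻¹, hx2⟩ : N) (MulAut.conj c) _
        (hT2 (show (⟨g * x * g⁻¹, hx2⟩ : N) ∈ ((B.A σ).map _).subgroupOf N from ⟨x, hx, rfl⟩))
    rw [show h * ((c : G) * g) * x * (h * ((c : G) * g))⁻¹ =
      h * ((c : G) * (g * x * g⁻¹) * (c : G)⁻¹) * h⁻¹ by group]
    exact hh _ ⟨_, hm, rfl⟩
  refine ⟨(c : G) * g, ?_, ?_⟩
  · have := mul_mem (inv_mem hA) hB
    rwa [inv_mul_cancel_left] at this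
  · have hcu := Subgroup.mem_centralizer_singleton_iff.1 c.2
    calc (c : G) * g * u * ((c : G) * g)⁻¹ = (c : G) * (g * u * g⁻¹) * (c : G)⁻¹ := by group
      _ = u' := by rw [hg, hcu, mul_inv_cancel_right]

/-- An element centralizing `x` can be moved so that a given 2-subgroup of its centralizer lies in `S`. -/
theorem exists_move {x g : G} (hg : g * B.z * g⁻¹ = x) :
    ∃ k, k * x * k⁻¹ = B.z ∧
      ∀ s ∈ (B.S : Subgroup G), s * x = x * s → k * s * k⁻¹ ∈ (B.S : Subgroup G) := by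
  haveI : Fact (Nat.Prime 2) := ⟨Nat.prime_two⟩
  set N := Subgroup.centralizer ({x} : Set G) with hN
  have hgS : ((g • B.S : Sylow 2 G) : Subgroup G) ≤ N := by
    rintro _ ⟨s, hs, rfl⟩
    refine Subgroup.mem_centralizer_singleton_iff.2 ?_
    show g * s * g⁻¹ * x = x * (g * s * g⁻¹)
    rw [← hg, show g * s * g⁻¹ * (g * B.z * g⁻¹) = g * (s * B.z) * g⁻¹ by group, B.comm_z hs]
    group
  obtain ⟨Q, hQ⟩ := ((B.S.isPGroup'.to_le (inf_le_left : (B.S : Subgroup G) ⊓ N ≤ _)).of_equiv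
    (Subgroup.subgroupOfEquivOfLe inf_le_right).symm).exists_le_sylow
  obtain ⟨c, hc⟩ := MulAction.exists_smul_eq N Q ((g • B.S : Sylow 2 G).subtype hgS)
  have hcx := Subgroup.mem_centralizer_singleton_iff.1 c.2
  refine ⟨g⁻¹ * (c : G), ?_, fun s hs hsx => ?_⟩
  · rw [show g⁻¹ * (c : G) * x * (g⁻¹ * (c : G))⁻¹ = g⁻¹ * ((c : G) * x * (c : G)⁻¹) * g by group, hcx,
      mul_inv_cancel_right, ← hg]
    group
  · have hsN : s ∈ N := Subgroup.mem_centralizer_singleton_iff.2 hsx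
    have hm : c * (⟨s, hsN⟩ : N) * c⁻¹ ∈ (((g • B.S : Sylow 2 G).subtype hgS : Sylow 2 N) : Subgroup N) := by
      rw [← hc]
      exact ⟨_, hQ (Subgroup.mem_subgroupOf.2 ⟨hs, hsN⟩), rfl⟩
    obtain ⟨r, hr, e⟩ := (Subgroup.mem_subgroupOf.1 hm :
      (c : G) * s * (c : G)⁻¹ ∈ ((g • B.S : Sylow 2 G) : Subgroup G))
    have e' : g * r * g⁻¹ = (c : G) * s * (c : G)⁻¹ := e
    rw [show g⁻¹ * (c : G) * s * (g⁻¹ * (c : G))⁻¹ = g⁻¹ * ((c : G) * s * (c : G)⁻¹) * g by group, ← e',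
      show g⁻¹ * (g * r * g⁻¹) * g = r by group]
    exact hr

end Base

end CfsgLib.L5Type
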