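import Cfsg.Agent.L5Type.SylFacts

/-!
A triple commutator centralizing an involution is trivial or central, or the involution is in the
group it spans with the centre.
-/

set_option autoImplicit false
set_option maxRecDepth 100000
set_option linter.unusedSectionVars false

namespace CfsgLib.L5Type

open CfsgLib.HeldUniq

section Algebra

variable {G : Type*} [Group G]

theorem conj_mem_closure {A : Set G} {D : Subgroup G} [Finite G]
    (hA : ∀ a ∈ A, ∀ d ∈ D, a * d * a⁻¹ ∈ D) :
    Subgroup.closure A ≤ Subgroup.normalizer (D : Set G) :=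
  (Subgroup.closure_le _).2 fun a ha => HeldUniq.Frame.conj_mem_iff_of_le (hA a ha)

/-- Commutators of generated subgroups lie in a normalised subgroup containing those of generators. -/
theorem comm_mem_closure [Finite G] {A B : Set G} {D : Subgroup G}
    (h : ∀ a ∈ A, ∀ b ∈ B, a * b * a⁻¹ * b⁻¹ ∈ D) (hA : ∀ a ∈ A, ∀ d ∈ D, a * d * a⁻¹ ∈ D)
    (hB : ∀ b ∈ B, ∀ d ∈ D, b * d * b⁻¹ ∈ D) {x y : G} (hx : x ∈ Subgroup.closure A)
    (hy : y ∈ Subgroup.closure B) : x * y * x⁻¹ * y⁻¹ ∈ D := by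
  have hnA := conj_mem_closure hA
  have hnB := conj_mem_closure hB
  have step1 : ∀ b ∈ B, ∀ x ∈ Subgroup.closure A, x * b * x⁻¹ * b⁻¹ ∈ D := by
    intro b hb x hx
    induction hx using Subgroup.closure_induction with
    | mem a ha => exact h a ha b hb
    | one => simp
    | mul u v hu hv ihu ihv =>
      rw [show u * v * b * (u * v)⁻¹ * b⁻¹ = u * (v * b * v⁻¹ * b⁻¹) * u⁻¹ * (u * b * u⁻¹ * b⁻¹) by group]
      exact mul_mem ((Subgroup.mem_normalizer_iff.1 (hnA hu) _).1 ihv) ihu
    | inv u hu ihu =>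
      rw [show u⁻¹ * b * u⁻¹⁻¹ * b⁻¹ = u⁻¹ * (u * b * u⁻¹ * b⁻¹)⁻¹ * u⁻¹⁻¹ by group]
      exact (Subgroup.mem_normalizer_iff.1 (inv_mem (hnA hu)) _).1 (inv_mem ihu)
  induction hy using Subgroup.closure_induction with
  | mem b hb => exact step1 b hb x hx
  | one => simp
  | mul u v hu hv ihu ihv =>
    rw [show x * (u * v) * x⁻¹ * (u * v)⁻¹ = x * u * x⁻¹ * u⁻¹ * (u * (x * v * x⁻¹ * v⁻¹) * u⁻¹) by group]
    exact mul_mem ihu ((Subgroup.mem_normalizer_iff.1 (hnB hu) _).1 ihv)
  | inv u hu ihu =>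
    rw [show x * u⁻¹ * x⁻¹ * u⁻¹⁻¹ = u⁻¹ * (x * u * x⁻¹ * u⁻¹)⁻¹ * u⁻¹⁻¹ by group]
    exact (Subgroup.mem_normalizer_iff.1 (inv_mem (hnB hu)) _).1 (inv_mem ihu)

end Algebra

namespace Tab

variable {G : Type*} [Group G] {S : Subgroup G} (T : Tab S)

/-- The subgroup generated by some codes. -/
def gen (L : List Nat) : Subgroup G := Subgroup.closure {x | ∃ a ∈ L, T.f a = x}

theorem prods_mem_gen {L : List Nat} (h : ∀ a ∈ L, InS a) : ∀ a ∈ prodsL L, T.f a ∈ T.gen L := by
  induction L with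
  | nil => intro a ha; rw [prodsL, List.mem_singleton] at ha; rw [ha, T.one]; exact one_mem _
  | cons g L ih =>
    intro a ha
    have ih' := ih fun b hb => h b (List.mem_cons_of_mem _ hb)
    have hle : T.gen L ≤ T.gen (g :: L) := Subgroup.closure_mono fun x ⟨b, hb, e⟩ =>
      ⟨b, List.mem_cons_of_mem _ hb, e⟩
    rw [prodsL, step, List.mem_append, List.mem_map] at ha
    rcases ha with ha | ⟨b, hb, rfl⟩
    · exact hle (ih' a ha)
    · rw [T.map_mul _ _ (h g List.mem_cons_self) (prodsL_inS (fun c hc => h c (List.mem_cons_of_mem _ hc)) b hb)]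
      exact mul_mem (Subgroup.subset_closure ⟨g, List.mem_cons_self, rfl⟩) (hle (ih' b hb))

theorem f_comm {a b : Nat} (ha : InS a) (hb : InS b) :
    T.f (commC a b) = T.f a * T.f b * (T.f a)⁻¹ * (T.f b)⁻¹ := by
  rw [commC, T.map_mul _ _ ((ha.mul hb).mul ha.inv) hb.inv, T.map_mul _ _ (ha.mul hb) ha.inv,
    T.map_mul _ _ ha hb, T.inv ha, T.inv hb]

variable [Finite G]

theorem conj_gen {L : List Nat} {g : Nat} (hL : ∀ a ∈ L, InS a) (hg : InS g)
    (h : ∀ a ∈ L, Mdl.conjN g a ∈ prodsL L) : ∀ d ∈ T.gen L, T.f g * d * (T.f g)⁻¹ ∈ T.gen L := by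
  intro d hd
  have hle : (T.gen L).map (MulAut.conj (T.f g)).toMonoidHom ≤ T.gen L := by
    rw [gen, MonoidHom.map_closure, Subgroup.closure_le]
    rintro _ ⟨_, ⟨a, ha, rfl⟩, rfl⟩
    show T.f g * T.f a * (T.f g)⁻¹ ∈ T.gen L
    rw [T.conj hg (hL a ha)]
    exact T.prods_mem_gen hL _ (h a ha)
  exact hle ⟨d, hd, rfl⟩

/-- Triple commutators of a member of the list. -/
theorem triple_mem {k : Nat} (hk : k < 6) {a b c : G} (ha : a ∈ T.gen (gensOf k))
    (hb : b ∈ T.gen (gensOf k)) (hc : c ∈ T.gen (gensOf k)) :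
    a * b * a⁻¹ * b⁻¹ * c * (a * b * a⁻¹ * b⁻¹)⁻¹ * c⁻¹ ∈ T.gen (eGensOf k) := by
  obtain ⟨hin, hdg, hgg, hgd, hdgc, hge⟩ := gens_facts hk
  have ig : ∀ x ∈ gensOf k, InS x := fun x hx => hin x (by simp [hx])
  have id' : ∀ x ∈ dGensOf k, InS x := fun x hx => hin x (by simp [hx])
  have ie : ∀ x ∈ eGensOf k, InS x := fun x hx => hin x (by simp [hx])
  have h1 : a * b * a⁻¹ * b⁻¹ ∈ T.gen (dGensOf k) := by
    refine comm_mem_closure ?_ ?_ ?_ ha hb
    · rintro _ ⟨g, hg, rfl⟩ _ ⟨h, hh, rfl⟩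
      rw [← T.f_comm (ig g hg) (ig h hh)]
      exact T.prods_mem_gen id' _ (hgg g hg h hh)
    all_goals
      rintro _ ⟨g, hg, rfl⟩
      exact T.conj_gen id' (ig g hg) (hgd g hg)
  have hnE : T.gen (gensOf k) ≤ Subgroup.normalizer (T.gen (eGensOf k) : Set G) :=
    conj_mem_closure fun x hx d hd => by
      obtain ⟨g, hg, rfl⟩ := hx
      exact T.conj_gen ie (ig g hg) (hge g hg) d hd
  refine comm_mem_closure ?_ ?_ ?_ h1 hc
  · rintro _ ⟨d, hd, rfl⟩ _ ⟨g, hg, rfl⟩
    rw [← T.f_comm (id' d hd) (ig g hg)]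
    exact T.prods_mem_gen ie _ (hdgc d hd g hg)
  · rintro _ ⟨d, hd, rfl⟩ e he
    exact (Subgroup.mem_normalizer_iff.1 (hnE (T.prods_mem_gen ig d (hdg d hd))) e).1 he
  · rintro _ ⟨g, hg, rfl⟩
    exact T.conj_gen ie (ig g hg) (hge g hg)

theorem gen_to_list {L W : List Nat} (hW : ∀ a ∈ W, InS a) (h1 : Mdl.one ∈ W) (hL : ∀ a ∈ L, a ∈ W)
    (hc : ∀ a ∈ W, ∀ b ∈ W, Mdl.mulN a b ∈ W) {x : G} (hx : x ∈ T.gen L) :
    ∃ a ∈ W, T.f a = x := by
  let X : Set G := {g | ∃ a ∈ W, T.f a = g}
  have hX1 : (1 : G) ∈ X := ⟨_, h1, T.one⟩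
  let K : Subgroup G := Frame.ofClosed X hX1 fun g hg k hk => by
    obtain ⟨a, ha, rfl⟩ := hg
    obtain ⟨b, hb, rfl⟩ := hk
    exact ⟨_, hc a ha b hb, T.map_mul a b (hW a ha) (hW b hb)⟩
  refine (Subgroup.closure_le K).2 ?_ hx
  rintro g ⟨a, ha, e⟩
  exact ⟨a, hL a ha, e⟩

end Tab

theorem small_lists : (∀ a ∈ eGensOf 0, a ∈ omega) ∧ (∀ a ∈ omega, ∀ b ∈ omega, Mdl.mulN a b ∈ omega) ∧
    (∀ k < 5, ∀ a ∈ eGensOf (k + 1), a ∈ [Mdl.one, Mdl.tN]) ∧
    (∀ a ∈ [Mdl.one, Mdl.tN], ∀ b ∈ [Mdl.one, Mdl.tN], Mdl.mulN a b ∈ [Mdl.one, Mdl.tN]) ∧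
    Mdl.one ∈ omega := by decide +kernel

theorem omega_inS {w : Nat} (hw : w ∈ omega) : InS w := by
  have h := List.all_eq_true.1 omega_comm w hw
  simp only [Bool.and_eq_true, inSB_iff] at h
  exact h.1

theorem omega_commN {w a : Nat} (hw : w ∈ omega) (ha : InS a) :
    Mdl.commN a w = true ↔ form (omMask w) a = 0 := by
  have h := List.all_eq_true.1 omega_comm w hw
  simp only [Bool.and_eq_true, List.all_eq_true, beq_iff_eq] at h
  rw [h.2 a ((mem_sylL a).2 ha), Nat.beq_eq]

namespace Tab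

variable {G : Type*} [Group G] [Finite G] {S : Subgroup G} (T : Tab S)

theorem mem_gen_of {k a : Nat} (hk : k < 5) (ha : InS a) (h : inM k a = true) :
    T.f a ∈ T.gen (gensOf (k + 1)) := by
  obtain ⟨hin, -⟩ := gens_facts (k := k + 1) (by omega)
  have ig : ∀ x ∈ gensOf (k + 1), InS x := fun x hx => hin x (by simp [hx])
  exact T.prods_mem_gen ig _ (mem_prods_of_mask (prodsL_inS ig)
    (Nat.eq_of_beq_eq_true (List.all_eq_true.1 cover_mask k (List.mem_range.2 hk))) ha
    (List.mem_filter.2 ⟨(mem_sylL a).2 ha, h⟩))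

include T in
/-- Every triple commutator lies in `omega`. -/
theorem triple_omega {a b c : Nat} (ha : InS a) (hb : InS b) (hc : InS c) :
    commC (commC a b) c ∈ omega := by
  obtain ⟨hin, -⟩ := gens_facts (k := 0) (by omega)
  have ig : ∀ x ∈ gensOf 0, InS x := fun x hx => hin x (by simp [hx])
  have hm : ∀ {x}, InS x → T.f x ∈ T.gen (gensOf 0) := fun {x} hx =>
    T.prods_mem_gen ig _ (mem_prods_of_mask (prodsL_inS ig) (Nat.eq_of_beq_eq_true whole_mask) hx
      ((mem_sylL x).2 hx))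
  have h := T.triple_mem (k := 0) (by omega) (hm ha) (hm hb) (hm hc)
  have hab : InS (commC a b) := ((ha.mul hb).mul ha.inv).mul hb.inv
  have habc : InS (commC (commC a b) c) := ((hab.mul hc).mul hab.inv).mul hc.inv
  rw [← T.f_comm ha hb, ← T.f_comm hab hc] at h
  obtain ⟨e, he, hfe⟩ := T.gen_to_list (fun x hx => omega_inS hx) small_lists.2.2.2.2
    small_lists.1 small_lists.2.1 h
  exact T.inj _ _ (omega_inS he) habc hfe ▸ he

include T in
/-- In one of the five subgroups triple commutators are central. -/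
theorem triple_small {k a b c : Nat} (hk : k < 5) (ha : InS a) (hb : InS b) (hc : InS c)
    (ma : inM k a = true) (mb : inM k b = true) (mc : inM k c = true) :
    commC (commC a b) c = Mdl.one ∨ commC (commC a b) c = Mdl.tN := by
  have h := T.triple_mem (k := k + 1) (by omega) (T.mem_gen_of hk ha ma) (T.mem_gen_of hk hb mb)
    (T.mem_gen_of hk hc mc)
  have hab : InS (commC a b) := ((ha.mul hb).mul ha.inv).mul hb.inv
  have habc : InS (commC (commC a b) c) := ((hab.mul hc).mul hab.inv).mul hc.inv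
  rw [← T.f_comm ha hb, ← T.f_comm hab hc] at h
  have h01 : ∀ x ∈ [Mdl.one, Mdl.tN], InS x := by
    intro x hx
    simp only [List.mem_cons, List.not_mem_nil, or_false] at hx
    rcases hx with rfl | rfl
    exacts [InS.one, InS.tN]
  obtain ⟨e, he, hfe⟩ := T.gen_to_list h01 List.mem_cons_self (small_lists.2.2.1 k hk)
    small_lists.2.2.2.1 h
  rw [← T.inj _ _ (h01 e he) habc hfe]
  simpa using he

include T in
/-- An involution centralizing three elements whose triple commutator `w` is not central, and `w`,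
lies in the group spanned by `w` and the centre. -/
theorem invol_of_triple {y a b c : Nat} (hy : InS y) (hyy : Mdl.mulN y y = Mdl.one) (hy1 : y ≠ Mdl.one)
    (ha : InS a) (hb : InS b) (hc : InS c) {w : Nat} (hw : commC (commC a b) c = w)
    (hw1 : w ≠ Mdl.one) (hwt : w ≠ Mdl.tN)
    (hay : Mdl.commN a y = true) (hby : Mdl.commN b y = true) (hcy : Mdl.commN c y = true)
    (haw : Mdl.commN a w = true) (hbw : Mdl.commN b w = true) (hcw : Mdl.commN c w = true) :
    y = Mdl.tN ∨ y = w ∨ y = Mdl.mulN w Mdl.tN := by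
  have hom := hw ▸ T.triple_omega ha hb hc
  have kill : ∀ k < 5, inM k a = true → inM k b = true → inM k c = true → False := fun k hk h1 h2 h3 => by
    rcases T.triple_small hk ha hb hc h1 h2 h3 with e | e <;> rw [hw] at e <;> contradiction
  by_cases hyt : y = Mdl.tN
  · exact Or.inl hyt
  by_cases hyo : y ∈ omega
  · have h := List.all_eq_true.1 (List.all_eq_true.1 omega_pairs w hom) y hyo
    simp only [Bool.or_eq_true, Nat.beq_eq, Bool.not_eq_true'] at h
    rcases h with ((((((h | h) | h) | h) | h) | h) | h)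
    · exact absurd h hy1
    · exact Or.inl h
    · exact absurd h hw1
    · exact absurd h hwt
    · exact Or.inr (Or.inl h)
    · exact Or.inr (Or.inr h)
    · refine (kill 0 (by omega) ?_ ?_ ?_).elim
      all_goals
        have key : ∀ x, InS x → Mdl.commN x y = true → Mdl.commN x w = true → inM 0 x = true := by
          intro x hx h1 h2
          have hfy := (omega_commN hyo hx).1 h1
          have hfw := (omega_commN hom hx).1 h2
          rcases omega_mask_cases w hom with e | e | e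
          · exact absurd e hw1
          · exact absurd e hwt
          rcases omega_mask_cases y hyo with e' | e' | e'
          · exact absurd e' hy1
          · exact absurd e' hyt
          have hh := List.all_eq_true.1 (List.all_eq_true.1 (List.all_eq_true.1 omega_forms (phi x)
            (List.mem_range.2 (phi_lt x))) _ e) _ e'
          rw [form] at hfy hfw
          simp only [Bool.or_eq_true, Bool.not_eq_true', hfy, hfw, h, Bool.false_eq_true, false_or,
            Bool.and_eq_true, Nat.beq_refl, Bool.true_eq_false] at hh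
          rw [inM, cover_first, Bool.and_eq_true]
          exact hh
      exacts [key a ha hay haw, key b hb hby hbw, key c hc hcy hcw]
  · have hcov := List.all_eq_true.1 invTab_cover y ((mem_sylL y).2 hy)
    simp only [hyy, Bool.or_eq_true, Bool.not_eq_true', Nat.beq_refl, Bool.true_eq_false, false_or,
      Nat.beq_eq, hy1, List.any_eq_true] at hcov
    obtain ⟨x, hx, rfl⟩ := hcov
    have h := List.all_eq_true.1 invTab_chk x hx
    simp only [Bool.and_eq_true, inSB_iff, Nat.beq_eq, Bool.or_eq_true, List.contains_iff_mem,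
      List.any_eq_true] at h
    obtain ⟨⟨⟨hr, hn⟩, he⟩, h⟩ := h
    rcases h with (⟨h1, h2⟩ | h) | ⟨r, hr', e⟩
    · exact absurd (h2 ▸ h1) hyo
    · exact absurd h hyo
    have hk := List.all_eq_true.1 coverReps_chk r hr'
    simp only [Bool.and_eq_true, Nat.blt_eq, List.all_eq_true] at hk
    refine (kill r.2 hk.1.2 ?_ ?_ ?_).elim
    all_goals
      have key : ∀ z, InS z → Mdl.commN z x.1 = true → inM r.2 z = true := by
        intro z hz h1
        have hnz : InS (Mdl.conjN (Mdl.invN x.2.2) z) := (hn.inv.mul hz).mul hn.inv.inv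
        have hcz : Mdl.commN (Mdl.conjN (Mdl.invN x.2.2) z) r.1 = true := by
          have hcm := (T.commN_iff hz hy).1 h1
          rw [e, T.commN_iff hnz hr, ← T.conj hn.inv hz, T.inv hn]
          rw [← he, ← T.conj hn hr] at hcm
          set N := T.f x.2.2
          set R := T.f x.2.1
          set Z := T.f z
          calc N⁻¹ * Z * N⁻¹⁻¹ * R = N⁻¹ * (Z * (N * R * N⁻¹)) * N := by group
            _ = N⁻¹ * (N * R * N⁻¹ * Z) * N := by rw [hcm]
            _ = R * (N⁻¹ * Z * N⁻¹⁻¹) := by group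
        have := hk.2 _ ((mem_sylL _).2 hnz)
        simp only [hcz, Bool.not_true, Bool.false_or] at this
        rwa [inM_conj hk.1.2 hn.inv hz] at this
    exacts [key a ha hay, key b hb hby, key c hc hcy]

end Tab

end CfsgLib.L5Type
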