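import Cfsg.Agent.L5Type.Side
import Cfsg.Agent.L5Type.Coords
import Cfsg.Agent.HeldU.Frame.ToModel
import Cfsg.Agent.GWApps.Tools

/-!
A core-free group with central centre of a Sylow subgroup of this type moving both lines is the model.
-/

set_option autoImplicit false
set_option maxRecDepth 100000
set_option linter.unusedSectionVars false
set_option linter.style.haveILetI false

namespace CfsgLib.L5Type

open CfsgLib.HeldUniq

/-- The outer element and the lines of the two moves. -/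
def mvU (σ : Bool) : Nat := cond σ 17926273 17926304

theorem mv_chk : ∀ σ : Bool, inSB (mvU σ) = true ∧ Mdl.commN (mvU σ) (iC (fixV σ)) = false ∧
    Mdl.mulN (iC (fixV σ)) (iC (fixV σ)) = Mdl.one ∧ iC (fixV σ) ≠ Mdl.one := by decide +kernel

theorem iC_centre : ∀ v, (∀ w, Mdl.mulN (iC v) (iC w) = Mdl.mulN (iC w) (iC v)) → v = 0 := by
  decide +kernel

theorem iC_zero_eq : iC 0 = Mdl.one ∧ Mdl.mulN (rC 4) (rC 4) = Mdl.one ∧
    9 ≤ ((List.range 128).countP fun q => Nat.beq (Mdl.mulN (Mdl.mulN (Mdl.atPair (Mdl.mone, Mdl.mone) q) (rC 4))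
      (Mdl.mulN (Mdl.atPair (Mdl.mone, Mdl.mone) q) (rC 4))) Mdl.one) := by decide +kernel

theorem q_inS : ∀ q, q < 128 → inSB (Mdl.atPair (Mdl.mone, Mdl.mone) q) = true ∧
    Mdl.gOf (Mdl.atPair (Mdl.mone, Mdl.mone) q) = Mdl.mone ∧ (Mdl.atPair (Mdl.mone, Mdl.mone) q) % 128 = q := by
  decide +kernel

theorem twisted_few : (HeldC.invols.all fun h => decide (h = HeldC.mid) ||
    decide (HeldC.allZ.countP (fun z => decide (HeldC.sqTw z h = HeldC.z0)) ≤ 8)) = true := by
  decide +kernel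

theorem allZ_mem : ∀ z : HeldC.Z, z ∈ HeldC.allZ := by decide +kernel

universe u

theorem exists_frame_local {C : Type u} [Group C] [Finite C] {t : C} (S : Sylow 2 C)
    (T : Tab (S : Subgroup C)) (ht : T.f Mdl.tN = t) (hcen : ∀ c, t * c = c * t)
    (hO : Cfsg.oddCore C = ⊥)
    (hm : ∀ σ, ∃ g, g * T.f (mvU σ) * g⁻¹ * T.f (iC (fixV σ)) = T.f (iC (fixV σ)) * (g * T.f (mvU σ) * g⁻¹)) :
    ∃ F : HeldC.Frame C, F.t = t ∧ ¬ F.Twisted := by
  classical
  haveI : Fact (Nat.Prime 2) := ⟨Nat.prime_two⟩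
  have ht2 : orderOf t = 2 := orderOf_eq_prime (by rw [sq, ← ht]; exact T.tN_sq) (ht ▸ T.tN_ne)
  set Z := Subgroup.zpowers t with hZ
  have hZmem : ∀ x ∈ Z, x = 1 ∨ x = t := by
    intro x hx
    obtain ⟨k, rfl⟩ := Subgroup.mem_zpowers_iff.1 hx
    have htt : t * t = 1 := by rw [← ht]; exact T.tN_sq
    rcases Int.even_or_odd' k with ⟨j, rfl | rfl⟩
    · left; rw [zpow_mul, zpow_two, htt, one_zpow]
    · right; rw [zpow_add, zpow_mul, zpow_two, htt, one_zpow, one_mul, zpow_one]
  haveI hZn : Z.Normal := ⟨fun x hx g => by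
    rcases hZmem x hx with rfl | rfl
    · simp
    · rw [← hcen, mul_inv_cancel_right]; exact Subgroup.mem_zpowers _⟩
  have hZ2 : Nat.card Z = 2 := (Nat.card_zpowers t).trans ht2
  set π := QuotientGroup.mk' Z with hπ
  have hπs : Function.Surjective π := QuotientGroup.mk'_surjective Z
  have hπt : π t = 1 := (QuotientGroup.eq_one_iff t).2 (Subgroup.mem_zpowers t)
  have hπeq : ∀ a b, π a = π b → a = b ∨ a = b * t := by
    intro a b h
    have h' : b⁻¹ * a ∈ Z := by
      have := QuotientGroup.eq.1 (show (QuotientGroup.mk b : C ⧸ Z) = QuotientGroup.mk a from h.symm)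
      exact this
    rcases hZmem _ h' with e | e
    · exact Or.inl (inv_mul_eq_one.1 e).symm
    · exact Or.inr (by rw [← e, mul_inv_cancel_left])
  have hI : ∀ v, InS (iC v) := fun v => (inSB_iff _).1 (iC_ok v)
  have hR : ∀ x, InS (rC x) := fun x => (inSB_iff _).1 (rC_ok x)
  have heqZ : ∀ a b, InS a → InS b → eqZ a b = true → π (T.f a) = π (T.f b) := by
    intro a b ha hb h
    simp only [eqZ, Bool.or_eq_true, Nat.beq_eq] at h
    rcases h with rfl | rfl
    · rfl
    · rw [T.map_mul b _ hb InS.tN, _root_.map_mul, ht, hπt, mul_one]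
  have heqZ' : ∀ a b, InS a → InS b → π (T.f a) = π (T.f b) → eqZ a b = true := by
    intro a b ha hb h
    simp only [eqZ, Bool.or_eq_true, Nat.beq_eq]
    rcases hπeq _ _ h with e | e
    · exact Or.inl (T.inj a b ha hb e)
    · rw [← ht, ← T.map_mul b _ hb InS.tN] at e
      exact Or.inr (T.inj a _ ha (hb.mul InS.tN) e)
  let F0 : M24Type.Frame (C ⧸ Z) :=
    { ι := fun v => π (T.f (iC v))
      ρ := fun x => π (T.f (rC x))
      ι_mul := fun v w => by
        rw [← _root_.map_mul, ← T.map_mul _ _ (hI v) (hI w)]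
        exact heqZ _ _ ((hI v).mul (hI w)) (hI _) (iC_mul v w)
      ρ_mul := fun x y => by
        rw [← _root_.map_mul, ← T.map_mul _ _ (hR x) (hR y)]
        exact heqZ _ _ ((hR x).mul (hR y)) (hR _) (rC_mul x y)
      ρ_ι := fun x v => by
        rw [← _root_.map_mul, ← _root_.map_mul, ← T.map_mul _ _ (hR x) (hI v), ← T.map_mul _ _ (hI _) (hR x)]
        exact heqZ _ _ ((hR x).mul (hI v)) ((hI _).mul (hR x)) (rC_iC x v)
      ι_inj := fun v w h => iC_inj v w (heqZ' _ _ (hI v) (hI w) h)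
      ρ_notMem := fun x hx v h => by
        have := heqZ' _ _ (hR x) (hI v) h
        rw [rC_notMem x hx v] at this
        exact Bool.noConfusion this }
  have hcode : ∀ a, InS a → π (T.f a) = F0.ι (vCode a) * F0.ρ (xCode a) := by
    intro a ha
    show _ = π (T.f (iC _)) * π (T.f (rC _))
    rw [← _root_.map_mul, ← T.map_mul _ _ (hI _) (hR _)]
    exact heqZ _ _ ha ((hI _).mul (hR _)) (List.all_eq_true.1 code_nf a ((mem_sylL a).2 ha))
  have hFS : F0.S = (S : Subgroup C).map π := by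
    ext g
    constructor
    · rintro ⟨v, x, rfl⟩
      exact ⟨T.f (iC v) * T.f (rC x), mul_mem (T.mem (hI v)) (T.mem (hR x)), _root_.map_mul π _ _⟩
    · rintro ⟨y, hy, rfl⟩
      obtain ⟨a, ha, rfl⟩ := (T.mem_iff y).1 hy
      exact ⟨_, _, hcode a ha⟩
  have hZS : Z ≤ (S : Subgroup C) := by rw [hZ, Subgroup.zpowers_le, ← ht]; exact T.mem InS.tN
  let S' : Sylow 2 (C ⧸ Z) := (S.isPGroup'.map π).toSylow (by
    rw [Subgroup.index_map_eq _ hπs (by rw [hπ, QuotientGroup.ker_mk']; exact hZS)]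
    exact S.not_dvd_index)
  let Cx : M24Type.Ctx (C ⧸ Z) :=
    { F0 with
      T := S'
      hT := hFS
      uniq := fun B hB hc h64 => frame_unique F0 B (hFS.symm ▸ hB) hc h64 }
  have hO' : Cfsg.oddCore (C ⧸ Z) = ⊥ := GWApps.oddCore_quotient_central hZ2 hO
  let D : Sq (C ⧸ Z) :=
    { C := Cx
      normal := Cx.normal_A hO'
      core := hO'
      moved := fun σ => by
        obtain ⟨g, hg⟩ := hm σ
        obtain ⟨hu, hup, -, -⟩ := mv_chk σ
        refine ⟨π g⁻¹, fun e => ?_⟩
        have e' : π (g⁻¹ * T.f (iC (fixV σ)) * g) = π (T.f (iC (fixV σ))) := by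
          rw [_root_.map_inv, inv_inv] at e
          rw [_root_.map_mul, _root_.map_mul, _root_.map_inv]; exact e
        set u := T.f (mvU σ)
        set p := T.f (iC (fixV σ))
        have h1 : u * (g⁻¹ * p * g) = g⁻¹ * p * g * u := by
          calc u * (g⁻¹ * p * g) = g⁻¹ * (g * u * g⁻¹ * p) * g := by group
            _ = g⁻¹ * (p * (g * u * g⁻¹)) * g := by rw [hg]
            _ = _ := by group
        have h2 : u * p = p * u := by
          rcases hπeq _ _ e' with q | q <;> rw [q] at h1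
          · exact h1
          · rw [← mul_assoc, mul_assoc p t u, hcen u, ← mul_assoc] at h1
            exact mul_right_cancel h1
        rw [(T.commN_iff ((inSB_iff _).1 hu) (hI _)).2 h2] at hup
        exact Bool.noConfusion hup }
  obtain ⟨V⟩ := D.exists_halves
  haveI := D.normal
  -- the pieces
  let E : Bool → Subgroup C := fun σ => (V.half σ).comap π
  set Q : Subgroup C := D.C.A.comap π with hQ
  have hcard : ∀ K : Subgroup (C ⧸ Z), Nat.card (K.comap π) = 2 * Nat.card K := by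
    intro K
    have h1 := (K.comap π).card_mul_index
    have h2 := K.card_mul_index
    rw [Subgroup.index_comap_of_surjective _ hπs, Subgroup.card_eq_card_quotient_mul_card_subgroup Z, hZ2,
      ← h2, mul_assoc, mul_comm K.index, ← mul_assoc, mul_comm (Nat.card K) 2] at h1
    exact Nat.eq_of_mul_eq_mul_right (Nat.pos_of_ne_zero Subgroup.index_ne_zero_of_finite) h1
  have hiota : ∀ {x v}, π x = D.C.ι v → x = T.f (iC v) ∨ x = T.f (iC v) * t := fun h => hπeq _ _ h
  have htE : ∀ K : Subgroup (C ⧸ Z), t ∈ K.comap π := fun K => by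
    rw [Subgroup.mem_comap, hπt]; exact one_mem K
  have hzero : T.f (iC 0) = 1 := by rw [iC_zero_eq.1, T.one]
  have hsq : ∀ σ, ∀ x ∈ E σ, x * x = 1 := by
    intro σ x hx
    obtain ⟨v, hv⟩ := V.le σ hx
    have htt : t * t = 1 := by rw [← ht]; exact T.tN_sq
    have hpt : ∀ y, y * y = 1 → y * t * (y * t) = 1 := fun y hy => by
      rw [show y * t * (y * t) = y * (t * y) * t by group, hcen y, ← mul_assoc, hy, one_mul, htt]
    by_cases h0 : v = 0
    · subst h0
      rcases hiota hv.symm with e | e <;> rw [hzero] at e <;> subst e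
      · simp
      · exact hpt 1 (by simp)
    obtain ⟨g, hg⟩ := V.transitive (v := v) (by rw [hv]; exact hx) h0
    obtain ⟨c, rfl⟩ := hπs g
    set p := T.f (iC (fixV σ)) with hp
    have hpp : c * p * c⁻¹ * (c * p * c⁻¹) = 1 := by
      rw [show c * p * c⁻¹ * (c * p * c⁻¹) = c * (p * p) * c⁻¹ by group, hp,
        ← T.map_mul _ _ (hI _) (hI _), (mv_chk σ).2.2.1, T.one]
      group
    have e : π x = π (c * p * c⁻¹) := by
      rw [← hv, ← hg, D.ι_cv, _root_.map_mul, _root_.map_mul, _root_.map_inv]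
    rcases hπeq _ _ e with q | q <;> rw [q]
    exacts [hpp, hpt _ hpp]
  have hn : ∀ σ, (V.half σ).Normal := fun σ => ⟨fun a ha g => V.inv σ g a ha⟩
  have hjoin : E false ⊔ E true = Q := by
    refine le_antisymm (sup_le (Subgroup.comap_mono (V.le _)) (Subgroup.comap_mono (V.le _))) fun x hx => ?_
    obtain ⟨b, hb, c, hc, e⟩ := V.dec _ hx
    obtain ⟨b', rfl⟩ := hπs b
    obtain ⟨c', rfl⟩ := hπs c
    rw [← _root_.map_mul] at e
    have hb' : b' * c' ∈ E false ⊔ E true := mul_mem (Subgroup.mem_sup_left hb) (Subgroup.mem_sup_right hc)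
    rcases hπeq _ _ e with rfl | rfl
    · exact hb'
    · exact mul_mem hb' (Subgroup.mem_sup_left (htE _))
  have hmemQ : ∀ {x}, x ∈ Q → ∃ v, x = T.f (iC v) ∨ x = T.f (iC v) * t := fun hx => by
    obtain ⟨v, hv⟩ := hx
    exact ⟨v, hiota hv.symm⟩
  have hIQ : ∀ v, T.f (iC v) ∈ Q := fun v => ⟨v, rfl⟩
  have hidx : Q.index = 168 := by
    rw [hQ, Subgroup.index_comap_of_surjective _ hπs]; exact V.index_A
  have hP : HeldC.Pieces t Q (E false) (E true) := by
    refine
      { t_ne := ht ▸ T.tN_ne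
        t_sq := by rw [← ht]; exact T.tN_sq
        t_comm := hcen
        normal₁ := (hn _).comap π
        normal₂ := (hn _).comap π
        sq₁ := hsq _
        sq₂ := hsq _
        card₁ := by rw [hcard, V.card]
        card₂ := by rw [hcard, V.card]
        t_mem₁ := htE _
        t_mem₂ := htE _
        meet := ?_
        join := hjoin
        normalQ := D.normal.comap π
        index := hidx
        centre := ?_
        cent := ?_ }
    · intro x h1 h2
      have h := V.disj' false _ h1 h2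
      rcases hπeq x 1 (h.trans (_root_.map_one π).symm) with e | e
      · exact Or.inl e
      · exact Or.inr (e.trans (one_mul t))
    · intro x hx hall
      obtain ⟨v, hv⟩ := hmemQ hx
      have h0 : v = 0 := by
        refine iC_centre v fun w => (T.comm_iff (hI v) (hI w)).1 ?_
        have h := hall _ (hIQ w)
        rcases hv with rfl | rfl
        · exact h
        · rw [mul_assoc, hcen, ← mul_assoc, ← mul_assoc] at h
          exact mul_right_cancel h
      subst h0
      rw [hzero, one_mul] at hv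
      exact hv
    · intro c hc
      have hcv : ∀ v, D.cv (π c) v = v := fun v => D.C.ι_inj (by
        rw [D.ι_cv]
        show π c * π (T.f (iC v)) * (π c)⁻¹ = π (T.f (iC v))
        rw [← _root_.map_mul, hc _ (hIQ v), _root_.map_mul, mul_inv_cancel_right])
      have hmat : ∀ σ, V.mat σ (π c) = Mdl.mone := fun σ => by
        have e : ∀ m, V.img σ (π c) m = m := fun m => by rw [Sq.Halves.img, hcv, V.part_lift]
        rw [Sq.Halves.mat, e, e, e]; rfl
      exact V.mem_A_of_trivial (hmat _) (hmat _)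
  obtain ⟨F, hF⟩ := hP.exists_frame
  refine ⟨F, hF, fun hT => ?_⟩
  -- the extraspecial subgroup in the coordinates
  let Q' : Subgroup C := Frame.ofClosed {c | ∃ z, F.q z = c} ⟨HeldC.z0, F.q_z0⟩ fun a ha b hb => by
    obtain ⟨z, rfl⟩ := ha
    obtain ⟨w, rfl⟩ := hb
    exact ⟨_, F.q_mul z w⟩
  have hQn : Q'.Normal := ⟨by
    rintro _ ⟨z, rfl⟩ c
    obtain ⟨w, p, hp, rfl⟩ := F.surj_q c
    have : F.q w * p * F.q z * (F.q w * p)⁻¹ = F.q w * F.q (HeldC.qact (F.φ p) z) * (F.q w)⁻¹ := by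
      rw [mul_assoc (F.q w) p, F.conj_q hp]; group
    rw [this]
    exact mul_mem (mul_mem ⟨w, rfl⟩ ⟨_, rfl⟩) (inv_mem ⟨w, rfl⟩)⟩
  have hQ'card : Nat.card Q' = 128 := by
    rw [show Nat.card Q' = Nat.card (Set.range F.q) from rfl,
      ← Nat.card_congr (Equiv.ofInjective F.q fun a b h => F.q_inj h), Nat.card_eq_fintype_card]
    rfl
  have hQ'S : ∀ g, ∀ x ∈ Q', g * x * g⁻¹ ∈ (S : Subgroup C) := by
    intro g x hx
    have hp : IsPGroup 2 Q' := IsPGroup.of_card (n := 7) (by rw [hQ'card]; norm_num)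
    obtain ⟨P, hPle⟩ := hp.exists_le_sylow
    obtain ⟨d, hd⟩ := MulAction.exists_smul_eq C P S
    rw [← hd, Sylow.smul_def, Sylow.pointwise_smul_def]
    refine ⟨d⁻¹ * (g * x * g⁻¹) * d, hPle ?_, ?_⟩
    · have h := hQn.conj_mem _ (hQn.conj_mem _ hx g) d⁻¹
      simpa using h
    · show d * (d⁻¹ * (g * x * g⁻¹) * d) * d⁻¹ = _
      group
  have hQ'Q : Q' ≤ Q := by
    intro x hx
    refine V.mat_trivial (σ := false) ?_
    have e : ∀ m, V.img false (π x) m = m := by
      intro m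
      by_cases h0 : V.lift false m = 0
      · have hm := V.part_lift false m
        rw [h0] at hm
        rw [← hm]
        exact V.img_zero _ _
      obtain ⟨g, hg⟩ := V.transitive (V.lift_mem false m) h0
      obtain ⟨c, rfl⟩ := hπs g
      obtain ⟨a, ha, ea⟩ := (T.mem_iff _).1 (hQ'S c⁻¹ x hx)
      have hfix : D.cv (π (c⁻¹ * x * c)) (fixV false) = fixV false := by
        rw [inv_inv] at ea
        rw [← ea, hcode a ha]
        show D.cv (D.C.ι _ * D.C.ρ _) _ = _
        rw [D.cv_mul, D.cv_rho, (part_fixV false).2.2.2, D.cv_iota]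
      rw [Sq.Halves.img, ← hg, ← D.cv_mul, show π x * π c = π c * π (c⁻¹ * x * c) by
        rw [← _root_.map_mul, ← _root_.map_mul]; congr 1; group, D.cv_mul, hfix, hg, V.part_lift]
    rw [Sq.Halves.mat, e, e, e]; rfl
  have hQcard : Nat.card Q = 128 := by rw [hQ, hcard, D.C.toFrame.card_A]
  have hQQ : Q' = Q := Subgroup.eq_of_le_of_card_ge hQ'Q (by rw [hQcard, hQ'card])
  -- involutions in an outer coset
  set y0 := T.f (rC 4) with hy0
  obtain ⟨z0', h0, hh0, ey0⟩ := F.exists_coord y0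
  have hy0sq : y0 * y0 = 1 := by rw [hy0, ← T.map_mul _ _ (hR 4) (hR 4), iC_zero_eq.2.1, T.one]
  have hinv : h0 ∈ HeldC.invols := by
    obtain ⟨c, hc⟩ := F.mul_lift_coord z0' z0' hh0 hh0
    have h := hc.symm.trans ((show F.q z0' * F.lift h0 * (F.q z0' * F.lift h0) = 1 by rw [← ey0]; exact hy0sq).trans
      (by rw [F.q_z0, F.lift_mid, one_mul] : (1 : C) = F.q HeldC.z0 * F.lift HeldC.mid))
    exact HeldC.mem_invols.2 ⟨hh0, (F.coord_inj (F.lift_mul hh0 hh0).1 (by decide) h).2⟩
  have hne : h0 ≠ HeldC.mid := fun e => by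
    rw [e, F.lift_mid, mul_one] at ey0
    obtain ⟨v, hv⟩ := (show y0 ∈ Q from hQQ ▸ ⟨z0', ey0.symm⟩)
    exact F0.ρ_notMem 4 (by decide) v hv.symm
  have hfew := List.all_eq_true.1 twisted_few h0 hinv
  simp only [Bool.or_eq_true, decide_eq_true_eq, hne, false_or] at hfew
  set L := (List.range 128).filter fun q => Nat.beq (Mdl.mulN (Mdl.mulN (Mdl.atPair (Mdl.mone, Mdl.mone) q) (rC 4))
    (Mdl.mulN (Mdl.atPair (Mdl.mone, Mdl.mone) q) (rC 4))) Mdl.one with hL
  have hmap : ∀ q : {q // q ∈ L}, ∃ z, z ∈ HeldC.allZ.filter (fun z => decide (HeldC.sqTw z h0 = HeldC.z0)) ∧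
      F.q z * F.lift h0 = T.f (Mdl.atPair (Mdl.mone, Mdl.mone) q.1) * y0 := by
    rintro ⟨q, hq⟩
    obtain ⟨hq1, hq2⟩ := List.mem_filter.1 hq
    obtain ⟨hqs, hqg, -⟩ := q_inS q (List.mem_range.1 hq1)
    rw [inSB_iff] at hqs
    have hqQ : T.f (Mdl.atPair (Mdl.mone, Mdl.mone) q) ∈ Q := by
      refine Subgroup.mem_comap.2 ?_
      rw [hcode _ hqs]
      refine F0.nf_mem_A.2 (Fin.ext ?_)
      have h := List.all_eq_true.1 q_code _ ((mem_sylL _).2 hqs)
      simp only [hqg, Nat.beq_refl, Bool.not_true, Bool.false_or, Nat.beq_eq] at h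
      exact h
    obtain ⟨w, hw⟩ := (show T.f _ ∈ Q' from hQQ.symm ▸ hqQ)
    refine ⟨HeldC.qm w z0', List.mem_filter.2 ⟨allZ_mem _, decide_eq_true ?_⟩, ?_⟩
    · refine F.q_inj ?_
      rw [← F.sq_coord hT _ hinv, F.q_z0, F.q_mul, mul_assoc (F.q w), ← ey0, hw, hy0,
        ← T.map_mul _ _ hqs (hR 4), ← T.map_mul _ _ (hqs.mul (hR 4)) (hqs.mul (hR 4)),
        Nat.eq_of_beq_eq_true hq2, T.one]
    · rw [F.q_mul, mul_assoc (F.q w), ← ey0, hw]
  choose zf hzf using hmap
  have hle : L.length ≤ (HeldC.allZ.filter (fun z => decide (HeldC.sqTw z h0 = HeldC.z0))).length := by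
    have hnd : L.Nodup := List.nodup_range.filter _
    rw [← List.toFinset_card_of_nodup hnd]
    refine le_trans ?_ (List.toFinset_card_le _)
    rw [← Fintype.card_coe, ← Fintype.card_coe]
    refine Fintype.card_le_of_injective (fun q => ⟨zf ⟨q.1, List.mem_toFinset.1 q.2⟩,
      List.mem_toFinset.2 (hzf ⟨q.1, List.mem_toFinset.1 q.2⟩).1⟩) fun a b e => ?_
    have e' : zf ⟨a.1, List.mem_toFinset.1 a.2⟩ = zf ⟨b.1, List.mem_toFinset.1 b.2⟩ := congrArg Subtype.val e
    have h1 := (hzf ⟨a.1, List.mem_toFinset.1 a.2⟩).2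
    rw [e', (hzf ⟨b.1, List.mem_toFinset.1 b.2⟩).2] at h1
    have ha := q_inS a.1 (List.mem_range.1 (List.mem_filter.1 (List.mem_toFinset.1 a.2)).1)
    have hb := q_inS b.1 (List.mem_range.1 (List.mem_filter.1 (List.mem_toFinset.1 b.2)).1)
    have := T.inj _ _ ((inSB_iff _).1 hb.1) ((inSB_iff _).1 ha.1) (mul_right_cancel h1)
    exact Subtype.ext (by rw [← ha.2.2, ← this, hb.2.2])
  rw [hL, ← List.countP_eq_length_filter, ← List.countP_eq_length_filter] at hle
  have := iC_zero_eq.2.2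
  omega

end CfsgLib.L5Type
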