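import Cfsg.Agent.L5Type.Tab
import Cfsg.Agent.L5Type.MatData

/-!
The unitriangular matrices and a matrix outside both parabolic subgroups generate `GL(3, 2)`.
-/

set_option autoImplicit false
set_option maxRecDepth 100000

namespace CfsgLib.L5Type

open CfsgLib.HeldUniq

/-- The invertible matrices. -/
def glL : List Nat := Mdl.slPairs.map Prod.fst

/-- Neither the first line nor the plane of the first two coordinates is invariant. -/
def movesBoth (g : Nat) : Bool :=
  !Nat.beq (Mdl.col g 0) 1 && !(Nat.blt (Mdl.col g 0) 4 && Nat.blt (Mdl.col g 1) 4)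

/-- A tree: each element is an earlier one times a permitted factor. -/
def treeOk (r : Nat) : List Nat → List (Nat × Nat × Nat) → Bool
  | seen, [] => glL.all fun g => seen.contains g
  | seen, (c, a, k) :: L =>
    seen.contains a && (uMats.contains k || Nat.beq k r) && Nat.beq c (Mdl.mmul a k) && treeOk r (c :: seen) L

theorem trees_ok : (genTrees.all fun x => treeOk x.1 [Mdl.mone] x.2) = true := by decide +kernel

theorem reps_ok : (glL.all fun g => !movesBoth g || uMats.any fun a => uMats.any fun b =>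
    genTrees.any fun x => Nat.beq x.1 (Mdl.mmul (Mdl.mmul a g) b)) = true := by decide +kernel

theorem all_of_tree {P : Nat → Prop} (hmul : ∀ a b, P a → P b → P (Mdl.mmul a b))
    {r : Nat} (hU : ∀ a ∈ uMats, P a) (hr : P r) :
    ∀ (L : List (Nat × Nat × Nat)) (seen : List Nat), treeOk r seen L = true → (∀ g ∈ seen, P g) →
      ∀ g ∈ glL, P g
  | [], seen, h, hs => fun g hg => hs g (List.contains_iff_mem.1 (List.all_eq_true.1 h g hg))
  | (c, a, k) :: L, seen, h, hs => by
    simp only [treeOk, Bool.and_eq_true, Bool.or_eq_true, List.contains_iff_mem, Nat.beq_eq] at h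
    obtain ⟨⟨⟨ha, hk⟩, hc⟩, hL⟩ := h
    refine all_of_tree hmul hU hr L (c :: seen) hL fun g hg => ?_
    rcases List.mem_cons.1 hg with rfl | hg
    · rw [hc]; exact hmul _ _ (hs a ha) (hk.elim (hU k) fun e => e ▸ hr)
    · exact hs g hg

theorem all_of_moves {P : Nat → Prop} (hmul : ∀ a b, P a → P b → P (Mdl.mmul a b))
    (hU : ∀ a ∈ uMats, P a) {g : Nat} (hg : g ∈ glL) (hP : P g) (hm : movesBoth g = true) :
    ∀ m ∈ glL, P m := by
  have h := List.all_eq_true.1 reps_ok g hg
  simp only [hm, Bool.not_true, Bool.false_or, List.any_eq_true, Nat.beq_eq] at h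
  obtain ⟨a, ha, b, hb, x, hx, e⟩ := h
  refine all_of_tree hmul hU (r := x.1) ?_ x.2 [Mdl.mone] (List.all_eq_true.1 trees_ok x hx) ?_
  · rw [e]; exact hmul _ _ (hmul _ _ (hU a ha) hP) (hU b hb)
  · intro m hm'
    rw [List.mem_singleton] at hm'
    subst hm'
    exact hU _ (by decide +kernel)

theorem glL_transitive : ((List.range 8).all fun m => Nat.beq m 0 ||
    glL.any fun g => Nat.beq (Mdl.col g 0) m) = true := by decide +kernel

theorem mem_glL_of_inverse {g h : Nat} (hg : g < 512) (hh : h < 512) (e1 : Mdl.mmul g h = Mdl.mone)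
    (e2 : Mdl.mmul h g = Mdl.mone) : g ∈ glL := by
  have hmk := Mdl.mk_fields (v := 0) (p := 0) (c := 0) (g := g) (h := h) (by norm_num) (by norm_num)
    (by norm_num) hg
  have hm : Mdl.mem (Mdl.mk 0 0 0 g h) = true := by
    simp only [Mdl.mem, Bool.and_eq_true, hmk.2.2.2.1, hmk.2.2.2.2, e1, e2]
    refine ⟨⟨Nat.blt_eq.mpr (by simp only [Mdl.mk]; omega), rfl⟩, rfl⟩
  have := (Mdl.mem_iff_pair _).1 hm
  rw [hmk.2.2.2.1, hmk.2.2.2.2] at this
  exact List.mem_map.2 ⟨_, this, rfl⟩

theorem glL_card : glL.length = 168 ∧ glL.Nodup := by decide +kernel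

end CfsgLib.L5Type
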