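import Cfsg.Agent.L5Type.Fusion
import Cfsg.Agent.L5Type.Moved

/-!
Two involutions not conjugate to the central one.
-/

set_option autoImplicit false
set_option linter.unusedSectionVars false
set_option linter.style.haveILetI false
set_option maxRecDepth 100000

namespace CfsgLib.L5Type

open CfsgLib.HeldUniq

/-- The number of square roots of `y` commuting with `w`. -/
def rootC (w y : Nat) : Nat := sylL.countP fun r => Mdl.commN r w && Nat.beq (Mdl.mulN r r) y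

/-- Two square roots of the central element with a root as product, commuting with a member of `omega`. -/
def witTab : List (Nat × Nat × Nat) :=
  [(17926276, 17926281, 17926298), (17926340, 17926281, 17926298), (17926284, 17926313, 17926298),
   (17926348, 17926313, 17926298), (17926280, 17926290, 17926324), (17926344, 17926290, 17926324)]

theorem m_chk : inSB 17926284 = true ∧ (sylL.countP fun r => Mdl.commN r 17926284) = 512 ∧
    rootC 17926284 17926284 = 16 ∧ 17926284 ≠ Mdl.tN ∧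
    (omega.all fun a => Nat.beq a Mdl.one || Nat.beq a Mdl.tN || !Nat.beq (rootC a Mdl.tN) 16) = true := by
  decide +kernel

theorem zz_chk : inSB 18188940 = true ∧ (sylL.countP fun r => Mdl.commN r 18188940) = 256 ∧
    rootC 18188940 18188940 = 0 ∧ 18188940 ≠ Mdl.tN ∧
    (omega.all fun a => Nat.beq a Mdl.one || Nat.beq a Mdl.tN || witTab.any fun x => Nat.beq x.1 a &&
      [x.2.1, x.2.2, Mdl.mulN x.2.1 x.2.2].all fun r => inSB r && Mdl.commN r a &&
        Nat.beq (Mdl.mulN r r) Mdl.tN) = true ∧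
    (coverReps.all fun x => Nat.blt (sylL.countP fun r => Mdl.commN r x.1) 256 ||
      (Nat.beq (sylL.countP fun r => Mdl.commN r x.1) 256 &&
        sylL.any fun r => Mdl.commN r x.1 && Nat.beq (Mdl.mulN r r) Mdl.tN)) = true := by
  decide +kernel

namespace Base

universe u

variable {G : Type u} [Group G] [Finite G] (B : Base G)

/-- The centralizer in the Sylow subgroup. -/
def cS (g : G) : Subgroup G := (B.S : Subgroup G) ⊓ Subgroup.centralizer ({g} : Set G)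

theorem mem_cS {g x : G} : x ∈ B.cS g ↔ x ∈ (B.S : Subgroup G) ∧ x * g = g * x := by
  rw [cS, Subgroup.mem_inf, Subgroup.mem_centralizer_singleton_iff]

theorem card_cS {w : Nat} (hw : InS w) :
    Nat.card (B.cS (B.T.f w)) = sylL.countP fun a => Mdl.commN a w := B.T.card_cent hw

theorem card_roots {w y : Nat} (hw : InS w) (hy : InS y) :
    Nat.card {r : G // r ∈ B.cS (B.T.f w) ∧ r * r = B.T.f y} = rootC w y := by
  rw [rootC, List.countP_eq_length_filter]
  refine B.T.card_of_codes (X := {r : G | r ∈ B.cS (B.T.f w) ∧ r * r = B.T.f y}) _ (sylL_nodup.filter _)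
    (fun a ha => (mem_sylL a).1 (List.mem_filter.1 ha).1) fun g => ⟨?_, ?_⟩
  · rintro ⟨hg, e⟩
    obtain ⟨hgS, hc⟩ := B.mem_cS.1 hg
    obtain ⟨a, ha, rfl⟩ := (B.T.mem_iff g).1 hgS
    rw [← B.T.map_mul a a ha ha] at e
    refine ⟨a, List.mem_filter.2 ⟨(mem_sylL a).2 ha, ?_⟩, rfl⟩
    rw [(B.T.commN_iff ha hw).2 hc, B.T.inj _ _ (ha.mul ha) hy e, Nat.beq_refl]
    rfl
  · rintro ⟨a, ha, rfl⟩
    obtain ⟨ha, h⟩ := List.mem_filter.1 ha
    rw [Bool.and_eq_true, Nat.beq_eq] at h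
    have ha := (mem_sylL a).1 ha
    exact ⟨B.mem_cS.2 ⟨B.T.mem ha, (B.T.commN_iff ha hw).1 h.1⟩, by rw [← B.T.map_mul a a ha ha, h.2]⟩

/-- A conjugate `y` of the centre moved to it, with its centralizer in the Sylow subgroup. -/
theorem move_facts {y : Nat} (hy : InS y) (hyt : y ≠ Mdl.tN) (hc : IsConj B.z (B.T.f y)) :
    ∃ k a, InS a ∧ Mdl.mulN a a = Mdl.one ∧ a ≠ Mdl.one ∧ a ≠ Mdl.tN ∧
      k * B.T.f y * k⁻¹ = B.z ∧ k * B.z * k⁻¹ = B.T.f a ∧
      ∀ s ∈ B.cS (B.T.f y), k * s * k⁻¹ ∈ B.cS (B.T.f a) := by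
  obtain ⟨g, hg⟩ := isConj_iff.1 hc
  obtain ⟨k, hk, hmap⟩ := B.exists_move hg
  have hzy : B.z * B.T.f y = B.T.f y * B.z := (B.comm_f hy).symm
  obtain ⟨a, ha, ea⟩ := (B.T.mem_iff _).1 (hmap _ B.z_mem hzy)
  refine ⟨k, a, ha, ?_, ?_, ?_, hk, ea.symm, fun s hs => ?_⟩
  · refine (B.T.eq_one_iff (ha.mul ha)).1 ?_
    rw [B.T.map_mul a a ha ha, ea, show k * B.z * k⁻¹ * (k * B.z * k⁻¹) = k * (B.z * B.z) * k⁻¹ by group,
      B.z_sq]
    group
  · intro e
    rw [e, B.T.one] at ea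
    exact B.z_ne (conj_eq_one_iff.1 ea.symm)
  · intro e
    rw [e, B.hz] at ea
    exact hyt (B.T.inj _ _ hy InS.tN (by
      rw [B.hz]; exact (mul_left_cancel (mul_right_cancel (hk.trans ea)))))
  · obtain ⟨hsS, hsy⟩ := B.mem_cS.1 hs
    refine B.mem_cS.2 ⟨hmap s hsS hsy, ?_⟩
    rw [ea, show k * s * k⁻¹ * (k * B.z * k⁻¹) = k * (s * B.z) * k⁻¹ by group, B.comm_z hsS]
    group

theorem card_le_cS {y a : Nat} {k : G} (h : ∀ s ∈ B.cS (B.T.f y), k * s * k⁻¹ ∈ B.cS (B.T.f a)) :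
    Nat.card (B.cS (B.T.f y)) ≤ Nat.card (B.cS (B.T.f a)) := by
  rw [← Subgroup.card_map_of_injective (f := (MulAut.conj k).toMonoidHom) (MulAut.conj k).injective]
  refine Subgroup.card_le_of_le ?_
  rintro _ ⟨s, hs, rfl⟩
  exact h s hs

theorem not_conj_m : ¬ IsConj B.z (B.T.f 17926284) := by
  intro hc
  obtain ⟨hmS, hcnt, hr, hne, hom⟩ := m_chk
  rw [inSB_iff] at hmS
  obtain ⟨k, a, ha, ha2, ha1, hat, hk, hka, hmap⟩ := B.move_facts hmS hne hc
  have hle := B.card_le_cS hmap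
  rw [B.card_cS hmS, B.card_cS ha, hcnt] at hle
  have hao := B.T.omega_of_big ha ha2 hle
  have hcnt' : (sylL.countP fun r => Mdl.commN r a) = 512 := by
    have h := List.all_eq_true.1 omega_big a hao
    simpa [ha1, hat] using h
  have hsurj := Frame.map_conj_eq (by rw [B.card_cS hmS, B.card_cS ha, hcnt, hcnt']) hmap
  have hz : B.T.f Mdl.tN = k * B.T.f 17926284 * k⁻¹ := B.hz.trans hk.symm
  have heq : rootC 17926284 17926284 = rootC a Mdl.tN := by
    rw [← B.card_roots hmS hmS, ← B.card_roots ha InS.tN]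
    refine Nat.card_congr ((MulAut.conj k).toEquiv.subtypeEquiv fun s => ?_)
    show s ∈ _ ∧ s * s = _ ↔ k * s * k⁻¹ ∈ _ ∧ k * s * k⁻¹ * (k * s * k⁻¹) = _
    rw [hz, show k * s * k⁻¹ * (k * s * k⁻¹) = k * (s * s) * k⁻¹ by group]
    constructor
    · rintro ⟨h1, h2⟩
      exact ⟨hmap s h1, by rw [h2]⟩
    · rintro ⟨h1, h2⟩
      obtain ⟨s', hs', e⟩ := hsurj _ h1
      exact ⟨mul_left_cancel (mul_right_cancel e) ▸ hs', mul_left_cancel (mul_right_cancel h2)⟩
  have h := List.all_eq_true.1 hom a hao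
  simp [ha1, hat, ← heq, hr] at h

theorem not_conj_zz : ¬ IsConj B.z (B.T.f 18188940) := by
  intro hc
  obtain ⟨hyS, hcnt, hr, hne, hom, hrep⟩ := zz_chk
  rw [inSB_iff] at hyS
  obtain ⟨k, a, ha, ha2, ha1, hat, hk, -, hmap⟩ := B.move_facts hyS hne hc
  -- no root of the centre is an image
  have hno : ∀ (k' : G), k' * B.T.f 18188940 * k'⁻¹ = B.z → ∀ s ∈ B.cS (B.T.f 18188940),
      k' * s * k'⁻¹ * (k' * s * k'⁻¹) ≠ B.z := by
    intro k' hk' s hs e
    rw [show k' * s * k'⁻¹ * (k' * s * k'⁻¹) = k' * (s * s) * k'⁻¹ by group, ← hk'] at e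
    have h0 := B.card_roots hyS hyS
    rw [hr, Nat.card_eq_zero] at h0
    rcases h0 with h0 | h0
    · exact h0.false ⟨s, hs, mul_left_cancel (mul_right_cancel e)⟩
    · haveI := Finite.of_injective (fun r : {r : G // r ∈ B.cS (B.T.f 18188940) ∧ r * r = B.T.f 18188940} => r.1)
        Subtype.val_injective
      exact not_infinite_iff_finite.2 this h0
  by_cases hao : a ∈ omega
  · have h := List.all_eq_true.1 hom a hao
    simp only [Bool.or_eq_true, Nat.beq_eq, ha1, hat, false_or, List.any_eq_true, Bool.and_eq_true,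
      List.all_cons, List.all_nil, Bool.and_true, inSB_iff] at h
    obtain ⟨x, -, rfl, ⟨⟨⟨h1, c1⟩, e1⟩, ⟨⟨h2, c2⟩, e2⟩, ⟨-, c3⟩, e3⟩⟩ := h
    set P := (B.cS (B.T.f 18188940)).map (MulAut.conj k).toMonoidHom with hP
    set C := B.cS (B.T.f x.1) with hC
    have hPC : P ≤ C := by rintro _ ⟨s, hs, rfl⟩; exact hmap s hs
    have hidx : (P.subgroupOf C).index = 2 := by
      have h := (P.subgroupOf C).card_mul_index
      rw [Nat.card_congr (Subgroup.subgroupOfEquivOfLe hPC).toEquiv, hP,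
        Subgroup.card_map_of_injective (MulAut.conj k).injective, B.card_cS hyS, hcnt, hC, B.card_cS ha] at h
      have h5 := List.all_eq_true.1 omega_big x.1 hao
      simp only [Bool.or_eq_true, Nat.beq_eq, ha1, hat, false_or] at h5
      rw [h5] at h
      rw [hP, hC]
      omega
    have hout : ∀ r, InS r → Mdl.commN r x.1 = true → Mdl.mulN r r = Mdl.tN →
        ∃ w : C, (w : G) = B.T.f r ∧ w ∉ P.subgroupOf C := by
      intro r hr' hrc hrr
      refine ⟨⟨B.T.f r, B.mem_cS.2 ⟨B.T.mem hr', (B.T.commN_iff hr' ha).1 hrc⟩⟩, rfl, fun hw => ?_⟩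
      obtain ⟨s, hs, e⟩ := Subgroup.mem_subgroupOf.1 hw
      refine hno k hk s hs ?_
      rw [show k * s * k⁻¹ = B.T.f r from e, ← B.T.map_mul r r hr' hr', hrr, B.hz]
    obtain ⟨w1, ew1, n1⟩ := hout _ h1 c1 e1
    obtain ⟨w2, ew2, n2⟩ := hout _ h2 c2 e2
    obtain ⟨w3, ew3, n3⟩ := hout _ (h1.mul h2) c3 e3
    refine n3 ?_
    rw [show w3 = w1 * w2 from Subtype.ext (by rw [Subgroup.coe_mul, ew1, ew2, ew3, B.T.map_mul _ _ h1 h2]),
      Subgroup.mul_mem_iff_of_index_two hidx]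
    exact iff_of_false n1 n2
  · have hcov := List.all_eq_true.1 invTab_cover a ((mem_sylL a).2 ha)
    simp only [ha2, Bool.or_eq_true, Bool.not_eq_true', Nat.beq_refl, Bool.true_eq_false, false_or,
      Nat.beq_eq, ha1, List.any_eq_true] at hcov
    obtain ⟨x, hx, rfl⟩ := hcov
    have h := List.all_eq_true.1 invTab_chk x hx
    simp only [Bool.and_eq_true, inSB_iff, Nat.beq_eq, Bool.or_eq_true, List.contains_iff_mem,
      List.any_eq_true] at h
    obtain ⟨⟨⟨hrS, hn⟩, he⟩, h⟩ := h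
    rcases h with (⟨h1, h2⟩ | h) | ⟨r, hr', e⟩
    · exact hao (h2 ▸ h1)
    · exact hao h
    set n := B.T.f x.2.2 with hndef
    have hnz : n * B.z = B.z * n := B.comm_f hn
    have hfx : B.T.f x.1 = n * B.T.f x.2.1 * n⁻¹ := by rw [← he, ← B.T.conj hn hrS]
    have hmap' : ∀ s ∈ B.cS (B.T.f 18188940), n⁻¹ * k * s * (n⁻¹ * k)⁻¹ ∈ B.cS (B.T.f x.2.1) := by
      intro s hs
      obtain ⟨h1, h2⟩ := B.mem_cS.1 (hmap s hs)
      refine B.mem_cS.2 ⟨?_, ?_⟩
      · rw [show n⁻¹ * k * s * (n⁻¹ * k)⁻¹ = n⁻¹ * (k * s * k⁻¹) * n by group]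
        exact mul_mem (mul_mem (inv_mem (B.T.mem hn)) h1) (B.T.mem hn)
      · rw [hfx] at h2
        calc n⁻¹ * k * s * (n⁻¹ * k)⁻¹ * B.T.f x.2.1
            = n⁻¹ * (k * s * k⁻¹ * (n * B.T.f x.2.1 * n⁻¹)) * n := by group
          _ = n⁻¹ * (n * B.T.f x.2.1 * n⁻¹ * (k * s * k⁻¹)) * n := by rw [h2]
          _ = _ := by group
    have hk' : n⁻¹ * k * B.T.f 18188940 * (n⁻¹ * k)⁻¹ = B.z := by
      rw [show n⁻¹ * k * B.T.f 18188940 * (n⁻¹ * k)⁻¹ = n⁻¹ * (k * B.T.f 18188940 * k⁻¹) * n by group, hk,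
        mul_assoc, ← hnz, inv_mul_cancel_left]
    have hle := B.card_le_cS hmap'
    rw [B.card_cS hyS, B.card_cS hrS, hcnt] at hle
    have h6 := List.all_eq_true.1 hrep r hr'
    rw [e] at h6
    simp only [Bool.or_eq_true, Nat.blt_eq, Bool.and_eq_true, Nat.beq_eq, List.any_eq_true] at h6
    rcases h6 with h6 | ⟨h6, w, hw, hwc, hwt⟩
    · omega
    have hwS := (mem_sylL w).1 hw
    obtain ⟨s, hs, es⟩ := Frame.map_conj_eq (by rw [B.card_cS hyS, B.card_cS hrS, hcnt, h6]) hmap' (B.T.f w)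
      (B.mem_cS.2 ⟨B.T.mem hwS, (B.T.commN_iff hwS hrS).1 hwc⟩)
    exact hno _ hk' s hs (by rw [es, ← B.T.map_mul w w hwS hwS, hwt, B.hz])

end Base

end CfsgLib.L5Type
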