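import Cfsg.Agent.L5Type.NotConj
import Cfsg.Agent.Trichotomy.SimpleRows

/-!
The classes of involutions of the Sylow subgroup conjugate to the central one.
-/

set_option autoImplicit false
set_option linter.unusedSectionVars false
set_option linter.style.haveILetI false
set_option maxRecDepth 100000

namespace CfsgLib.L5Type

open CfsgLib.HeldUniq
open CfsgLib.Trichotomy (kind isT prof profOk patNone patV patP patBoth mirKind mirPat)

/-- Representatives in the Sylow subgroup of the eight classes. -/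
def srep (k : Nat) : Nat :=
  [17926336, 17926273, 17926280, 17926282, 18057600, 18057664, 18057632, 18057604].getD k 17926336

theorem srep_chk : ∀ k < 8, inSB (srep k) = true ∧ kind (srep k) = k ∧
    Mdl.mulN (srep k) (srep k) = Mdl.one ∧ srep k ≠ Mdl.one := by decide +kernel

theorem none_chk : (sylL.all fun a => !isT patNone a || Nat.beq a Mdl.tN) = true := by decide +kernel

theorem pure_kinds : inSB 17926284 = true ∧ kind 17926284 = 3 ∧ inSB 18188940 = true ∧ kind 18188940 = 5 ∧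
    Mdl.mulN 17926284 17926284 = Mdl.one ∧ Mdl.mulN 18188940 18188940 = Mdl.one ∧ 17926284 ≠ Mdl.one ∧
    18188940 ≠ Mdl.one := by decide +kernel

/-- The exchange of the axes on the Sylow subgroup. -/
def mirS (a : Nat) : Nat := Mdl.conjN 5515776 (Mdl.mir a)

theorem mirS_chk : (sylL.all fun a => inSB (mirS a) && Nat.beq (mirS (mirS a)) a &&
    (Mdl.mem a && Mdl.mem (mirS a) && Nat.beq (Mdl.mulN 5515776 (Mdl.mir a)) (Mdl.mulN (mirS a) 5515776))) = true := by
  decide +kernel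

theorem mirS_srep : Mdl.mem 5515776 = true ∧ mirS Mdl.tN = Mdl.tN ∧
    ∀ k < 8, kind (mirS (srep k)) = mirKind.getD k 0 ∧
      Mdl.mulN (mirS (srep k)) (mirS (srep k)) = Mdl.one ∧ mirS (srep k) ≠ Mdl.one := by
  decide +kernel

theorem noncomm : InS 17926273 ∧ InS 17926280 ∧ Mdl.commN 17926273 17926280 = false := by
  simp only [← inSB_iff]; decide +kernel

universe u

namespace Base

variable {G : Type u} [Group G] [Finite G] (B : Base G)

/-- A Boolean list says which classes consist of conjugates of the central involution. -/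
def IsPat (b : List Bool) : Prop := ∀ k < 8, IsConj B.z (B.T.f (srep k)) ↔ b.getD k false = true

theorem bar_comm (x : Hb B.z) : x * bar B.z B.z = bar B.z B.z * x := (bar_central x).symm

theorem conj_srep {a : Nat} (ha : InS a) (h2 : Mdl.mulN a a = Mdl.one) (hne : a ≠ Mdl.one) :
    kind a < 8 ∧ ∃ g, g * B.z = B.z * g ∧ g * B.T.f (srep (kind a)) * g⁻¹ = B.T.f a := by
  obtain ⟨hk, n, hn, en⟩ := Trichotomy.exists_conj_rep B.F ha.mem h2 hne
  obtain ⟨hs, hsk, hs2, hs1⟩ := srep_chk _ hk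
  rw [inSB_iff] at hs
  obtain ⟨-, n', hn', en'⟩ := Trichotomy.exists_conj_rep B.F hs.mem hs2 hs1
  rw [hsk] at en'
  obtain ⟨m, hm, em⟩ := B.F.exists_code (B.bar_comm (B.F.ev n * (B.F.ev n')⁻¹))
  refine ⟨hk, B.lift_conj hm hs ha hs2 hs1 ?_⟩
  refine B.F.inj _ _ (Mdl.mem_mulN hm hs.mem) (Mdl.mem_mulN ha.mem hm) ?_
  rw [B.F.map_mul _ _ hm hs.mem, B.F.map_mul _ _ ha.mem hm, em, ← en, ← en']
  group

theorem conj_self {g : G} (hg : g * B.z = B.z * g) : g * B.z * g⁻¹ = B.z := by rw [hg, mul_inv_cancel_right]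

theorem isT_iff {b : List Bool} (hb : B.IsPat b) {a : Nat} (ha : InS a) :
    isT b a = true ↔ IsConj B.z (B.T.f a) := by
  simp only [isT, Bool.and_eq_true, Bool.not_eq_true', Nat.beq_eq]
  constructor
  · rintro ⟨⟨h1, h2⟩, h3⟩
    obtain ⟨hk, g, -, hg⟩ := B.conj_srep ha h2 fun e => by
      rw [Mdl.beq_of_eq e] at h1; exact Bool.noConfusion h1
    exact ((hb _ hk).2 h3).trans (isConj_iff.2 ⟨_, hg⟩)
  · intro hc
    obtain ⟨g, hg⟩ := isConj_iff.1 hc
    have h2 : Mdl.mulN a a = Mdl.one := by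
      refine (B.T.eq_one_iff (ha.mul ha)).1 ?_
      rw [B.T.map_mul a a ha ha, ← hg, show g * B.z * g⁻¹ * (g * B.z * g⁻¹) = g * (B.z * B.z) * g⁻¹ by group,
        B.z_sq]
      group
    have hne : a ≠ Mdl.one := fun e => by
      rw [e, B.T.one] at hc
      exact B.z_ne (isConj_one_left.1 hc)
    obtain ⟨hk, c, -, hc'⟩ := B.conj_srep ha h2 hne
    refine ⟨⟨?_, h2⟩, (hb _ hk).1 (hc.trans (isConj_iff.2 ⟨_, hc'⟩).symm)⟩
    cases h : Nat.beq a Mdl.one with
    | false => rfl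
    | true => exact absurd (Nat.eq_of_beq_eq_true h) hne

theorem card_prof {σ : Bool} {b : List Bool} (hb : B.IsPat b) {y : Nat} (hy : y ∈ wL σ) :
    Nat.card {f : G // f ∈ B.A σ ∧ IsConj B.z f ∧ IsConj B.z (B.T.f y * f)} = prof b (wL σ) y := by
  refine B.T.card_of_codes (X := {f : G | f ∈ B.A σ ∧ IsConj B.z f ∧ IsConj B.z (B.T.f y * f)}) _
    ((wL_facts σ).2.1.filter _) (fun a ha => wL_inS (List.mem_filter.1 ha).1) fun f => ⟨?_, ?_⟩
  · rintro ⟨⟨a, ha, rfl⟩, h1, h2⟩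
    have hm := wL_inS ha
    rw [← B.T.map_mul _ _ (wL_inS hy) hm] at h2
    refine ⟨a, List.mem_filter.2 ⟨ha, ?_⟩, rfl⟩
    rw [(B.isT_iff hb hm).2 h1, (B.isT_iff hb ((wL_inS hy).mul hm)).2 h2]
    rfl
  · rintro ⟨a, ha, rfl⟩
    obtain ⟨ha, h⟩ := List.mem_filter.1 ha
    rw [Bool.and_eq_true] at h
    have hm := wL_inS ha
    refine ⟨⟨a, ha, rfl⟩, (B.isT_iff hb hm).1 h.1, ?_⟩
    rw [← B.T.map_mul _ _ (wL_inS hy) hm]
    exact (B.isT_iff hb ((wL_inS hy).mul hm)).1 h.2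

theorem profOk_of_pat (σ : Bool) {b : List Bool} (hb : B.IsPat b) : profOk b (wL σ) = true := by
  refine List.all_eq_true.2 fun y hy => ?_
  cases hT : isT b y with
  | false => rfl
  | true =>
    refine Mdl.beq_of_eq ?_
    obtain ⟨g, hg⟩ := isConj_iff.1 ((B.isT_iff hb (wL_inS hy)).1 hT)
    obtain ⟨n, hn, hne⟩ := B.control (B.z_mem_A σ) ((B.f_mem_A (wL_inS hy)).2 hy) hg
    rw [← B.card_prof hb hy, ← B.card_prof hb (wL_facts σ).2.2.2.1, B.hz]
    refine (Nat.card_congr ((MulAut.conj n).toEquiv.subtypeEquiv fun f => ?_)).symm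
    show f ∈ B.A σ ∧ IsConj B.z f ∧ IsConj B.z (B.z * f) ↔
      n * f * n⁻¹ ∈ B.A σ ∧ IsConj B.z (n * f * n⁻¹) ∧ IsConj B.z (B.T.f y * (n * f * n⁻¹))
    have hc : ∀ x, (IsConj B.z x ↔ IsConj B.z (n * x * n⁻¹)) := fun x =>
      ⟨fun h => h.trans (isConj_iff.2 ⟨n, rfl⟩), fun h => h.trans (isConj_iff.2 ⟨n, rfl⟩).symm⟩
    rw [← hne, show n * B.z * n⁻¹ * (n * f * n⁻¹) = n * (B.z * f) * n⁻¹ by group, ← hc, ← hc,
      ← Subgroup.mem_normalizer_iff.1 hn f]

theorem pat_cases : ∃ d0 d3 : Bool, B.IsPat patNone ∨ B.IsPat patV ∨ B.IsPat patP ∨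
    B.IsPat (patBoth d0 d3) := by
  classical
  set p : Nat → Bool := fun k => decide (IsConj B.z (B.T.f (srep k))) with hp
  set b := [p 0, p 1, p 2, p 3, p 4, p 5, p 6, p 7] with hlist
  have hb : B.IsPat b := fun k hk => by
    rw [show b = (List.range 8).map p from rfl]
    simp [hp, hk]
  obtain ⟨hmS, hmk, hyS, hyk, hm2, hy2, hm1, hy1⟩ := pure_kinds
  rw [inSB_iff] at hmS hyS
  have h0 : p 0 = true := decide_eq_true (by rw [show srep 0 = Mdl.tN from rfl, B.hz])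
  have h3 : p 3 = false := decide_eq_false fun h => by
    obtain ⟨-, g, -, hg⟩ := B.conj_srep hmS hm2 hm1
    rw [hmk] at hg
    exact B.not_conj_m (h.trans (isConj_iff.2 ⟨_, hg⟩))
  have h5 : p 5 = false := decide_eq_false fun h => by
    obtain ⟨-, g, -, hg⟩ := B.conj_srep hyS hy2 hy1
    rw [hyk] at hg
    exact B.not_conj_zz (h.trans (isConj_iff.2 ⟨_, hg⟩))
  have k0 := B.profOk_of_pat false hb
  have k3 := B.profOk_of_pat true hb
  rw [hlist, h0, h3, h5] at k0 k3 hb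
  refine ⟨p 6, p 7, ?_⟩
  rcases Trichotomy.pattern_chk _ _ _ _ _ k0 k3 with e | e | e | e <;> rw [e] at hb
  exacts [Or.inl hb, Or.inr (Or.inl hb), Or.inr (Or.inr (Or.inl hb)), Or.inr (Or.inr (Or.inr hb))]

theorem exists_conj_into {x : G} (hx : x * B.z = B.z * x) (h2 : x * x = 1) :
    ∃ c, c * B.z = B.z * c ∧ c * x * c⁻¹ ∈ (B.S : Subgroup G) := by
  haveI : Fact (Nat.Prime 2) := ⟨Nat.prime_two⟩
  set N := Subgroup.centralizer ({B.z} : Set G) with hN
  have hS : (B.S : Subgroup G) ≤ N := fun s hs => Subgroup.mem_centralizer_singleton_iff.2 (B.comm_z hs)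
  have hxN : x ∈ N := Subgroup.mem_centralizer_singleton_iff.2 hx
  have hp : IsPGroup 2 (Subgroup.zpowers (⟨x, hxN⟩ : N)) := by
    intro g
    obtain ⟨k, hk⟩ := Subgroup.mem_zpowers_iff.1 g.2
    refine ⟨1, Subtype.ext ?_⟩
    rw [Subgroup.coe_pow, ← hk, pow_one, ← zpow_natCast, ← zpow_mul, mul_comm, zpow_mul, zpow_natCast, sq,
      show (⟨x, hxN⟩ : N) * ⟨x, hxN⟩ = 1 from Subtype.ext h2, one_zpow]
    rfl
  obtain ⟨Q, hQ⟩ := hp.exists_le_sylow
  obtain ⟨c, hc⟩ := MulAction.exists_smul_eq N Q (B.S.subtype hS)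
  refine ⟨c, Subgroup.mem_centralizer_singleton_iff.1 c.2, ?_⟩
  have hm : c * (⟨x, hxN⟩ : N) * c⁻¹ ∈ ((B.S.subtype hS : Sylow 2 N) : Subgroup N) := by
    rw [← hc]
    exact ⟨_, hQ (Subgroup.mem_zpowers _), rfl⟩
  exact (Subgroup.mem_subgroupOf.1 hm : (c : G) * x * (c : G)⁻¹ ∈ (B.S : Subgroup G))

theorem not_patNone [IsSimpleGroup G] : ¬ B.IsPat patNone := by
  intro hb
  have hiso : Cfsg.IsIsolatedInvolution B.z := by
    refine ⟨B.orderOf_z, fun g hg => ?_⟩
    set x := g * B.z * g⁻¹ with hx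
    obtain ⟨c, hc, hcS⟩ := B.exists_conj_into (x := x) hg.eq.symm (by
      rw [hx, show g * B.z * g⁻¹ * (g * B.z * g⁻¹) = g * (B.z * B.z) * g⁻¹ by group, B.z_sq]; group)
    obtain ⟨a, ha, ea⟩ := (B.T.mem_iff _).1 hcS
    have hT := (B.isT_iff hb ha).2 (ea ▸ isConj_iff.2 ⟨c * g, by rw [hx]; group⟩)
    have h := List.all_eq_true.1 none_chk a ((mem_sylL a).2 ha)
    rw [hT] at h
    simp only [Bool.not_true, Bool.false_or, Nat.beq_eq] at h
    rw [h, B.hz] at ea
    calc x = c⁻¹ * (c * x * c⁻¹) * c := by group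
      _ = c⁻¹ * (B.z * c) := by rw [← ea, mul_assoc]
      _ = B.z := by rw [← hc, inv_mul_cancel_left]
  obtain ⟨N, hN, hodd, hcomm⟩ := CfsgLib.ZStar.zstar hiso
  rcases IsSimpleGroup.eq_bot_or_eq_top_of_normal N hN with rfl | rfl
  · have hc : B.z ∈ Subgroup.center G := Subgroup.mem_center_iff.2 fun g => by
      have := hcomm g
      rw [Subgroup.mem_bot, mul_inv_eq_one, mul_inv_eq_iff_eq_mul] at this
      exact this.symm
    rcases IsSimpleGroup.eq_bot_or_eq_top_of_normal (Subgroup.center G) inferInstance with hz | hz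
    · rw [hz, Subgroup.mem_bot] at hc
      exact B.z_ne hc
    · obtain ⟨hu, hp, hup⟩ := noncomm
      rw [(B.T.commN_iff hu hp).2 (Subgroup.mem_center_iff.1 (hz ▸ Subgroup.mem_top (B.T.f 17926280)) _)] at hup
      exact Bool.noConfusion hup
  · rw [Subgroup.card_top] at hodd
    exact (Nat.not_even_iff_odd.2 hodd) (even_iff_two_dvd.2 (B.orderOf_z ▸ orderOf_dvd_natCard B.z))

theorem mirS_facts {a : Nat} (ha : InS a) : InS (mirS a) ∧ mirS (mirS a) = a ∧
    (B.F.mirror 5515776 mirS_srep.1).ev a = B.F.ev (mirS a) := by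
  have h := List.all_eq_true.1 mirS_chk a ((mem_sylL a).2 ha)
  rw [Bool.and_eq_true, Bool.and_eq_true, inSB_iff, Nat.beq_eq] at h
  exact ⟨h.1.1, h.1.2, B.F.mirror_ev _ _ h.2⟩

/-- The coordinates with the axes exchanged. -/
noncomputable def mirror : Base G where
  S := B.S
  T :=
    { f := fun a => B.T.f (mirS a)
      map_mul := fun a b ha hb => by
        obtain ⟨i1, -, e1⟩ := B.mirS_facts ha
        obtain ⟨i2, -, e2⟩ := B.mirS_facts hb
        obtain ⟨i3, -, e3⟩ := B.mirS_facts (ha.mul hb)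
        refine B.eq_of_bar (B.T.mem i3) (mul_mem (B.T.mem i1) (B.T.mem i2)) ?_
        rw [bar_mul (B.comm_f i1) (B.comm_f i2), B.lift _ i1, B.lift _ i2, B.lift _ i3, ← e1, ← e2, ← e3,
          (B.F.mirror 5515776 mirS_srep.1).map_mul a b ha.mem hb.mem]
      inj := fun a b ha hb h => by
        obtain ⟨i1, j1, -⟩ := B.mirS_facts ha
        obtain ⟨i2, j2, -⟩ := B.mirS_facts hb
        rw [← j1, B.T.inj _ _ i1 i2 h, j2]
      mem_iff := fun g => by
        constructor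
        · intro hg
          obtain ⟨a, ha, rfl⟩ := (B.T.mem_iff g).1 hg
          obtain ⟨i1, j1, -⟩ := B.mirS_facts ha
          exact ⟨mirS a, i1, by rw [j1]⟩
        · rintro ⟨a, ha, rfl⟩
          exact B.T.mem (B.mirS_facts ha).1 }
  z := B.z
  hz := by show B.T.f (mirS Mdl.tN) = _; rw [mirS_srep.2.1, B.hz]
  F := B.F.mirror 5515776 mirS_srep.1
  lift := fun a ha => by
    obtain ⟨i1, -, e1⟩ := B.mirS_facts ha
    exact (B.lift _ i1).trans e1.symm

theorem isPat_mirror {b : List Bool} (hb : B.IsPat b) : B.mirror.IsPat (mirPat b) := by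
  intro k hk
  obtain ⟨hkind, h2, hne⟩ := mirS_srep.2.2 k hk
  obtain ⟨hlt, g, -, hg⟩ := B.conj_srep (B.mirS_facts ((inSB_iff _).1 (srep_chk k hk).1)).1 h2 hne
  rw [hkind] at hlt hg
  have e : IsConj (B.T.f (srep (mirKind.getD k 0))) (B.mirror.T.f (srep k)) := isConj_iff.2 ⟨g, hg⟩
  have hget : (mirPat b).getD k false = b.getD (mirKind.getD k 0) false := by
    simp only [mirPat]
    rcases k with _|_|_|_|_|_|_|_|k <;> first | rfl | omega
  rw [hget, ← hb _ hlt]
  exact ⟨fun h => IsConj.trans h e.symm, fun h => IsConj.trans h e⟩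

end Base

/-- In a simple group the first axis consists of conjugates of the centre, for a choice of coordinates. -/
theorem exists_pattern {G : Type u} [Group G] [Finite G] [IsSimpleGroup G] (S : Sylow 2 G)
    (T : Tab (S : Subgroup G)) :
    ∃ B : Base G, B.S = S ∧ ∃ d0 d3, B.IsPat patV ∨ B.IsPat (patBoth d0 d3) := by
  obtain ⟨B, rfl⟩ := exists_base S T
  obtain ⟨d0, d3, hb | hb | hb | hb⟩ := B.pat_cases
  · exact absurd hb B.not_patNone
  · exact ⟨B, rfl, d0, d3, Or.inl hb⟩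
  · exact ⟨B.mirror, rfl, d0, d3, Or.inl ((Trichotomy.mirPat_vals d0 d3).2.1 ▸ B.isPat_mirror hb)⟩
  · exact ⟨B, rfl, d0, d3, Or.inr hb⟩

end CfsgLib.L5Type
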