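import Cfsg.Agent.L5Type.SideFacts
import Cfsg.Agent.M24Type.Main
import Cfsg.Agent.Solvable.Basics

/-!
The quotient by the centre acts on each half of the abelian subgroup as `GL(3, 2)`.
-/

set_option autoImplicit false
set_option maxRecDepth 100000
set_option linter.unusedSectionVars false
set_option linter.style.haveILetI false

namespace CfsgLib.L5Type

open CfsgLib.HeldUniq
open CfsgLib.M24Type (mulU act vadd dlt Ctx)

universe u

/-- The data: normal abelian subgroup, no odd core, both fixed vectors moved. -/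
structure Sq (H : Type u) [Group H] [Finite H] where
  /-- The coordinates. -/
  C : Ctx H
  normal : C.A.Normal
  core : Cfsg.oddCore H = ⊥
  moved : ∀ σ, ∃ g, g * C.ι (fixV σ) * g⁻¹ ≠ C.ι (fixV σ)

namespace Sq

variable {H : Type u} [Group H] [Finite H] (D : Sq H)

theorem exists_cv (g : H) (v : Fin 64) : ∃ w, D.C.ι w = g * D.C.ι v * g⁻¹ :=
  D.normal.conj_mem _ ⟨v, rfl⟩ g

/-- The action on the vectors. -/
noncomputable def cv (g : H) (v : Fin 64) : Fin 64 := (D.exists_cv g v).choose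

theorem ι_cv (g : H) (v : Fin 64) : D.C.ι (D.cv g v) = g * D.C.ι v * g⁻¹ :=
  (D.exists_cv g v).choose_spec

theorem cv_mul (g h : H) (v : Fin 64) : D.cv (g * h) v = D.cv g (D.cv h v) := D.C.ι_inj (by
  rw [D.ι_cv, D.ι_cv, D.ι_cv]; group)

theorem cv_one (v : Fin 64) : D.cv 1 v = v := D.C.ι_inj (by rw [D.ι_cv]; group)

theorem cv_vadd (g : H) (v w : Fin 64) : D.cv g (vadd v w) = vadd (D.cv g v) (D.cv g w) := D.C.ι_inj (by
  rw [D.ι_cv, ← D.C.ι_mul, ← D.C.ι_mul, D.ι_cv, D.ι_cv]; group)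

theorem cv_rho (x : Fin 8) (v : Fin 64) : D.cv (D.C.ρ x) v = act x v := D.C.ι_inj (by
  rw [D.ι_cv, D.C.toFrame.conj_ι])

theorem cv_iota (u v : Fin 64) : D.cv (D.C.ι u) v = v := D.C.ι_inj (by
  rw [D.ι_cv, D.C.toFrame.ι_comm, mul_inv_cancel_right])

theorem mem_normalizer (g : H) : g ∈ Subgroup.normalizer (D.C.A : Set H) := by
  haveI := D.normal
  rw [Subgroup.normalizer_eq_top]; trivial

/-- The two invariant halves. -/
structure Halves where
  /-- The halves. -/
  half : Bool → Subgroup H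
  le : ∀ σ, half σ ≤ D.C.A
  inv : ∀ σ g, ∀ a ∈ half σ, g * a * g⁻¹ ∈ half σ
  fix_mem : ∀ σ, D.C.ι (fixV σ) ∈ half σ
  disj : half false ⊓ half true = ⊥
  dec : ∀ a ∈ D.C.A, ∃ b ∈ half false, ∃ c ∈ half true, a = b * c
  card : ∀ σ, Nat.card (half σ) = 8

theorem exists_halves : Nonempty D.Halves := by
  obtain ⟨A₁, A₂, hle₁, hle₂, hN₁, hN₂, hd, hdec, hz₁, hz₂⟩ := D.C.exists_split
  have hn₁ : ∀ g, ∀ a ∈ A₁, g * a * g⁻¹ ∈ A₁ := fun g => hN₁ g (D.mem_normalizer g)
  have hn₂ : ∀ g, ∀ a ∈ A₂, g * a * g⁻¹ ∈ A₂ := fun g => hN₂ g (D.mem_normalizer g)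
  have h₁ : D.C.Half A₁ := ⟨hle₁, fun x => hn₁ _, hz₁⟩
  have h₂ : D.C.Half A₂ := ⟨hle₂, fun x => hn₂ _, hz₂⟩
  have hdec' : ∀ a ∈ D.C.A, ∃ b ∈ A₂, ∃ c ∈ A₁, a = b * c := fun a ha => by
    obtain ⟨b, hb, c, hc, rfl⟩ := hdec a ha
    exact ⟨c, hc, b, hb, D.C.toFrame.comm_of_mem (hle₁ hb) (hle₂ hc)⟩
  have hc₁ := (D.C.half_cards h₁ h₂ hd hdec).1
  have hc₂ := (D.C.half_cards h₂ h₁ (inf_comm A₁ A₂ ▸ hd) hdec').1
  have key : ∀ {A' : Subgroup H}, D.C.Half A' → D.C.ι 1 ∈ A' ∨ D.C.ι 8 ∈ A' := by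
    intro A' hA
    obtain ⟨hle, hinv, a, ha, hne⟩ := hA
    obtain ⟨v, rfl⟩ := hle ha
    have hd' : ∀ x w, D.C.ι w ∈ A' → D.C.ι (dlt x w) ∈ A' := fun x w hw => by
      rw [dlt, ← D.C.ι_mul, ← D.C.toFrame.conj_ι]
      exact mul_mem (hinv x _ hw) hw
    have h0 : dlt 2 v ≠ 0 := fun e => hne (by
      have h' : D.C.ι (act 2 v) * D.C.ι v = 1 := by
        rw [D.C.ι_mul]; exact D.C.toFrame.ι_eq_one.2 e
      rw [D.C.toFrame.conj_ι, eq_inv_of_mul_eq_one_left h', D.C.toFrame.ι_inv])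
    rcases chain_fixed v h0 with e | e | ⟨x, y, e⟩
    · exact Or.inl (e ▸ hd' 2 v ha)
    · exact Or.inr (e ▸ hd' 2 v ha)
    · exact Or.inl (e ▸ hd' x _ (hd' y v ha))
  have hboth : ∀ {v : Fin 64}, v ≠ 0 → D.C.ι v ∈ A₁ → D.C.ι v ∈ A₂ → False := fun hv a b => hv (by
    have : D.C.ι _ ∈ A₁ ⊓ A₂ := ⟨a, b⟩
    rw [hd, Subgroup.mem_bot] at this
    exact D.C.toFrame.ι_eq_one.1 this)
  rcases key h₁ with h1 | h1
  · have h2 : D.C.ι 8 ∈ A₂ := (key h₂).resolve_left (fun h => hboth (by decide) h1 h)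
    exact ⟨⟨fun σ => cond σ A₂ A₁, fun σ => by cases σ <;> assumption,
      fun σ => by cases σ <;> assumption, fun σ => by cases σ <;> assumption, hd, hdec,
      fun σ => by cases σ <;> assumption⟩⟩
  · have h2 : D.C.ι 1 ∈ A₂ := (key h₂).resolve_right (fun h => hboth (by decide) h1 h)
    exact ⟨⟨fun σ => cond σ A₁ A₂, fun σ => by cases σ <;> assumption,
      fun σ => by cases σ <;> assumption, fun σ => by cases σ <;> assumption,
      inf_comm A₁ A₂ ▸ hd, hdec', fun σ => by cases σ <;> assumption⟩⟩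

variable {D} (V : D.Halves)

namespace Halves

theorem disj' : ∀ σ, ∀ a ∈ V.half σ, a ∈ V.half (!σ) → a = 1 := by
  intro σ a ha hb
  have h := V.disj
  cases σ
  · exact (Subgroup.mem_bot).1 (h ▸ Subgroup.mem_inf.2 ⟨ha, hb⟩)
  · exact (Subgroup.mem_bot).1 (h ▸ Subgroup.mem_inf.2 ⟨hb, ha⟩)

theorem part_inj {σ : Bool} {v w : Fin 64} (hv : D.C.ι v ∈ V.half σ) (hw : D.C.ι w ∈ V.half σ)
    (h : part σ v = part σ w) : v = w := by
  have hu : D.C.ι (vadd v w) ∈ V.half σ := by rw [← D.C.ι_mul]; exact mul_mem hv hw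
  have hp : part σ (vadd v w) = 0 := by rw [part_vadd, h]; exact ((xor8_facts _ 0).2.1)
  by_contra hne
  have hz : vadd v w ≠ 0 := fun e => hne (vadd_cancel v w e)
  have hd' : ∀ x u, D.C.ι u ∈ V.half σ → D.C.ι (dlt x u) ∈ V.half σ := fun x u hu => by
    rw [dlt, ← D.C.ι_mul, ← D.C.toFrame.conj_ι]
    exact mul_mem (V.inv σ _ _ hu) hu
  have hm : D.C.ι (fixV (!σ)) ∈ V.half σ := by
    rcases other_part σ _ hz hp with e | ⟨x, e⟩ | ⟨x, y, e⟩
    · exact e ▸ hu
    · exact e ▸ hd' x _ hu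
    · exact e ▸ hd' x _ (hd' y _ hu)
  exact (part_fixV (!σ)).2.2.1 (D.C.toFrame.ι_eq_one.1 (V.disj' σ _ hm (V.fix_mem (!σ))))
where
  vadd_cancel : ∀ v w : Fin 64, vadd v w = 0 → v = w := by decide +kernel

theorem exists_lift (σ : Bool) (m : Fin 8) : ∃ v, D.C.ι v ∈ V.half σ ∧ part σ v = m := by
  classical
  have hinj : Function.Injective (fun a : {v // D.C.ι v ∈ V.half σ} => part σ a.1) :=
    fun a b e => Subtype.ext (V.part_inj a.2 b.2 e)
  have hc : Nat.card {v // D.C.ι v ∈ V.half σ} = 8 := by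
    rw [← V.card σ]
    refine Nat.card_eq_of_bijective (fun a => ⟨D.C.ι a.1, a.2⟩) ⟨fun a b e => ?_, fun g => ?_⟩
    · exact Subtype.ext (D.C.ι_inj (congrArg Subtype.val e))
    · obtain ⟨v, hv⟩ := V.le σ g.2
      exact ⟨⟨v, hv ▸ g.2⟩, Subtype.ext hv⟩
  have hb := (Fintype.bijective_iff_injective_and_card _).2 ⟨hinj, by
    rw [← Nat.card_eq_fintype_card, hc, Fintype.card_fin]⟩
  obtain ⟨⟨v, hv⟩, e⟩ := hb.2 m
  exact ⟨v, hv, e⟩

/-- The vector of a half with given component. -/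
noncomputable def lift (σ : Bool) (m : Fin 8) : Fin 64 := (V.exists_lift σ m).choose

theorem lift_mem (σ : Bool) (m : Fin 8) : D.C.ι (V.lift σ m) ∈ V.half σ := (V.exists_lift σ m).choose_spec.1

theorem part_lift (σ : Bool) (m : Fin 8) : part σ (V.lift σ m) = m := (V.exists_lift σ m).choose_spec.2

theorem lift_part {σ : Bool} {v : Fin 64} (hv : D.C.ι v ∈ V.half σ) : V.lift σ (part σ v) = v :=
  V.part_inj (V.lift_mem σ _) hv (V.part_lift σ _)

/-- The image of a component. -/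
noncomputable def img (σ : Bool) (g : H) (m : Fin 8) : Fin 8 := part σ (D.cv g (V.lift σ m))

theorem cv_mem {σ : Bool} (g : H) {v : Fin 64} (hv : D.C.ι v ∈ V.half σ) :
    D.C.ι (D.cv g v) ∈ V.half σ := by rw [D.ι_cv]; exact V.inv σ g _ hv

theorem part_cv {σ : Bool} (g : H) {v : Fin 64} (hv : D.C.ι v ∈ V.half σ) :
    part σ (D.cv g v) = V.img σ g (part σ v) := by rw [img, V.lift_part hv]

theorem img_mul (σ : Bool) (g h : H) (m : Fin 8) : V.img σ (g * h) m = V.img σ g (V.img σ h m) := by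
  rw [img, D.cv_mul, V.part_cv g (V.cv_mem h (V.lift_mem σ m))]; rfl

theorem img_one (σ : Bool) (m : Fin 8) : V.img σ 1 m = m := by rw [img, D.cv_one, V.part_lift]

theorem img_xor (σ : Bool) (g : H) (m n : Fin 8) :
    V.img σ g (xor8 m n) = xor8 (V.img σ g m) (V.img σ g n) := by
  have hmem : D.C.ι (vadd (V.lift σ m) (V.lift σ n)) ∈ V.half σ := by
    rw [← D.C.ι_mul]; exact mul_mem (V.lift_mem σ m) (V.lift_mem σ n)
  have e : V.lift σ (xor8 m n) = vadd (V.lift σ m) (V.lift σ n) := V.part_inj (V.lift_mem σ _) hmem (by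
    rw [V.part_lift, part_vadd, V.part_lift, V.part_lift])
  rw [img, e, D.cv_vadd, part_vadd]; rfl

theorem img_zero (σ : Bool) (g : H) : V.img σ g 0 = 0 := by
  have h := V.img_xor σ g 0 0
  rwa [(xor8_facts 0 0).2.1, (xor8_facts _ 0).2.1] at h

/-- The matrix on a half. -/
noncomputable def mat (σ : Bool) (g : H) : Nat := pack (V.img σ g 1) (V.img σ g 2) (V.img σ g 4)

theorem app_mat (σ : Bool) (g : H) (m : Fin 8) : Mdl.app (V.mat σ g) m.1 = (V.img σ g m).1 := by
  rw [mat, app_pack]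
  conv_rhs => rw [xor8_units m, V.img_xor, V.img_xor]
  have hc : ∀ (b : Bool) (k : Fin 8), V.img σ g (cond b k 0) = cond b (V.img σ g k) 0 := fun b k => by
    cases b
    · exact V.img_zero σ g
    · rfl
  rw [hc, hc, hc]

theorem mat_mul (σ : Bool) (g h : H) : V.mat σ (g * h) = Mdl.mmul (V.mat σ g) (V.mat σ h) := by
  have hcol : ∀ a b c : Fin 8, Mdl.col (pack a b c) 0 = a.1 ∧ Mdl.col (pack a b c) 1 = b.1 ∧
      Mdl.col (pack a b c) 2 = c.1 := by decide +kernel
  rw [Mdl.mmul, show V.mat σ h = pack (V.img σ h 1) (V.img σ h 2) (V.img σ h 4) from rfl,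
    (hcol _ _ _).1, (hcol _ _ _).2.1, (hcol _ _ _).2.2, V.app_mat, V.app_mat, V.app_mat,
    ← V.img_mul, ← V.img_mul, ← V.img_mul]
  rfl

theorem mat_one (σ : Bool) : V.mat σ 1 = Mdl.mone := by
  rw [mat, V.img_one, V.img_one, V.img_one]; rfl

theorem mat_lt (σ : Bool) (g : H) : V.mat σ g < 512 := by
  rw [mat, pack]; omega

theorem mat_glL (σ : Bool) (g : H) : V.mat σ g ∈ glL :=
  mem_glL_of_inverse (V.mat_lt σ g) (V.mat_lt σ g⁻¹)
    (by rw [← V.mat_mul, mul_inv_cancel, V.mat_one]) (by rw [← V.mat_mul, inv_mul_cancel, V.mat_one])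

theorem img_rho (σ : Bool) (x : Fin 8) (m : Fin 8) :
    (V.img σ (D.C.ρ x) m).1 = Mdl.app (tabM σ x) m.1 := by
  rw [img, D.cv_rho, part_act, V.part_lift]

theorem mat_rho (σ : Bool) (x : Fin 8) : V.mat σ (D.C.ρ x) = tabM σ x := by
  have key : ∀ σ x, Mdl.app (tabM σ x) 1 + 8 * Mdl.app (tabM σ x) 2 + 64 * Mdl.app (tabM σ x) 4 =
      tabM σ x := by decide +kernel
  rw [mat, pack, V.img_rho, V.img_rho, V.img_rho]
  exact key σ x

theorem mat_iota (σ : Bool) (u : Fin 64) : V.mat σ (D.C.ι u) = Mdl.mone := by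
  have e : ∀ m, V.img σ (D.C.ι u) m = m := fun m => by rw [img, D.cv_iota, V.part_lift]
  rw [mat, e, e, e]; rfl

theorem img_eq_of_mat {σ : Bool} {g : H} (h : V.mat σ g = Mdl.mone) (m : Fin 8) : V.img σ g m = m := by
  refine Fin.ext ?_
  rw [← V.app_mat, h, app_mone]

/-- An element acting trivially on both halves lies in the abelian subgroup. -/
theorem mem_A_of_trivial {g : H} (h0 : V.mat false g = Mdl.mone) (h1 : V.mat true g = Mdl.mone) :
    g ∈ D.C.A := by
  classical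
  haveI : Fact (Nat.Prime 2) := ⟨Nat.prime_two⟩
  have hfix : ∀ (g : H), V.mat false g = Mdl.mone → V.mat true g = Mdl.mone →
      ∀ a ∈ D.C.A, g * a = a * g := by
    intro g h0 h1
    have hh : ∀ σ, V.mat σ g = Mdl.mone → ∀ a ∈ V.half σ, g * a = a * g := by
      intro σ hσ a ha
      obtain ⟨v, rfl⟩ := V.le σ ha
      have e : D.cv g v = v := V.part_inj (V.cv_mem g ha) ha (by
        rw [V.part_cv g ha, V.img_eq_of_mat hσ])
      exact mul_inv_eq_iff_eq_mul.1 (by rw [← D.ι_cv, e])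
    intro a ha
    obtain ⟨b, hb, c, hc, rfl⟩ := V.dec a ha
    rw [← mul_assoc, hh false h0 b hb, mul_assoc, hh true h1 c hc, mul_assoc]
  haveI := D.normal
  set K := Subgroup.centralizer (D.C.A : Set H) with hK
  haveI hKn : K.Normal := by
    rw [hK]; infer_instance
  have hgK : g ∈ K := Subgroup.mem_centralizer_iff.2 fun a ha => (hfix g h0 h1 a ha).symm
  have hAK : D.C.A ≤ K := fun a ha => Subgroup.mem_centralizer_iff.2 fun b hb =>
    D.C.toFrame.comm_of_mem hb ha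
  have hST : CfsgLib.Fusion.SylowIn 2 (D.C.T : Subgroup H) ⊤ := ⟨le_top, D.C.T.subtype le_top, rfl⟩
  obtain ⟨-, R, hR⟩ := hST.inf_normal (N := K) le_top (fun g _ => by rw [Subgroup.normalizer_eq_top]; trivial)
  have hTK : (D.C.T : Subgroup H) ⊓ K = D.C.A := by
    refine le_antisymm (fun x hx => ?_) (le_inf D.C.A_le_T hAK)
    refine D.C.toFrame.centralizer_le ?_ fun a ha => (Subgroup.mem_centralizer_iff.1 hx.2 a ha).symm
    exact D.C.hT.symm ▸ hx.1
  rw [hTK] at hR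
  have hP : Subgroup.normalizer (R : Subgroup K) ≤ Subgroup.centralizer ((R : Subgroup K) : Set K) := by
    intro n _
    refine Subgroup.mem_centralizer_iff.2 fun s hs => Subtype.ext ?_
    have : (s : H) ∈ D.C.A := by rw [hR] at hs; exact hs
    exact Subgroup.mem_centralizer_iff.1 n.2 _ this
  set Q := (MonoidHom.transferSylow R hP).ker with hQ
  have hQodd : ¬ 2 ∣ Nat.card Q := MonoidHom.not_dvd_card_ker_transferSylow R hP
  have hQmem : ∀ x : K, (orderOf x).Coprime 2 → x ∈ Q := by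
    intro x hx
    rw [hQ, MonoidHom.mem_ker, ← orderOf_eq_one_iff]
    refine Nat.eq_one_of_dvd_coprimes ?_ (orderOf_map_dvd _ x) (orderOf_dvd_natCard _)
    obtain ⟨k, hk⟩ := IsPGroup.iff_card.1 R.isPGroup'
    rw [hk]
    exact hx.pow_right k
  have hQn : (Q.map K.subtype).Normal := ⟨by
    rintro _ ⟨q, hq, rfl⟩ c
    refine ⟨⟨c * q * c⁻¹, hKn.conj_mem _ q.2 c⟩, hQmem _ ?_, rfl⟩
    rw [← orderOf_injective K.subtype K.subtype_injective]
    show (orderOf (c * (q : H) * c⁻¹)).Coprime 2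
    rw [show orderOf (c * (q : H) * c⁻¹) = orderOf (q : H) from
      orderOf_injective (MulAut.conj c).toMonoidHom (MulAut.conj c).injective _]
    have hdvd : orderOf (q : H) ∣ Nat.card Q := by
      rw [Subgroup.orderOf_coe, ← Subgroup.orderOf_mk q hq]
      exact orderOf_dvd_natCard _
    exact Nat.Coprime.coprime_dvd_left hdvd ((Nat.prime_two.coprime_iff_not_dvd.2 hQodd).symm)⟩
  have hQ1 : Q = ⊥ := by
    have hle : Q.map K.subtype ≤ Cfsg.oddCore H := CfsgLib.Solvable.le_pPrimeCore 2 hQn (by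
      rw [Subgroup.card_map_of_injective K.subtype_injective]
      exact (Nat.prime_two.coprime_iff_not_dvd.2 hQodd).symm)
    rw [D.core, le_bot_iff, Subgroup.map_eq_bot_iff_of_injective _ K.subtype_injective] at hle
    exact hle
  have hc := MonoidHom.ker_transferSylow_isComplement' R hP
  rw [← hQ, hQ1] at hc
  have htop : (R : Subgroup K) = ⊤ := Subgroup.isComplement'_bot_left.1 hc
  have hxR : (⟨g, hgK⟩ : K) ∈ (R : Subgroup K) := htop.ge (Subgroup.mem_top _)
  rw [hR] at hxR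
  exact hxR

/-- An element of a normal subgroup of odd index over `A` acting trivially on one half is trivial there. -/
theorem mat_trivial {σ : Bool} {g : H} (h : V.mat σ g = Mdl.mone) : g ∈ D.C.A := by
  classical
  haveI : Fact (Nat.Prime 2) := ⟨Nat.prime_two⟩
  haveI := D.normal
  let K : Subgroup H :=
    { carrier := {g | V.mat σ g = Mdl.mone}
      one_mem' := V.mat_one σ
      mul_mem' := fun {a b} (ha : V.mat σ a = _) (hb : V.mat σ b = _) => by
        show V.mat σ (a * b) = _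
        rw [V.mat_mul, ha, hb]; rfl
      inv_mem' := fun {a} (ha : V.mat σ a = _) => by
        have h := V.mat_mul σ a⁻¹ a
        rw [inv_mul_cancel, V.mat_one, ha] at h
        show V.mat σ a⁻¹ = _
        have hm := mul_mone _ (V.mat_glL σ a⁻¹)
        rw [← hm]; exact h.symm }
  haveI hKn : K.Normal := ⟨fun a (ha : V.mat σ a = _) c => by
    show V.mat σ (c * a * c⁻¹) = _
    rw [V.mat_mul, V.mat_mul, ha, mul_mone _ (V.mat_glL σ c), ← V.mat_mul, mul_inv_cancel, V.mat_one]⟩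
  have hAK : D.C.A ≤ K := by
    rintro _ ⟨u, rfl⟩
    exact V.mat_iota σ u
  have hST : CfsgLib.Fusion.SylowIn 2 (D.C.T : Subgroup H) ⊤ := ⟨le_top, D.C.T.subtype le_top, rfl⟩
  obtain ⟨-, R, hR⟩ := hST.inf_normal (N := K) le_top (fun g _ => by rw [Subgroup.normalizer_eq_top]; trivial)
  have hTK : (D.C.T : Subgroup H) ⊓ K = D.C.A := by
    refine le_antisymm (fun x hx => ?_) (le_inf D.C.A_le_T hAK)
    obtain ⟨v, y, rfl⟩ := D.C.nf hx.1
    have hm : V.mat σ (D.C.ι v * D.C.ρ y) = Mdl.mone := hx.2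
    rw [V.mat_mul, V.mat_iota, V.mat_rho] at hm
    exact D.C.toFrame.nf_mem_A.2 (tabM_facts.2.2 σ y ((mone_mul _ (tabM_gl σ y)).symm.trans hm))
  rw [hTK] at hR
  set n := (R : Subgroup K).index with hn
  have hodd : Odd n := by
    rw [← Nat.not_even_iff_odd, even_iff_two_dvd]; exact R.not_dvd_index
  haveI : (R : Subgroup K).Normal := by rw [hR]; infer_instance
  have hpow : ∀ (m : H) (j : ℕ), V.mat (!σ) (m ^ j) = mpow (V.mat (!σ) m) j := by
    intro m j
    induction j with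
    | zero => rw [pow_zero, V.mat_one]; rfl
    | succ j ih => rw [pow_succ', V.mat_mul, ih]; rfl
  have hn1 : ∀ m ∈ K, V.mat (!σ) (m ^ n) = Mdl.mone := fun m hm => by
    have h := Subgroup.pow_index_mem (R : Subgroup K) ⟨m, hm⟩
    rw [← hn, hR, Subgroup.mem_subgroupOf] at h
    obtain ⟨u, hu⟩ := h
    rw [show m ^ n = D.C.ι u from hu.symm, V.mat_iota]
  have h21 : ∀ m ∈ K, mpow (V.mat (!σ) m) 21 = Mdl.mone := by
    intro m hm
    let φ : H →* Function.End (Fin 8) :=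
      { toFun := fun a => V.img (!σ) a
        map_one' := funext fun k => V.img_one (!σ) k
        map_mul' := fun a b => funext fun k => V.img_mul (!σ) a b k }
    have hφ : ∀ a, V.mat (!σ) a = Mdl.mone → φ a = 1 := fun a ha => funext fun k => V.img_eq_of_mat ha k
    have d1 : orderOf (φ m) ∣ n := orderOf_dvd_of_pow_eq_one (by rw [← map_pow]; exact hφ _ (hn1 m hm))
    have d2 : orderOf (φ m) ∣ 84 := orderOf_dvd_of_pow_eq_one (by
      rw [← map_pow]
      refine hφ _ ?_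
      rw [hpow]
      have h84 := List.all_eq_true.1 exp_chk _ (V.mat_glL (!σ) m)
      simp only [Bool.and_eq_true, Nat.beq_eq] at h84
      exact h84.1)
    have d3 : orderOf (φ m) ∣ 21 := by
      have hco : Nat.Coprime (orderOf (φ m)) 4 := by
        have h2 : Nat.Coprime n 4 := by
          rw [show (4 : ℕ) = 2 ^ 2 by norm_num]
          exact (Nat.Coprime.pow_right 2 ((Nat.prime_two.coprime_iff_not_dvd.2 (by
            rw [← even_iff_two_dvd, Nat.not_even_iff_odd]; exact hodd)).symm))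
        exact Nat.Coprime.coprime_dvd_left d1 h2
      exact hco.dvd_of_dvd_mul_left (show orderOf (φ m) ∣ 4 * 21 from d2)
    rw [← hpow]
    have hone : φ (m ^ 21) = 1 := by rw [map_pow]; exact orderOf_dvd_iff_pow_eq_one.1 d3
    have e : ∀ k, V.img (!σ) (m ^ 21) k = k := fun k => congrFun hone k
    rw [mat, e, e, e]; rfl
  have h21g := h21 g h
  have hc := List.all_eq_true.1 exp_chk _ (V.mat_glL (!σ) g)
  simp only [h21g, Bool.and_eq_true, Bool.or_eq_true, Nat.beq_eq, Bool.not_eq_true', Nat.beq_refl,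
    Bool.true_eq_false, false_or] at hc
  rcases hc.2 with e | ⟨w0, w1⟩
  · cases σ
    · exact V.mem_A_of_trivial h e
    · exact V.mem_A_of_trivial e h
  exfalso
  have hw : evenWitness (!σ) (V.mat (!σ) g) = true := by cases σ <;> assumption
  simp only [evenWitness, List.any_eq_true, Bool.and_eq_true, Nat.beq_eq, Bool.not_eq_true',
    List.mem_finRange, true_and] at hw
  obtain ⟨x, x', hxx, hw1, hw4⟩ := hw
  have hinv : D.C.ρ x' = (D.C.ρ x)⁻¹ := (inv_eq_of_mul_eq_one_right (by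
    rw [D.C.ρ_mul, show mulU x x' = 0 from Fin.ext hxx, D.C.toFrame.ρ_zero])).symm
  set w := g * (D.C.ρ x * g * (D.C.ρ x)⁻¹) with hwdef
  have hwK : w ∈ K := mul_mem h (hKn.conj_mem _ h _)
  have hmw : V.mat (!σ) w = Mdl.mmul (V.mat (!σ) g)
      (Mdl.mmul (Mdl.mmul (tabM (!σ) x) (V.mat (!σ) g)) (tabM (!σ) x')) := by
    rw [hwdef, ← hinv, V.mat_mul, V.mat_mul, V.mat_mul, V.mat_rho, V.mat_rho]
  rw [← hmw] at hw1 hw4
  have h4 := four_twentyone _ (V.mat_glL (!σ) w) hw4 (h21 w hwK)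
  rw [h4, Nat.beq_refl] at hw1
  exact Bool.noConfusion hw1
where
  mul_mone : ∀ a ∈ glL, Mdl.mmul a Mdl.mone = a := by decide +kernel
  mone_mul : ∀ a ∈ glL, Mdl.mmul Mdl.mone a = a := by decide +kernel
  tabM_gl : ∀ σ x, tabM σ x ∈ glL := by decide +kernel
  four_twentyone : ∀ a ∈ glL, Mdl.mmul (Mdl.mmul a a) (Mdl.mmul a a) = Mdl.mone →
      mpow a 21 = Mdl.mone → a = Mdl.mone := by decide +kernel

theorem moves_line (σ : Bool) : ∃ g, V.img σ g 1 ≠ 1 := by
  obtain ⟨g, hg⟩ := D.moved σ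
  refine ⟨g, fun e => hg ?_⟩
  have hm := V.fix_mem σ
  rw [← D.ι_cv]
  congr 1
  refine V.part_inj (V.cv_mem g hm) hm ?_
  rw [V.part_cv g hm, (part_fixV σ).1, e]

theorem moves_plane (σ : Bool) : ∃ g, ¬((V.img σ g 1).1 < 4 ∧ (V.img σ g 2).1 < 4) := by
  by_contra hcon
  push Not at hcon
  have hplane : ∀ g (m : Fin 8), m.1 < 4 → (V.img σ g m).1 < 4 := by
    intro g m hm
    have h3 : V.img σ g 3 = xor8 (V.img σ g 1) (V.img σ g 2) := by rw [← V.img_xor]; rfl
    have key : ∀ a b : Fin 8, a.1 < 4 → b.1 < 4 → (xor8 a b).1 < 4 := by decide +kernel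
    obtain ⟨h1, h2⟩ := hcon g
    have : m = 0 ∨ m = 1 ∨ m = 2 ∨ m = 3 := by
      revert hm; revert m; decide +kernel
    rcases this with rfl | rfl | rfl | rfl
    · rw [V.img_zero]; decide
    · exact h1
    · exact h2
    · rw [h3]; exact key _ _ h1 h2
  obtain ⟨g, hg⟩ := D.moved (!σ)
  apply hg
  have hm := V.fix_mem (!σ)
  rw [← D.ι_cv]
  congr 1
  refine V.part_inj (V.cv_mem g hm) hm ?_
  have hfix : ∀ x, tabM σ x % 64 = Mdl.mone % 64 → act x (D.cv g (fixV (!σ))) = D.cv g (fixV (!σ)) := by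
    intro x hx
    set k := g⁻¹ * D.C.ρ x * g with hk
    have hxm : ∀ m : Fin 8, m.1 < 4 → V.img σ (D.C.ρ x) m = m := fun m hm =>
      Fin.ext (by rw [V.img_rho]; exact plane_app σ x hx m hm)
    have hkm : ∀ m : Fin 8, m.1 < 4 → V.img σ k m = m := by
      intro m hm
      rw [hk, V.img_mul, V.img_mul, hxm _ (hplane g m hm), ← V.img_mul, inv_mul_cancel, V.img_one]
    have he := List.all_eq_true.1 elation _ (V.mat_glL σ k)
    have a1 : Mdl.app (V.mat σ k) 1 = 1 := (V.app_mat σ k 1).trans (congrArg Fin.val (hkm 1 (by decide)))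
    have a2 : Mdl.app (V.mat σ k) 2 = 2 := (V.app_mat σ k 2).trans (congrArg Fin.val (hkm 2 (by decide)))
    simp only [a1, a2, Nat.beq_refl, Bool.not_true, Bool.false_or, List.all_eq_true, List.any_eq_true,
      Nat.beq_eq] at he
    obtain ⟨x', -, hx'⟩ := he σ (by cases σ <;> simp)
    have hA : k * (D.C.ρ x')⁻¹ ∈ D.C.A := by
      refine V.mat_trivial (σ := σ) ?_
      rw [V.mat_mul, ← hx', ← V.mat_rho, ← V.mat_mul, mul_inv_cancel, V.mat_one]
    obtain ⟨a, ha⟩ := hA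
    have hxg : D.C.ρ x * g = g * (D.C.ι a * D.C.ρ x') := by rw [ha, inv_mul_cancel_right, hk]; group
    rw [← D.cv_rho, ← D.cv_mul, hxg, D.cv_mul, D.cv_mul, D.cv_rho, D.cv_iota,
      (part_fixV (!σ)).2.2.2 x']
  rcases plane_fixed σ _ hfix with e | e
  · exfalso
    have h0 : D.cv g (fixV (!σ)) = 0 := V.part_inj (σ := !σ) (V.cv_mem g hm)
      (by rw [D.C.toFrame.ι_zero]; exact one_mem _) (e.trans (by cases σ <;> rfl))
    have := D.ι_cv g (fixV (!σ))
    rw [h0, D.C.toFrame.ι_zero] at this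
    exact (part_fixV (!σ)).2.2.1 (D.C.toFrame.ι_eq_one.1 (conj_eq_one_iff.1 this.symm))
  · exact e.trans (part_fixV (!σ)).1.symm
where
  plane_app : ∀ σ x, tabM σ x % 64 = Mdl.mone % 64 → ∀ m : Fin 8, m.1 < 4 →
      Mdl.app (tabM σ x) m.1 = m.1 := by decide +kernel

/-- Every invertible matrix occurs on each half. -/
theorem mat_surj (σ : Bool) : ∀ m ∈ glL, ∃ g, V.mat σ g = m := by
  have hcol : ∀ g, Mdl.col (V.mat σ g) 0 = (V.img σ g 1).1 ∧ Mdl.col (V.mat σ g) 1 = (V.img σ g 2).1 := by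
    have key : ∀ a b c : Fin 8, Mdl.col (pack a b c) 0 = a.1 ∧ Mdl.col (pack a b c) 1 = b.1 := by
      decide +kernel
    exact fun g => key _ _ _
  obtain ⟨g, hg1, hg2⟩ : ∃ g, V.img σ g 1 ≠ 1 ∧ ¬((V.img σ g 1).1 < 4 ∧ (V.img σ g 2).1 < 4) := by
    obtain ⟨a, ha⟩ := V.moves_line σ
    obtain ⟨b, hb⟩ := V.moves_plane σ
    by_cases ha' : (V.img σ a 1).1 < 4 ∧ (V.img σ a 2).1 < 4
    · by_cases hb' : V.img σ b 1 = 1
      · have hpl : ∀ m : Fin 8, m.1 < 4 → (V.img σ a m).1 < 4 := by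
          intro m hm
          have h3 : V.img σ a 3 = xor8 (V.img σ a 1) (V.img σ a 2) := by rw [← V.img_xor]; rfl
          have key : ∀ a b : Fin 8, a.1 < 4 → b.1 < 4 → (xor8 a b).1 < 4 := by decide +kernel
          have : m = 0 ∨ m = 1 ∨ m = 2 ∨ m = 3 := by revert hm; revert m; decide +kernel
          rcases this with rfl | rfl | rfl | rfl
          · rw [V.img_zero]; decide
          · exact ha'.1
          · exact ha'.2
          · rw [h3]; exact key _ _ ha'.1 ha'.2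
        refine ⟨a * b, by rw [V.img_mul, hb']; exact ha, fun hab => hb ?_⟩
        have hinj : Function.Injective (V.img σ a) := fun i j e => by
          have := congrArg (V.img σ a⁻¹) e
          rwa [← V.img_mul, ← V.img_mul, inv_mul_cancel, V.img_one, V.img_one] at this
        have hback : ∀ m : Fin 8, (V.img σ a m).1 < 4 → m.1 < 4 := by
          intro m hm
          let f : {m : Fin 8 // m.1 < 4} → {m : Fin 8 // m.1 < 4} := fun m => ⟨V.img σ a m.1, hpl m.1 m.2⟩
          obtain ⟨⟨m', hm'⟩, e⟩ := (Finite.injective_iff_surjective.1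
            (fun i j e => Subtype.ext (hinj (congrArg Subtype.val e)) : Function.Injective f)) ⟨_, hm⟩
          rw [← hinj (congrArg Subtype.val e)]; exact hm'
        exact ⟨hback _ (by rw [← V.img_mul]; exact hab.1), hback _ (by rw [← V.img_mul]; exact hab.2)⟩
      · exact ⟨b, hb', hb⟩
    · exact ⟨a, ha, ha'⟩
  refine all_of_moves (P := fun m => ∃ g, V.mat σ g = m) ?_ ?_ (V.mat_glL σ g) ⟨g, rfl⟩ ?_
  · rintro _ _ ⟨a, rfl⟩ ⟨b, rfl⟩; exact ⟨a * b, V.mat_mul σ a b⟩
  · intro m hm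
    obtain ⟨x, rfl⟩ := tabM_facts.2.1 σ m hm
    exact ⟨D.C.ρ x, V.mat_rho σ x⟩
  · simp only [movesBoth, Bool.and_eq_true, Bool.not_eq_true', Bool.and_eq_false_iff, (hcol g).1, (hcol g).2]
    refine ⟨?_, ?_⟩
    · cases h : Nat.beq (V.img σ g 1).1 1
      · rfl
      · exact absurd (Fin.ext (Nat.eq_of_beq_eq_true h)) hg1
    · cases h : Nat.blt (V.img σ g 1).1 4
      · exact Or.inl rfl
      · cases h' : Nat.blt (V.img σ g 2).1 4
        · exact Or.inr rfl
        · rw [Nat.blt_eq] at h h'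
          exact absurd ⟨h, h'⟩ hg2

include V in
/-- The abelian subgroup has index 168. -/
theorem index_A : D.C.A.index = 168 := by
  classical
  haveI := D.normal
  rw [Subgroup.index_eq_card, ← glL_card.1]
  have hmm : ∀ a ∈ glL, Mdl.mmul a Mdl.mone = a := by decide +kernel
  let f : H ⧸ D.C.A → {m : Nat // m ∈ glL} := fun q =>
    ⟨Quotient.liftOn' q (V.mat false) (fun a b e => by
      obtain ⟨u, hu⟩ := QuotientGroup.leftRel_apply.1 e
      rw [show b = a * D.C.ι u by rw [hu]; group, V.mat_mul, V.mat_iota, hmm _ (V.mat_glL _ a)]),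
      by refine Quotient.inductionOn' q fun a => ?_; exact V.mat_glL false a⟩
  have hf : Function.Bijective f := by
    refine ⟨fun p q => ?_, fun m => ?_⟩
    · refine Quotient.inductionOn₂' p q fun a b e => ?_
      have e' : V.mat false a = V.mat false b := congrArg Subtype.val e
      refine QuotientGroup.eq.2 (V.mat_trivial (σ := false) ?_)
      rw [V.mat_mul, ← e', ← V.mat_mul, inv_mul_cancel, V.mat_one]
    · obtain ⟨g, hg⟩ := V.mat_surj false m.1 m.2
      exact ⟨QuotientGroup.mk g, Subtype.ext hg⟩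
  have h := Nat.card_congr (Equiv.ofBijective f hf)
  rw [h, Nat.card_eq_fintype_card, Fintype.card_of_subtype glL.toFinset (fun x => List.mem_toFinset),
    List.toFinset_card_of_nodup glL_card.2]

/-- Every nonzero vector of a half is conjugate to its fixed vector. -/
theorem transitive {σ : Bool} {v : Fin 64} (hv : D.C.ι v ∈ V.half σ) (h0 : v ≠ 0) :
    ∃ g, D.cv g (fixV σ) = v := by
  have hp : (part σ v).1 ≠ 0 := fun e => h0 (V.part_inj hv (by rw [D.C.toFrame.ι_zero]; exact one_mem _)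
    ((Fin.ext e : part σ v = 0).trans (by cases σ <;> rfl)))
  have h := List.all_eq_true.1 glL_transitive _ (List.mem_range.2 (part σ v).2)
  simp only [Bool.or_eq_true, Nat.beq_eq, hp, false_or, List.any_eq_true] at h
  obtain ⟨m, hm, e⟩ := h
  obtain ⟨g, rfl⟩ := V.mat_surj σ m hm
  refine ⟨g, V.part_inj (V.cv_mem g (V.fix_mem σ)) hv ?_⟩
  rw [V.part_cv g (V.fix_mem σ), (part_fixV σ).1]
  refine Fin.ext ?_
  rw [← e, ← V.app_mat]
  exact app_col _
where
  app_col : ∀ (m : Nat), Mdl.app m 1 = Mdl.col m 0 := fun m => by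
    show Nat.xor (Nat.mul 1 (Mdl.col m 0)) (Nat.xor (Nat.mul 0 (Mdl.col m 1)) (Nat.mul 0 (Mdl.col m 2))) = _
    show (1 * Mdl.col m 0) ^^^ ((0 * Mdl.col m 1) ^^^ (0 * Mdl.col m 2)) = _
    simp

end Halves

end Sq

end CfsgLib.L5Type
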