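import Cfsg.Agent.L5Type.Matrices
import Cfsg.Agent.M24Type.Model

/-!
Finite facts on the two halves of `2^6` under the dihedral group.
-/

set_option autoImplicit false
set_option maxRecDepth 100000

namespace CfsgLib.L5Type

open CfsgLib.HeldUniq
open CfsgLib.M24Type (mulU act vadd dlt)

/-- The component of a vector in a half. -/
def part (σ : Bool) (v : Fin 64) : Fin 8 :=
  ⟨(cond σ (v.1 / 8) (v.1 % 8)) % 8, Nat.mod_lt _ (by norm_num)⟩

/-- The sum of components. -/
def xor8 (a b : Fin 8) : Fin 8 := ⟨(a.1 ^^^ b.1) % 8, Nat.mod_lt _ (by norm_num)⟩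

/-- The fixed vector of a half. -/
def fixV (σ : Bool) : Fin 64 := cond σ 8 1

/-- A vector with given component in the standard half. -/
def stdV (σ : Bool) (m : Fin 8) : Fin 64 :=
  ⟨(cond σ (8 * m.1) m.1) % 64, Nat.mod_lt _ (by norm_num)⟩

/-- The matrix with the given images of the three unit vectors. -/
def pack (a b c : Fin 8) : Nat := a.1 + 8 * b.1 + 64 * c.1

/-- The matrix of an element of the complement on a half. -/
def tabM (σ : Bool) (x : Fin 8) : Nat :=
  pack (part σ (act x (stdV σ 1))) (part σ (act x (stdV σ 2))) (part σ (act x (stdV σ 4)))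

theorem part_vadd : ∀ σ v w, part σ (vadd v w) = xor8 (part σ v) (part σ w) := by decide +kernel

theorem part_act : ∀ σ x v, (part σ (act x v)).1 = Mdl.app (tabM σ x) (part σ v).1 := by decide +kernel

theorem part_fixV : ∀ σ, part σ (fixV σ) = 1 ∧ part (!σ) (fixV σ) = 0 ∧ fixV σ ≠ 0 ∧
    ∀ x, act x (fixV σ) = fixV σ := by decide +kernel

theorem app_pack : ∀ a b c m : Fin 8, Mdl.app (pack a b c) m.1 =
    (xor8 (cond (m.1.testBit 0) a 0) (xor8 (cond (m.1.testBit 1) b 0) (cond (m.1.testBit 2) c 0))).1 := by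
  decide +kernel

theorem xor8_units : ∀ m : Fin 8, m = xor8 (cond (m.1.testBit 0) 1 0)
    (xor8 (cond (m.1.testBit 1) 2 0) (cond (m.1.testBit 2) 4 0)) := by decide +kernel

theorem xor8_facts : ∀ a b : Fin 8, xor8 a b = xor8 b a ∧ xor8 a a = 0 ∧ (xor8 a b = 0 → a = b) ∧
    xor8 0 a = a := by decide +kernel

theorem tabM_facts : (∀ σ x, tabM σ x ∈ uMats) ∧ (∀ σ, ∀ m ∈ uMats, ∃ x, tabM σ x = m) ∧
    (∀ σ x, tabM σ x = Mdl.mone → x = 0) := by decide +kernel

/-- A moved fixed vector comes from a fixed vector of one of the halves. -/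
theorem chain_fixed : ∀ v, dlt 2 v ≠ 0 → dlt 2 v = 1 ∨ dlt 2 v = 8 ∨ ∃ x y, dlt x (dlt y v) = 1 := by
  decide +kernel

/-- A vector with zero component leads to the other fixed vector. -/
theorem other_part : ∀ σ v, v ≠ 0 → part σ v = 0 → v = fixV (!σ) ∨ (∃ x, dlt x v = fixV (!σ)) ∨
    ∃ x y, dlt x (dlt y v) = fixV (!σ) := by decide +kernel

/-- The matrices fixing the plane pointwise. -/
theorem elation : (glL.all fun g => !Nat.beq (Mdl.app g 1) 1 || !Nat.beq (Mdl.app g 2) 2 ||
    [false, true].all fun σ => (List.finRange 8).any fun x => Nat.beq (tabM σ x) g) = true := by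
  decide +kernel

/-- Vectors fixed by those fixing the plane of a half pointwise. -/
theorem plane_fixed : ∀ σ v, (∀ x, tabM σ x % 64 = Mdl.mone % 64 → act x v = v) →
    part (!σ) v = 0 ∨ part (!σ) v = 1 := by decide +kernel

/-- Whether some product with a conjugate by the unitriangular group has two-power order. -/
def evenWitness (σ : Bool) (g : Nat) : Bool :=
  (List.finRange 8).any fun x => (List.finRange 8).any fun x' =>
    Nat.beq (mulU x x').1 0 &&
      (let w := Mdl.mmul g (Mdl.mmul (Mdl.mmul (tabM σ x) g) (tabM σ x'))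
       !Nat.beq w Mdl.mone && Nat.beq (Mdl.mmul (Mdl.mmul w w) (Mdl.mmul w w)) Mdl.mone)

/-- The power of a matrix. -/
def mpow (g : Nat) : Nat → Nat
  | 0 => Mdl.mone
  | n + 1 => Mdl.mmul g (mpow g n)

theorem exp_chk : (glL.all fun g => Nat.beq (mpow g 84) Mdl.mone &&
    (!Nat.beq (mpow g 21) Mdl.mone || Nat.beq g Mdl.mone || (evenWitness false g && evenWitness true g))) = true := by
  decide +kernel

theorem app_mone : ∀ m : Fin 8, Mdl.app Mdl.mone m.1 = m.1 := by decide +kernel

end CfsgLib.L5Type
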