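import Cfsg.Agent.L5Type.Tab
import Cfsg.Agent.L5Type.SylData

/-!
Triple commutators in the Sylow subgroup of the model.
-/

set_option autoImplicit false
set_option maxRecDepth 100000

namespace CfsgLib.L5Type

open CfsgLib.HeldUniq

/-- One more factor. -/
def step (g : Nat) (L : List Nat) : List Nat := L ++ L.map (Mdl.mulN g)

/-- The ordered products of sublists. -/
def prodsL : List Nat → List Nat
  | [] => [Mdl.one]
  | g :: l => step g (prodsL l)

/-- Four linear forms on the Sylow subgroup. -/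
def phi (a : Nat) : Nat :=
  Mdl.bit (Mdl.gOf a) 1 + 2 * Mdl.bit (Mdl.gOf a) 5 + 4 * Mdl.bit (Mdl.vOf a) 0 + 8 * Mdl.bit (Mdl.pOf a) 2

/-- The parity of four bits. -/
def par (x : Nat) : Nat :=
  Nat.xor (Nat.xor (Mdl.bit x 0) (Mdl.bit x 1)) (Nat.xor (Mdl.bit x 2) (Mdl.bit x 3))

/-- The value of a form. -/
def form (m a : Nat) : Nat := par (Nat.land (phi a) m)

/-- Membership of one of the subgroups given by forms. -/
def inM (k a : Nat) : Bool :=
  Nat.beq (form (coverMasks.getD k (0, 0)).1 a) 0 && Nat.beq (form (coverMasks.getD k (0, 0)).2 a) 0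

/-- The position of a code in the Sylow subgroup. -/
def idx (a : Nat) : Nat :=
  a % 128 + 128 * (Mdl.bit (Mdl.gOf a) 1 + 2 * Mdl.bit (Mdl.gOf a) 2 + 4 * Mdl.bit (Mdl.gOf a) 5)

/-- The code at a position. -/
def deIdx (i : Nat) : Nat := Mdl.atPair (Mdl.uPairs.getD (i / 128) (Mdl.mone, Mdl.mone)) (i % 128)

/-- The set of positions as a number. -/
def maskL (L : List Nat) : Nat := L.foldl (fun m a => Nat.lor m (Nat.shiftLeft 1 (idx a))) 0

/-- Generators of the member `k` of the list. -/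
def gensOf (k : Nat) : List Nat := (sylGens.getD k ([], [], [])).1

/-- Generators of a subgroup containing its commutators. -/
def dGensOf (k : Nat) : List Nat := (sylGens.getD k ([], [], [])).2.1

/-- Generators of a subgroup containing its triple commutators. -/
def eGensOf (k : Nat) : List Nat := (sylGens.getD k ([], [], [])).2.2

/-- The commutator of two codes. -/
def commC (a b : Nat) : Nat := Mdl.mulN (Mdl.mulN (Mdl.mulN a b) (Mdl.invN a)) (Mdl.invN b)

/-- The checks for one subgroup. -/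
def gensOk (k : Nat) : Bool :=
  ((gensOf k ++ dGensOf k ++ eGensOf k).all inSB) &&
  ((dGensOf k).all fun d => (prodsL (gensOf k)).contains d) &&
  ((gensOf k).all fun g => (gensOf k).all fun h => (prodsL (dGensOf k)).contains (commC g h)) &&
  ((gensOf k).all fun g => (dGensOf k).all fun d => (prodsL (dGensOf k)).contains (Mdl.conjN g d)) &&
  ((dGensOf k).all fun d => (gensOf k).all fun g => (prodsL (eGensOf k)).contains (commC d g)) &&
  ((gensOf k).all fun g => (eGensOf k).all fun e => (prodsL (eGensOf k)).contains (Mdl.conjN g e))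

theorem gens_ok : ((List.range 6).all gensOk) = true := by decide +kernel

theorem whole_mask : Nat.beq (maskL (prodsL (gensOf 0))) (maskL sylL) = true := by decide +kernel

theorem cover_mask : ((List.range 5).all fun k =>
    Nat.beq (maskL (prodsL (gensOf (k + 1)))) (maskL (sylL.filter (inM k)))) = true := by decide +kernel

theorem deIdx_chk : (sylL.all fun a => Nat.beq (deIdx (idx a)) a) = true := by decide +kernel

theorem deIdx_idx {a : Nat} (ha : InS a) : deIdx (idx a) = a :=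
  Nat.eq_of_beq_eq_true (List.all_eq_true.1 deIdx_chk a ((mem_sylL a).2 ha))

theorem testBit_maskL (L : List Nat) (i : Nat) :
    (maskL L).testBit i = true ↔ ∃ a ∈ L, idx a = i := by
  have key : ∀ (L : List Nat) (m : Nat),
      (L.foldl (fun m a => Nat.lor m (Nat.shiftLeft 1 (idx a))) m).testBit i = true ↔
        m.testBit i = true ∨ ∃ a ∈ L, idx a = i := by
    intro L
    induction L with
    | nil => intro m; simp
    | cons a L ih =>
      intro m
      rw [List.foldl_cons, ih]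
      rw [show Nat.lor m (Nat.shiftLeft 1 (idx a)) = m ||| (1 <<< idx a) from rfl, Nat.testBit_or,
        Bool.or_eq_true, Nat.one_shiftLeft, Nat.testBit_two_pow, decide_eq_true_eq]
      simp only [List.mem_cons, exists_eq_or_imp]
      tauto
  rw [maskL, key]
  simp

theorem prodsL_inS {L : List Nat} (h : ∀ a ∈ L, InS a) : ∀ a ∈ prodsL L, InS a := by
  induction L with
  | nil => intro a ha; rw [prodsL, List.mem_singleton] at ha; exact ha ▸ InS.one
  | cons g L ih =>
    intro a ha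
    have ih' := ih fun b hb => h b (List.mem_cons_of_mem _ hb)
    rw [prodsL, step, List.mem_append, List.mem_map] at ha
    rcases ha with ha | ⟨b, hb, rfl⟩
    exacts [ih' a ha, (h g List.mem_cons_self).mul (ih' b hb)]

theorem mem_prods_of_mask {L L' : List Nat} (hL : ∀ a ∈ L, InS a) (h : maskL L = maskL L') {a : Nat}
    (ha : InS a) (ha' : a ∈ L') : a ∈ L := by
  obtain ⟨b, hb, e⟩ := (testBit_maskL L (idx a)).1 (h ▸ (testBit_maskL L' _).2 ⟨a, ha', rfl⟩)
  rw [← deIdx_idx ha, ← e, deIdx_idx (hL b hb)]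
  exact hb

theorem gens_facts {k : Nat} (hk : k < 6) :
    (∀ a ∈ gensOf k ++ dGensOf k ++ eGensOf k, InS a) ∧
    (∀ d ∈ dGensOf k, d ∈ prodsL (gensOf k)) ∧
    (∀ g ∈ gensOf k, ∀ h ∈ gensOf k, commC g h ∈ prodsL (dGensOf k)) ∧
    (∀ g ∈ gensOf k, ∀ d ∈ dGensOf k, Mdl.conjN g d ∈ prodsL (dGensOf k)) ∧
    (∀ d ∈ dGensOf k, ∀ g ∈ gensOf k, commC d g ∈ prodsL (eGensOf k)) ∧
    (∀ g ∈ gensOf k, ∀ e ∈ eGensOf k, Mdl.conjN g e ∈ prodsL (eGensOf k)) := by
  have h := List.all_eq_true.1 gens_ok k (List.mem_range.2 hk)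
  simp only [gensOk, Bool.and_eq_true, List.all_eq_true, List.contains_iff_mem, inSB_iff] at h
  exact ⟨h.1.1.1.1.1, h.1.1.1.1.2, h.1.1.1.2, h.1.1.2, h.1.2, h.2⟩

theorem phi_chk : (Mdl.uPairs.all fun x => Mdl.uPairs.all fun y =>
    Nat.beq (Mdl.bit (Mdl.mmul x.1 y.1) 1) (Nat.xor (Mdl.bit x.1 1) (Mdl.bit y.1 1)) &&
    Nat.beq (Mdl.bit (Mdl.mmul x.1 y.1) 5) (Nat.xor (Mdl.bit x.1 5) (Mdl.bit y.1 5)) &&
    (List.range 8).all fun u => (List.range 8).all fun w =>
      Nat.beq (Mdl.bit (Nat.xor u (Mdl.app x.1 w)) 0) (Nat.xor (Mdl.bit u 0) (Mdl.bit w 0)) &&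
      Nat.beq (Mdl.bit (Nat.xor u (Mdl.rapp w x.2)) 2) (Nat.xor (Mdl.bit u 2) (Mdl.bit w 2))) = true := by
  decide +kernel

theorem xor_four : ∀ a b c d e f g h : Fin 2,
    Nat.xor a.1 e.1 + 2 * Nat.xor b.1 f.1 + 4 * Nat.xor c.1 g.1 + 8 * Nat.xor d.1 h.1 =
      Nat.xor (a.1 + 2 * b.1 + 4 * c.1 + 8 * d.1) (e.1 + 2 * f.1 + 4 * g.1 + 8 * h.1) := by
  decide +kernel

theorem phi_mul {a b : Nat} (ha : InS a) (hb : InS b) :
    phi (Mdl.mulN a b) = Nat.xor (phi a) (phi b) := by
  have h := List.all_eq_true.1 (List.all_eq_true.1 phi_chk _ ha) _ hb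
  simp only [Bool.and_eq_true, List.all_eq_true, Nat.beq_eq, List.mem_range] at h
  obtain ⟨⟨h1, h2⟩, h3⟩ := h
  have hv := (h3 _ (Mdl.fields_lt a).1 _ (Mdl.fields_lt b).1).1
  have hp := (h3 _ (Mdl.fields_lt a).2.1 _ (Mdl.fields_lt b).2.1).2
  obtain ⟨e1, e2, e3, -⟩ := Mdl.mulN_fields a b
  rw [phi, e1, e2, e3, h1, h2, hv, hp]
  exact xor_four ⟨_, Mdl.bit_lt _ _⟩ ⟨_, Mdl.bit_lt _ _⟩ ⟨_, Mdl.bit_lt _ _⟩ ⟨_, Mdl.bit_lt _ _⟩
    ⟨_, Mdl.bit_lt _ _⟩ ⟨_, Mdl.bit_lt _ _⟩ ⟨_, Mdl.bit_lt _ _⟩ ⟨_, Mdl.bit_lt _ _⟩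

theorem phi_lt (a : Nat) : phi a < 16 := by
  have := Mdl.bit_lt (Mdl.gOf a) 1; have := Mdl.bit_lt (Mdl.gOf a) 5
  have := Mdl.bit_lt (Mdl.vOf a) 0; have := Mdl.bit_lt (Mdl.pOf a) 2
  rw [phi]; omega

theorem par_land : ∀ x < 16, ∀ y < 16, ∀ m < 16,
    par (Nat.land (Nat.xor x y) m) = Nat.xor (par (Nat.land x m)) (par (Nat.land y m)) := by
  decide +kernel

theorem mask_lt : ∀ k < 5, (coverMasks.getD k (0, 0)).1 < 16 ∧ (coverMasks.getD k (0, 0)).2 < 16 := by
  decide +kernel

theorem form_mul {m a b : Nat} (hm : m < 16) (ha : InS a) (hb : InS b) :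
    form m (Mdl.mulN a b) = Nat.xor (form m a) (form m b) := by
  rw [form, phi_mul ha hb]
  exact par_land _ (phi_lt a) _ (phi_lt b) m hm

theorem form_conj {m n a : Nat} (hm : m < 16) (hn : InS n) (ha : InS a) :
    form m (Mdl.conjN n a) = form m a := by
  have h0 : Nat.xor (form m n) (form m (Mdl.invN n)) = 0 := by
    rw [← form_mul hm hn hn.inv, mulN_invN hn]
    revert hm; revert m; decide +kernel
  rw [Mdl.conjN, form_mul hm (hn.mul ha) hn.inv, form_mul hm hn ha]
  show (form m n ^^^ form m a) ^^^ form m (Mdl.invN n) = form m a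
  rw [Nat.xor_comm (form m n), Nat.xor_assoc]
  exact (congrArg (form m a ^^^ ·) h0).trans (Nat.xor_zero _)

theorem inM_conj {k n a : Nat} (hk : k < 5) (hn : InS n) (ha : InS a) :
    inM k (Mdl.conjN n a) = inM k a := by
  rw [inM, inM, form_conj (mask_lt k hk).1 hn ha, form_conj (mask_lt k hk).2 hn ha]

/-- The representative table covers the involutions. -/
theorem invTab_cover : (sylL.all fun a => !Nat.beq (Mdl.mulN a a) Mdl.one || Nat.beq a Mdl.one ||
    sylInvTab.any fun x => Nat.beq x.1 a) = true := by decide +kernel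

theorem invTab_chk : (sylInvTab.all fun x => inSB x.2.1 && inSB x.2.2 &&
    Nat.beq (Mdl.conjN x.2.2 x.2.1) x.1 &&
    (omega.contains x.2.1 && Nat.beq x.1 x.2.1 || omega.contains x.1 ||
      coverReps.any fun r => Nat.beq r.1 x.2.1)) = true := by decide +kernel

theorem coverReps_chk : (coverReps.all fun r => inSB r.1 && Nat.blt r.2 5 &&
    sylL.all fun a => !Mdl.commN a r.1 || inM r.2 a) = true := by decide +kernel

/-- The linear form whose kernel is the centralizer of a member of `omega`. -/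
def omMask (w : Nat) : Nat :=
  cond (Nat.beq (Mdl.vOf w) 0) (cond (Nat.beq (Mdl.pOf w) 0) 0 4) (cond (Nat.beq (Mdl.pOf w) 0) 8 12)

theorem omega_comm : (omega.all fun w => inSB w &&
    sylL.all fun a => Mdl.commN a w == Nat.beq (form (omMask w) a) 0) = true := by decide +kernel

theorem omega_pairs : (omega.all fun w => omega.all fun y =>
    Nat.beq y Mdl.one || Nat.beq y Mdl.tN || Nat.beq w Mdl.one || Nat.beq w Mdl.tN ||
    Nat.beq y w || Nat.beq y (Mdl.mulN w Mdl.tN) || !Nat.beq (omMask w) (omMask y)) = true := by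
  decide +kernel

theorem omega_forms : ((List.range 16).all fun x => [4, 8, 12].all fun (m : Nat) => [4, 8, 12].all fun (m' : Nat) =>
    Nat.beq m m' || !Nat.beq (par (Nat.land x m)) 0 || !Nat.beq (par (Nat.land x m')) 0 ||
      (Nat.beq (par (Nat.land x 4)) 0 && Nat.beq (par (Nat.land x 8)) 0)) = true := by decide +kernel

theorem omega_mask_cases : ∀ w ∈ omega, w = Mdl.one ∨ w = Mdl.tN ∨ omMask w ∈ [4, 8, 12] := by decide +kernel

theorem prods_small : (((List.range 5).all fun k => (prodsL (eGensOf (k + 1))).all fun e =>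
    Nat.beq e Mdl.one || Nat.beq e Mdl.tN) &&
    (prodsL (eGensOf 0)).all fun e => omega.contains e) = true := by decide +kernel

theorem cover_first : coverMasks.getD 0 (0, 0) = (4, 8) := rfl

end CfsgLib.L5Type
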