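import Cfsg.Agent.Trichotomy.Pattern
import Cfsg.Agent.Trichotomy.FusionGen

/-!
A 2-subgroup written as the Sylow subgroup of the model `2^(1+6):L3(2)`.
-/

set_option autoImplicit false
set_option maxRecDepth 100000

namespace CfsgLib.L5Type

open CfsgLib.HeldUniq

/-- A code of an element of the Sylow subgroup of the model. -/
def InS (a : Nat) : Prop := (Mdl.gOf a, Mdl.hOf a) ∈ Mdl.uPairs

/-- The same, as a Boolean. -/
def inSB (a : Nat) : Bool := Mdl.uPairs.contains (Mdl.gOf a, Mdl.hOf a)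

theorem inSB_iff (a : Nat) : inSB a = true ↔ InS a := List.contains_iff_mem

/-- All codes of the Sylow subgroup. -/
def sylL : List Nat := Mdl.codesOf Mdl.uPairs

theorem mem_sylL (a : Nat) : a ∈ sylL ↔ InS a := Mdl.mem_codesOf (Mdl.subOk_lt Mdl.u_ok) a

theorem sylL_nodup : sylL.Nodup :=
  Mdl.nodup_codesOf (Mdl.subOk_lt Mdl.u_ok) (Mdl.subOk_facts Mdl.u_ok).2.2.2

theorem sylL_length : sylL.length = 1024 := (Mdl.length_codesOf _).trans rfl

theorem InS.mem {a : Nat} (h : InS a) : Mdl.mem a = true := Frame.mem_of_pair Mdl.u_ok h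

theorem InS.mul {a b : Nat} (ha : InS a) (hb : InS b) : InS (Mdl.mulN a b) :=
  Frame.sub_mul_mem Mdl.u_ok ha hb

theorem InS.one : InS Mdl.one := (Mdl.subOk_facts Mdl.u_ok).2.1

theorem InS.tN : InS Mdl.tN := by rw [← inSB_iff]; decide +kernel

theorem u_swap : ∀ x ∈ Mdl.uPairs, (x.2, x.1) ∈ Mdl.uPairs ∧ x.2 < 512 := by decide +kernel

theorem InS.inv {a : Nat} (ha : InS a) : InS (Mdl.invN a) := by
  obtain ⟨hv, hp, hc, -⟩ := Mdl.fields_lt a
  obtain ⟨h1, h2⟩ := u_swap _ ha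
  have e := Mdl.mk_fields (v := Mdl.app (Mdl.hOf a) (Mdl.vOf a)) (p := Mdl.rapp (Mdl.pOf a) (Mdl.gOf a))
    (c := Nat.xor (Mdl.cOf a) (Mdl.dot (Mdl.pOf a) (Mdl.vOf a))) (g := Mdl.hOf a) (h := Mdl.gOf a)
    (Mdl.app_lt _ _) (Mdl.rapp_lt _ _) (Mdl.xor_lt2 hc (Mdl.dot_lt _ _)) h2
  show (Mdl.gOf (Mdl.invN a), Mdl.hOf (Mdl.invN a)) ∈ Mdl.uPairs
  rw [Mdl.invN, e.2.2.2.1, e.2.2.2.2]
  exact h1

theorem inv_chk : (sylL.all fun a => Nat.beq (Mdl.mulN a (Mdl.invN a)) Mdl.one) = true := by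
  decide +kernel

theorem mulN_invN {a : Nat} (ha : InS a) : Mdl.mulN a (Mdl.invN a) = Mdl.one :=
  Nat.eq_of_beq_eq_true (List.all_eq_true.1 inv_chk a ((mem_sylL a).2 ha))

/-- A subgroup written with the codes. -/
structure Tab {G : Type*} [Group G] (S : Subgroup G) where
  f : Nat → G
  map_mul : ∀ a b, InS a → InS b → f (Mdl.mulN a b) = f a * f b
  inj : ∀ a b, InS a → InS b → f a = f b → a = b
  mem_iff : ∀ g, g ∈ S ↔ ∃ a, InS a ∧ f a = g

namespace Tab

variable {G : Type*} [Group G] {S : Subgroup G} (T : Tab S)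

theorem mem {a : Nat} (ha : InS a) : T.f a ∈ S := (T.mem_iff _).2 ⟨a, ha, rfl⟩

theorem one : T.f Mdl.one = 1 := by
  have h := T.map_mul Mdl.one Mdl.one InS.one InS.one
  rw [show Mdl.mulN Mdl.one Mdl.one = Mdl.one from rfl] at h
  exact mul_eq_left.1 h.symm

theorem inv {a : Nat} (ha : InS a) : T.f (Mdl.invN a) = (T.f a)⁻¹ := by
  refine eq_inv_of_mul_eq_one_right ?_
  rw [← T.map_mul _ _ ha ha.inv, mulN_invN ha, T.one]

theorem eq_one_iff {a : Nat} (ha : InS a) : T.f a = 1 ↔ a = Mdl.one :=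
  ⟨fun e => T.inj _ _ ha InS.one (e.trans T.one.symm), fun e => by rw [e, T.one]⟩

theorem comm_iff {a b : Nat} (ha : InS a) (hb : InS b) :
    T.f a * T.f b = T.f b * T.f a ↔ Mdl.mulN a b = Mdl.mulN b a := by
  rw [← T.map_mul a b ha hb, ← T.map_mul b a hb ha]
  exact ⟨T.inj _ _ (ha.mul hb) (hb.mul ha), fun e => by rw [e]⟩

theorem commN_iff {a b : Nat} (ha : InS a) (hb : InS b) :
    Mdl.commN a b = true ↔ T.f a * T.f b = T.f b * T.f a := by
  rw [Mdl.commN, Nat.beq_eq, T.comm_iff ha hb]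

theorem conj {a b : Nat} (ha : InS a) (hb : InS b) :
    T.f a * T.f b * (T.f a)⁻¹ = T.f (Mdl.conjN a b) := by
  rw [Mdl.conjN, T.map_mul _ _ (ha.mul hb) ha.inv, T.map_mul _ _ ha hb, T.inv ha]

theorem tN_central {g : G} (hg : g ∈ S) : g * T.f Mdl.tN = T.f Mdl.tN * g := by
  obtain ⟨a, ha, rfl⟩ := (T.mem_iff g).1 hg
  rw [T.comm_iff ha InS.tN]
  exact Nat.eq_of_beq_eq_true (List.all_eq_true.1 tN_chk a ((mem_sylL a).2 ha))
where
  tN_chk : (sylL.all fun a => Nat.beq (Mdl.mulN a Mdl.tN) (Mdl.mulN Mdl.tN a)) = true := by decide +kernel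

theorem tN_sq : T.f Mdl.tN * T.f Mdl.tN = 1 := by
  rw [← T.map_mul _ _ InS.tN InS.tN, show Mdl.mulN Mdl.tN Mdl.tN = Mdl.one from rfl, T.one]

theorem tN_ne : T.f Mdl.tN ≠ 1 := fun e => absurd ((T.eq_one_iff InS.tN).1 e) (by decide)

theorem card_of_codes {X : Set G} (L : List Nat) (hn : L.Nodup) (hm : ∀ a ∈ L, InS a)
    (h : ∀ g, g ∈ X ↔ ∃ a ∈ L, T.f a = g) : Nat.card X = L.length := by
  classical
  have e : X = ((L.map T.f).toFinset : Set G) := by
    ext g; simp [h]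
  rw [e, Nat.card_coe_set_eq, Set.ncard_coe_finset,
    List.toFinset_card_of_nodup (List.Nodup.map_on (fun a ha b hb e => T.inj a b (hm a ha) (hm b hb) e) hn),
    List.length_map]

include T in
theorem card : Nat.card S = 1024 := by
  rw [← sylL_length]
  exact T.card_of_codes (X := (S : Set G)) sylL sylL_nodup (fun a ha => (mem_sylL a).1 ha) fun g => by
    rw [SetLike.mem_coe, T.mem_iff]
    exact exists_congr fun a => and_congr_left' (mem_sylL a).symm

/-- Transport along a homomorphism which is injective on the subgroup. -/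
def map {H : Type*} [Group H] (φ : G →* H) (hφ : ∀ x ∈ S, φ x = 1 → x = 1) : Tab (S.map φ) where
  f a := φ (T.f a)
  map_mul a b ha hb := by rw [T.map_mul a b ha hb, _root_.map_mul]
  inj a b ha hb h := T.inj a b ha hb (mul_inv_eq_one.1 (hφ _ (mul_mem (T.mem ha) (inv_mem (T.mem hb)))
    (by rw [_root_.map_mul, map_inv, h, mul_inv_cancel])))
  mem_iff g := by
    constructor
    · rintro ⟨x, hx, rfl⟩
      obtain ⟨a, ha, rfl⟩ := (T.mem_iff x).1 hx
      exact ⟨a, ha, rfl⟩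
    · rintro ⟨a, ha, rfl⟩
      exact ⟨_, T.mem ha, rfl⟩

end Tab

end CfsgLib.L5Type
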