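import Cfsg.Agent.L5Type.Control

/-!
Finite facts on an involution outside the class of the centre and a four-group through it.
-/

set_option autoImplicit false
set_option maxRecDepth 100000

namespace CfsgLib.L5Type

open CfsgLib.HeldUniq
open CfsgLib.Trichotomy (kind isT patBoth)

/-- The involution. -/
def vC : Nat := 17926284

/-- The second generator of the four-group. -/
def rC' : Nat := 18189000

/-- The third involution of the four-group. -/
def wC : Nat := 18188996

theorem four_facts : inSB vC = true ∧ inSB rC' = true ∧ inSB wC = true ∧ Mdl.mulN vC rC' = wC ∧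
    Mdl.mulN rC' vC = wC ∧ Mdl.mulN vC wC = rC' ∧
    Mdl.mulN rC' rC' = Mdl.one ∧ Mdl.mulN vC vC = Mdl.one ∧ Mdl.mulN wC wC = Mdl.one ∧
    vC ≠ Mdl.one ∧ rC' ≠ Mdl.one ∧ wC ≠ Mdl.one ∧ rC' ≠ vC ∧ rC' ≠ wC ∧
    vC ∈ wL false ∧ vC ∈ wL true ∧ rC' ∈ wL false ∧ rC' ∈ wL true ∧ kind vC = 3 ∧ kind rC' = 5 ∧ kind wC = 5 := by
  decide +kernel

/-- The codes of the centralizer of `vC`. -/
def cvL : List Nat := sylL.filter fun a => Mdl.commN a vC

/-- The codes of the centralizer of the four-group. -/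
def crL : List Nat := cvL.filter fun a => Mdl.commN a rC'

theorem cv_count : cvL.length = 512 ∧ crL.length = 256 := by decide +kernel

theorem cv_centre : (cvL.all fun a => [Mdl.one, Mdl.tN, vC, Mdl.mulN vC Mdl.tN].contains a ||
    cvL.any fun c => !Mdl.commN a c) = true := by decide +kernel

theorem cv_norm : (cvL.all fun a => Nat.beq (Mdl.conjN a rC') rC' || Nat.beq (Mdl.conjN a rC') wC) = true ∧
    (cvL.any fun a => Nat.beq (Mdl.conjN a rC') wC) = true := by
  decide +kernel

theorem cr_pure : ∀ d0 d3 : Bool, (crL.all fun a => !isT (patBoth d0 d3) a ||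
    (wL false).contains a || (wL true).contains a) = true := by decide +kernel

/-- Conjugates `f` of the centre in a list with `v f` and `y f` conjugates of it. -/
def prof2 (b : List Bool) (W : List Nat) (y : Nat) : Nat :=
  W.countP fun f => isT b f && isT b (Mdl.mulN vC f) && isT b (Mdl.mulN y f)

theorem four_sig : ∀ d0 d3 σ : Bool, ((wL σ).all fun y => Nat.beq y Mdl.one || Nat.beq y vC ||
    Nat.beq y rC' || Nat.beq y wC ||
    isT (patBoth d0 d3) y || isT (patBoth d0 d3) (Mdl.mulN vC y) ||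
    !Nat.beq (prof2 (patBoth d0 d3) (wL σ) y) (prof2 (patBoth d0 d3) (wL σ) rC')) = true := by decide +kernel

theorem vec_chk : (Mdl.slPairs.all fun x => !(Nat.beq (Mdl.app x.1 4) 4 && Nat.beq (Mdl.rapp 1 x.2) 1) ||
    Mdl.uPairs.contains x) = true := by decide +kernel

theorem vC_fields : Mdl.vOf vC = 4 ∧ Mdl.pOf vC = 1 ∧ Mdl.gOf vC = Mdl.mone ∧ Mdl.hOf vC = Mdl.mone ∧
    (∀ v < 8, Mdl.app Mdl.mone v = v ∧ Mdl.rapp v Mdl.mone = v) := by decide +kernel

/-- The centralizer of `vC` in the model is in the Sylow subgroup. -/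
theorem inS_of_comm_v {n : Nat} (hn : Mdl.mem n = true) (h : Mdl.mulN n vC = Mdl.mulN vC n) : InS n := by
  obtain ⟨hv, hp, hg, hh, hu⟩ := vC_fields
  obtain ⟨hv1, hp1, -, -⟩ := Mdl.fields_lt n
  have e1 := congrArg Mdl.vOf h
  have e2 := congrArg Mdl.pOf h
  rw [(Mdl.mulN_fields n vC).1, (Mdl.mulN_fields vC n).1, hv, hg, (hu _ hv1).1] at e1
  rw [(Mdl.mulN_fields n vC).2.1, (Mdl.mulN_fields vC n).2.1, hp, hh, (hu _ hp1).2] at e2
  have f1 : Mdl.app (Mdl.gOf n) 4 = 4 := (Nat.xor_right_inj).1 (e1.trans (Nat.xor_comm _ _))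
  have f2 : Mdl.rapp 1 (Mdl.hOf n) = 1 := (Nat.xor_right_inj).1 (e2.trans (Nat.xor_comm _ _))
  have hx := List.all_eq_true.1 vec_chk _ ((Mdl.mem_iff_pair n).1 hn)
  simp only [f1, f2, Nat.beq_refl, Bool.and_self, Bool.not_true, Bool.false_or, List.contains_iff_mem] at hx
  exact hx

end CfsgLib.L5Type
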